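import Cfsg.Agent.BGSigma.TauTwo
import Cfsg.Agent.BGSigma.Inputs
import Cfsg.Agent.OddLocal43.Coprime

/-!
# BG 12.1: a complement `E` to `M_σ` in `M`

Basic facts about a complement `E`, the nilpotence of `E'` and the cyclic Hall subgroups for `τ₁` and `τ₃`.
-/

set_option autoImplicit false

namespace Cfsg.Agent.BGTwelve

open Cfsg BGSigma Subgroup
open scoped commutatorElement

universe u

variable {G : Type u} [Group G] [Finite G]

/-- In a nilpotent group a subgroup contains every subgroup whose primes do not divide its index. -/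
theorem le_of_nilpotent_of_not_dvd {N H K : Subgroup G} (hN : Group.IsNilpotent N) (hHN : H ≤ N)
    (hKN : K ≤ N) (hd : ∀ q : ℕ, q.Prime → q ∣ Nat.card K → ¬ q ∣ H.relIndex N) : K ≤ H := by
  refine le_of_sylow_le fun q hq hqK => ?_
  haveI := Fact.mk hq
  let S : Sylow q K := default
  refine ⟨S, ?_⟩
  let T : Sylow q (H.subgroupOf N) := default
  have hTp : IsPGroup q ((T : Subgroup (H.subgroupOf N)).map (H.subgroupOf N).subtype) := T.isPGroup'.map _
  have hTd : ¬ q ∣ ((T : Subgroup (H.subgroupOf N)).map (H.subgroupOf N).subtype).index := by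
    rw [index_map_subtype]
    intro h
    rcases (Nat.Prime.dvd_mul hq).mp h with h | h
    · exact T.not_dvd_index h
    · exact hd q hq hqK h
  rintro _ ⟨x, hx, rfl⟩
  obtain ⟨j, hj⟩ := S.isPGroup' ⟨x, hx⟩
  have hx' : (⟨(x : G), hKN x.2⟩ : N) ^ q ^ j = 1 :=
    Subtype.ext (by simpa using congrArg (fun y : (S : Subgroup K) => ((y : K) : G)) hj)
  obtain ⟨k, -, hk⟩ := (Nat.dvd_prime_pow hq).1 (orderOf_dvd_of_pow_eq_one hx')
  obtain ⟨y, -, hy⟩ := Transfer.nilpotent_mem_sylow hN (hTp.toSylow hTd) hk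
  have := y.2
  rw [mem_subgroupOf, show ((y : N) : G) = (x : G) from congrArg Subtype.val hy] at this
  exact this

/-- A nilpotent group with abelian Sylow subgroups is abelian. -/
theorem isMulCommutative_of_nilpotent {N : Subgroup G} (hN : Group.IsNilpotent N)
    (h : ∀ q : ℕ, q.Prime → ∀ S : Subgroup G, S ≤ N → IsPGroup q S → IsMulCommutative S) :
    IsMulCommutative N := by
  refine isMulCommutative_of_le_centralizer (le_of_sylow_le fun q hq _ => ?_)
  haveI := Fact.mk hq
  let S : Sylow q N := default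
  refine ⟨S, ?_⟩
  set S₀ := (S : Subgroup N).map N.subtype with hS₀
  refine Subgroup.le_centralizer_iff.mp (le_of_sylow_le fun r hr _ => ?_)
  haveI := Fact.mk hr
  let T : Sylow r N := default
  refine ⟨T, ?_⟩
  set T₀ := (T : Subgroup N).map N.subtype with hT₀
  haveI := hN
  by_cases hrq : r = q
  · subst hrq
    have hle : T₀ ≤ S₀ := by
      rintro _ ⟨x, hx, rfl⟩
      obtain ⟨j, hj⟩ := T.isPGroup' ⟨x, hx⟩
      have hj' : x ^ r ^ j = 1 := congrArg Subtype.val hj
      obtain ⟨k, -, hk⟩ := (Nat.dvd_prime_pow hr).1 (orderOf_dvd_of_pow_eq_one hj')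
      exact mem_map_of_mem _ (Transfer.nilpotent_mem_sylow hN S hk)
    exact hle.trans (le_centralizer_self_of_comm (h r hr S₀ (map_subtype_le _) (S.isPGroup'.map _)))
  · haveI : (S : Subgroup N).Normal := Transfer.nilpotent_sylow_normal hN S
    haveI : (T : Subgroup N).Normal := Transfer.nilpotent_sylow_normal hN T
    have hn : ∀ {U : Subgroup N}, U.Normal → N ≤ normalizer ((U.map N.subtype : Subgroup G) : Set G) :=
      fun {U} hU x hx => U.le_normalizer_map N.subtype
        ⟨⟨x, hx⟩, by rw [normalizer_eq_top_iff.mpr hU]; trivial, rfl⟩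
    refine normal_coprime_le_centralizer (map_subtype_le _) (map_subtype_le _) (hn inferInstance)
      (hn inferInstance) ?_
    obtain ⟨i, hi⟩ := (S.isPGroup'.map N.subtype).exists_card_eq
    obtain ⟨j, hj⟩ := (T.isPGroup'.map N.subtype).exists_card_eq
    rw [hi, hj]
    exact ((Nat.coprime_primes hq hr).mpr (Ne.symm hrq)).pow i j

/-- A nilpotent subgroup of odd order without elementary abelian subgroups of order `q²` is cyclic. -/
theorem isCyclic_of_nilpotent_rankLE_one {N : Subgroup G} (hN : Group.IsNilpotent N)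
    (hodd : Odd (Nat.card N)) (hr : RankLE 1 N) : IsCyclic N := by
  haveI := hN
  haveI := isZGroup_of_rankLE_one hodd hr
  infer_instance

section

variable {M E : Subgroup G}

theorem compl_le (hE : IsComplIn E (sigmaCore M) M) : E ≤ M := hE.1

theorem compl_sup_eq (hE : IsComplIn E (sigmaCore M) M) : E ⊔ sigmaCore M = M := by
  refine le_antisymm (sup_le hE.1 hE.2.1) fun m hm => ?_
  obtain ⟨a, ha, b, hb, rfl⟩ := hE.2.2.2 m hm
  exact mul_mem_sup ha hb

theorem compl_le_normalizer (hE : IsComplIn E (sigmaCore M) M) :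
    E ≤ normalizer (sigmaCore M : Set G) :=
  hE.1.trans (le_normalizer_sigmaCore M)

theorem card_compl_mul (hE : IsComplIn E (sigmaCore M) M) :
    Nat.card E * Nat.card (sigmaCore M) = Nat.card M := by
  have h1 : (sigmaCore M).relIndex (E ⊔ sigmaCore M) = Nat.card E := by
    rw [Coprime.relIndex_sup_of_le_normalizer (compl_le_normalizer hE), ← inf_relIndex_left,
      hE.2.2.1, relIndex_bot_left]
  rw [compl_sup_eq hE] at h1
  rw [← h1, relIndex_mul_card hE.2.1]

theorem card_compl (hE : IsComplIn E (sigmaCore M) M) :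
    Nat.card E = (sigmaCore M).relIndex M :=
  Nat.eq_of_mul_eq_mul_right Nat.card_pos
    ((card_compl_mul hE).trans (relIndex_mul_card hE.2.1).symm)

variable (hG : IsMinSimpleOddOrder G) (hM : IsCoatom M) (hE : IsComplIn E (sigmaCore M) M)
include hG hM hE

theorem isPiSub_compl : IsPiSub {q | q ∉ sigma M} E := fun q hq hd hs =>
  (sigmaCore_hall hG (uniquenessTheorem hG) smallRankFrattini fittingRankTwoDerived hM).1.2.2 q hq hs
    (card_compl hE ▸ hd)

theorem not_mem_sigma_of_dvd {q : ℕ} (hq : q.Prime) (hd : q ∣ Nat.card E) : q ∉ sigma M :=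
  isPiSub_compl hG hM hE q hq hd

theorem compl_ne_top : E ≠ ⊤ := fun h => hM.1 (top_le_iff.mp (h ▸ hE.1))

theorem compl_isSolvable : Group.IsSolvable E := isSolvable_of_ne_top hG (compl_ne_top hG hM hE)

theorem not_dvd_relIndex_compl {q : ℕ} (hq : q.Prime) (hs : q ∉ sigma M) : ¬ q ∣ E.relIndex M := by
  have h := relIndex_mul_card hE.1
  rw [← card_compl_mul hE, mul_comm (Nat.card E)] at h
  rw [Nat.eq_of_mul_eq_mul_right Nat.card_pos h]
  exact fun hd => hs (isPiSub_sigmaCore M q hq hd)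

/-- Every subgroup of `M` without primes of `σ(M)` is conjugate into `E` by an element of `M_σ`. -/
theorem exists_conj_le_compl {Y : Subgroup G} (hY : Y ≤ M)
    (hYs : ∀ q : ℕ, q.Prime → q ∣ Nat.card Y → q ∉ sigma M) :
    ∃ m ∈ sigmaCore M, ∀ y ∈ Y, m * y * m⁻¹ ∈ E := by
  have hσ : Group.IsSolvable (sigmaCore M) :=
    Coprime.solvable_of_le hE.2.1 (coatom_isSolvable hG hM)
  refine Coprime.exists_conj_le (sigmaCore M) Y E (hY.trans (le_normalizer_sigmaCore M))
    (compl_le_normalizer hE) ?_ ?_ ?_ (Or.inr hσ)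
  · rw [sup_comm, compl_sup_eq hE]; exact hY
  · exact Nat.coprime_of_dvd fun q hq h1 h2 => hYs q hq h1 (isPiSub_sigmaCore M q hq h2)
  · exact Nat.coprime_of_dvd fun q hq h1 h2 =>
      not_mem_sigma_of_dvd hG hM hE hq h1 (isPiSub_sigmaCore M q hq h2)

theorem prankLE_compl {q : ℕ} (hq : q.Prime) : PRankLE q 2 E := by
  by_cases hd : q ∣ Nat.card E
  · exact prankLE_subgroup hE.1 (not_sigma_rank_two hG (uniquenessTheorem hG) hM hq
      (not_mem_sigma_of_dvd hG hM hE hq hd))
  · exact prankLE_of_not_dvd hq hd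

/-- BG 12.1 (a). -/
theorem isNilpotent_derived_compl : Group.IsNilpotent ↥⁅E, E⁆ := by
  have h := fittingRankTwoDerived (H := E) (compl_isSolvable hG hM hE) (odd_card_subgroup hG E)
    fun q hq => prankLE_of_injective (fittingSubgroup E).subtype Subtype.val_injective
      (prankLE_compl hG hM hE hq)
  rw [← Subgroup.map_subtype_commutator E]
  haveI := h
  exact Group.nilpotent_of_mulEquiv ((commutator E).equivMapOfInjective E.subtype E.subtype_injective)

/-- BG 12.1 (d): the Hall `τ₁`-subgroups of `E` are cyclic. -/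
theorem isCyclic_hall_tau1 {E₁ : Subgroup G} (h1 : IsPiHallOf (tau1 M) E₁ E) : IsCyclic E₁ := by
  have hbot : E₁ ⊓ ⁅E, E⁆ = ⊥ := eq_bot_of_card_eq _ (Nat.eq_one_iff_not_exists_prime_dvd.2
    fun q hq hd => (h1.2.1 q hq (hd.trans (card_dvd_of_le inf_le_left))).2.2.2.1
      (hd.trans (card_dvd_of_le (inf_le_right.trans (commutator_mono hE.1 hE.1)))))
  haveI : IsMulCommutative E₁ := ⟨⟨fun a b => Subtype.ext (commutatorElement_eq_one_iff_mul_comm.1
    (mem_bot.1 (hbot ▸ mem_inf.2 ⟨commutator_le_self E₁ (commutator_mem_commutator a.2 b.2),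
      commutator_mem_commutator (h1.1 a.2) (h1.1 b.2)⟩)))⟩⟩
  have hnil : Group.IsNilpotent E₁ := by open scoped IsMulCommutative in infer_instance
  refine isCyclic_of_nilpotent_rankLE_one hnil (odd_card_subgroup hG E₁) fun q hq => ?_
  by_cases hd : q ∣ Nat.card E₁
  · exact prankLE_subgroup (h1.1.trans hE.1) (h1.2.1 q hq hd).2.2.2.2
  · exact prankLE_of_not_dvd hq hd

theorem dvd_derived_of_mem_tau3 {q : ℕ} (hq : q ∈ tau3 M) : q ∣ Nat.card ↥⁅E, E⁆ := by
  obtain ⟨hqp, hqs, hqd, -⟩ := hq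
  have hle : ⁅M, M⁆ ≤ sigmaCore M ⊔ ⁅E, E⁆ := by
    rw [commutator_le]
    intro x hx y hy
    haveI : ((sigmaCore M).subgroupOf M).Normal :=
      (normal_subgroupOf_iff_le_normalizer hE.2.1).2 (le_normalizer_sigmaCore M)
    obtain ⟨a, ha, b, hb, rfl⟩ := hE.2.2.2 x hx
    obtain ⟨c, hc, d, hd, rfl⟩ := hE.2.2.2 y hy
    set K := (sigmaCore M).subgroupOf M
    have hmk : (QuotientGroup.mk (⁅(⟨a * b, hx⟩ : M), ⟨c * d, hy⟩⁆) : M ⧸ K) =
        QuotientGroup.mk (⁅(⟨a, hE.1 ha⟩ : M), ⟨c, hE.1 hc⟩⁆) := by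
      have e1 : (QuotientGroup.mk (⟨a * b, hx⟩ : M) : M ⧸ K) = QuotientGroup.mk (⟨a, hE.1 ha⟩ : M) :=
        (QuotientGroup.eq).2 (by simpa [K, mem_subgroupOf] using inv_mem hb)
      have e2 : (QuotientGroup.mk (⟨c * d, hy⟩ : M) : M ⧸ K) = QuotientGroup.mk (⟨c, hE.1 hc⟩ : M) :=
        (QuotientGroup.eq).2 (by simpa [K, mem_subgroupOf] using inv_mem hd)
      simp only [commutatorElement_def, QuotientGroup.mk_mul, QuotientGroup.mk_inv, e1, e2]
    obtain ⟨n, hn, hne⟩ : ∃ n ∈ sigmaCore M, ⁅a * b, c * d⁆ = ⁅a, c⁆ * n := by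
      have h := (QuotientGroup.eq).1 hmk.symm
      rw [mem_subgroupOf] at h
      refine ⟨_, h, ?_⟩
      simp [commutatorElement_def, mul_assoc]
    rw [hne]
    exact mul_mem (mem_sup_right (commutator_mem_commutator ha hc)) (mem_sup_left hn)
  have hd2 := hqd.trans (card_dvd_of_le hle)
  rw [← relIndex_mul_card (le_sup_left : sigmaCore M ≤ sigmaCore M ⊔ ⁅E, E⁆), sup_comm,
    Coprime.relIndex_sup_of_le_normalizer ((commutator_le_self E).trans (compl_le_normalizer hE))] at hd2
  rcases (Nat.Prime.dvd_mul hqp).1 hd2 with h | h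
  · exact h.trans (relIndex_dvd_card _ _)
  · exact absurd (isPiSub_sigmaCore M q hqp h) hqs

/-- BG 12.1 (b), (d) for `τ₃`. -/
theorem hall_tau3 {E₃ : Subgroup G} (h3 : IsPiHallOf (tau3 M) E₃ E) :
    IsCyclic E₃ ∧ E₃ ≤ ⁅E, E⁆ ∧ E ≤ normalizer (E₃ : Set G) := by
  have hE'E : ⁅E, E⁆ ≤ E := commutator_le_self E
  have hE'n : E ≤ normalizer ((⁅E, E⁆ : Subgroup G) : Set G) :=
    OddLocal43.normalizes_commutator le_normalizer le_normalizer
  have hle : E₃ ≤ ⁅E, E⁆ := le_of_sylow_le fun q hq hd => by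
    haveI := Fact.mk hq
    have hτ := h3.2.1 q hq hd
    let S : Sylow q E₃ := default
    refine ⟨S, le_of_coprime_relIndex hE'E hE'n ((map_subtype_le _).trans h3.1) ?_⟩
    obtain ⟨j, hj⟩ := (S.isPGroup'.map E₃.subtype).exists_card_eq
    rw [hj]
    refine ((hq.coprime_iff_not_dvd).2 fun hdi => ?_).pow_left j
    -- a cyclic Sylow subgroup
    let P : Sylow q E := default
    haveI hPc : IsCyclic P := by
      haveI : IsZGroup (P : Subgroup E) := isZGroup_of_rankLE_one
        ((odd_card_subgroup hG E).of_dvd_nat (card_subgroup_dvd_card _)) fun r hr => by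
          by_cases hrd : r ∣ Nat.card (P : Subgroup E)
          · obtain ⟨i, hi⟩ := P.isPGroup'.exists_card_eq
            rw [hi] at hrd
            obtain rfl := (Nat.prime_dvd_prime_iff_eq hr hq).1 (hr.dvd_of_dvd_pow hrd)
            exact prankLE_of_injective (G := ↥E) (P : Subgroup E).subtype Subtype.val_injective
              (prankLE_subgroup hE.1 hτ.2.2.2)
          · exact prankLE_of_not_dvd hr hrd
      haveI := P.isPGroup'.isNilpotent
      infer_instance
    rcases Sylow.not_dvd_card_commutator_or_not_dvd_index_commutator P with h | h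
    · refine h ?_
      rw [← card_map_of_injective E.subtype_injective, Subgroup.map_subtype_commutator]
      exact dvd_derived_of_mem_tau3 hG hM hE hτ
    · refine h ?_
      rwa [Subgroup.relIndex, ← Subgroup.map_subtype_commutator, Subgroup.subgroupOf,
        comap_map_eq_self_of_injective E.subtype_injective] at hdi
  have hnil : Group.IsNilpotent E₃ :=
    Fitting.isNilpotent_of_le (isNilpotent_derived_compl hG hM hE) hle
  refine ⟨isCyclic_of_nilpotent_rankLE_one hnil (odd_card_subgroup hG E₃) fun q hq => ?_, hle, ?_⟩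
  · by_cases hd : q ∣ Nat.card E₃
    · exact prankLE_subgroup (h3.1.trans hE.1) (h3.2.1 q hq hd).2.2.2
    · exact prankLE_of_not_dvd hq hd
  · refine Coprime.le_normalizer_of_conj_mem fun a ha x hx => ?_
    have hK : E₃.map (MulAut.conj a).toMonoidHom ≤ E₃ := by
      refine le_of_nilpotent_of_not_dvd (isNilpotent_derived_compl hG hM hE) hle ?_ ?_
      · rintro _ ⟨y, hy, rfl⟩
        exact (mem_normalizer_iff.1 (hE'n ha) y).1 (hle hy)
      · intro q hq hd hdi
        rw [BGSigma.card_map_conj] at hd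
        refine h3.2.2 q hq (h3.2.1 q hq hd) (hdi.trans ?_)
        exact ⟨(⁅E, E⁆).relIndex E, (relIndex_mul_relIndex _ _ _ hle hE'E).symm⟩
    exact hK (mem_map_of_mem _ hx)

end

end Cfsg.Agent.BGTwelve
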