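import Cfsg.Agent.BGSigma.Transitive
import Cfsg.Agent.BGSigma.Inputs
import Cfsg.Agent.BGSigma.PLength
import Cfsg.Agent.OddLocal44.NarrowAction
import Cfsg.Agent.S1392
import Cfsg.Agent.S1394
import Cfsg.Agent.S1396
import Cfsg.Agent.S1444
import Cfsg.Agent.S1448
import Cfsg.Agent.S1453
import Cfsg.Agent.S1455
import Cfsg.Agent.S3769

/-!
# The inputs of BG 11-13, discharged
-/

set_option autoImplicit false

namespace Cfsg.Agent.BGTwelve

open Cfsg BGSigma

universe u

theorem narrowAutomizer : NarrowAutomizer.{u} := by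
  intro G _ _ p _ hp2 R A hR hn hA hAs hodd hfaith
  have h := OddLocal44.isPGroup_commutator_narrow hp2 hR hn hA hAs hodd hfaith
  rw [← Subgroup.map_subtype_commutator A] at h
  exact (OddLocal44.commutator_le_pCore (h.of_equiv
    ((commutator A).equivMapOfInjective A.subtype A.subtype_injective).symm)).1

/-- All inputs bundled in `BGSigma.LocalInputs`. -/
theorem localInputs {G : Type u} [Group G] [Finite G] (hG : IsMinSimpleOddOrder G) : LocalInputs G where
  uniq := uniquenessTheorem hG
  plength := fun p _ H hH => proper_plength_one hG (uniquenessTheorem hG)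
    (fun X _ _ _ hodd N R R₀ _ a b c d e q _ => S1444.result hodd N R R₀ a b c d e q) p H hH
  transMeet := fun A hA q hq hqA Q₁ h₁ Q₂ h₂ H a b c d =>
    S1392.result hG A hA q hq hqA Q₁ Q₂ h₁ h₂ H a b c d
  transCentral := fun A hA hZ q hq hqA hqC => S1394.result hG A hA hZ q hq hqA hqC
  transCriterion := fun p _ hp A hAp hAc h1 h2 => S1396.result hG p hp A hAp hAc (Or.inl ⟨h1, h2⟩)
  narrow := fun R _ _ p _ hp hR hr E hE hE2 hmax => S1453.result p hp hR hr E hE hE2 hmax
  narrowSylow := fun G _ _ _ hodd p _ hpG S hS hpl => S1455.result hodd p hpG S hS hpl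
  narrowAut := narrowAutomizer
  blackburn := by
    intro G _ _ p _
    exact S1448.result p
  fixedPoint := fun X _ _ H hs hodd V l hl hV hlH hn K R hK hKn hHall hR hRp hKR hKRH hC =>
    S3769.result H hs hodd V hl hV hlH hn K R hK hKn hHall hR hRp hKR hKRH hC

end Cfsg.Agent.BGTwelve
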