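import Cfsg.Agent.BGTwelve.Compl

/-!
# BG 12.6 and 12.10: the `τ₂`-part of the complement `E`
-/

set_option autoImplicit false

namespace Cfsg.Agent.BGTwelve

open Cfsg BGSigma Subgroup
open scoped commutatorElement

universe u

variable {G : Type u} [Group G] [Finite G]

/-- Conjugation commutes with centralizing an element. -/
theorem conj_mem_centralizer_iff {m x y : G} :
    m * y * m⁻¹ ∈ centralizer ({m * x * m⁻¹} : Set G) ↔ y ∈ centralizer ({x} : Set G) := by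
  rw [mem_centralizer_singleton_iff, mem_centralizer_singleton_iff]
  constructor
  · intro h
    have h' := congrArg (fun t => m⁻¹ * t * m) h
    simp [mul_assoc] at h'
    exact h'
  · intro h
    calc m * y * m⁻¹ * (m * x * m⁻¹) = m * (y * x) * m⁻¹ := by group
      _ = m * (x * y) * m⁻¹ := by rw [h]
      _ = _ := by group

variable (hG : IsMinSimpleOddOrder G) (h : LocalInputs G) {M E A : Subgroup G} {p : ℕ} [hp : Fact p.Prime]
include hG h

/-- A Sylow subgroup of `M` containing a given `p`-subgroup, with the structure of BG 12.5. -/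
theorem exists_tau2_sylow (hM : IsCoatom M) (hp2 : p ∈ tau2 M)
    (hA : A ≤ M ∧ IsElementaryAbelian p A ∧ Nat.card A = p ^ 2) {T : Subgroup G} (hT : IsPGroup p T)
    (hTM : T ≤ M) (hAT : A ≤ T) :
    ∃ P : Sylow p M, T ≤ (P : Subgroup M).map M.subtype ∧
      IsMulCommutative ((P : Subgroup M).map M.subtype : Subgroup G) ∧
      ∀ x ∈ (P : Subgroup M).map M.subtype, x ^ p = 1 ↔ x ∈ A := by
  obtain ⟨P, hP⟩ := (hT.comap_subtype (K := M)).exists_le_sylow
  have hle : T ≤ (P : Subgroup M).map M.subtype := fun a ha => ⟨⟨a, hTM ha⟩, hP ha, rfl⟩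
  obtain ⟨hc, hΩ⟩ := (tau_two_stmt hG h M hM hp2 A hA).2.1 P
  haveI := hc
  exact ⟨P, hle, Subgroup.map_isMulCommutative _ _, (hΩ (hAT.trans hle)).1⟩

/-- `M` is the only maximal subgroup over a proper subgroup containing `A` and meeting `M_σ`. -/
theorem uniq_of_sigma_meet (hM : IsCoatom M) (hp2 : p ∈ tau2 M)
    (hA : A ≤ M ∧ IsElementaryAbelian p A ∧ Nat.card A = p ^ 2) {H : Subgroup G} (hH : H ≠ ⊤)
    (hAH : A ≤ H) (hmeet : sigmaCore M ⊓ H ≠ ⊥) :
    H ≤ M ∧ ∀ L : Subgroup G, IsCoatom L → H ≤ L → L = M := by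
  have huniq : ∀ L : Subgroup G, IsCoatom L → H ≤ L → L = M := fun L hL hHL => by
    by_contra hne
    exact hmeet (le_bot_iff.1 ((inf_le_inf_left _ hHL).trans
      ((tau_two_stmt hG h M hM hp2 A hA).2.2.2.2.1 L hL hne (hAH.trans hHL)).le))
  obtain ⟨L, hL, hHL⟩ := exists_coatom_ge hG hH
  exact ⟨huniq L hL hHL ▸ hHL, huniq⟩

omit h in
theorem centralizer_ne_top {X : Subgroup G} (hX : X ≠ ⊥) (hX' : X ≠ ⊤) :
    centralizer (X : Set G) ≠ ⊤ := fun hC =>
  normalizer_ne_top hG hX hX' (top_le_iff.1 (hC ▸ centralizer_le_normalizer _))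

section Compl

variable (hM : IsCoatom M) (hE : IsComplIn E (sigmaCore M) M)
include hM hE

omit hp h in
theorem exists_sq_le_compl {q : ℕ} [Fact q.Prime] (hq2 : q ∈ tau2 M) :
    ∃ B : Subgroup G, B ≤ E ∧ IsElementaryAbelian q B ∧ Nat.card B = q ^ 2 := by
  obtain ⟨B, hBM, hBe, hBc⟩ := exists_elemAbelian_sq_le (H := M) (p := q) hq2.2.2.2
  obtain ⟨m, -, hm⟩ := exists_conj_le_compl hG hM hE hBM fun r hr hd => by
    rw [hBc] at hd
    rw [(Nat.prime_dvd_prime_iff_eq hr Fact.out).1 (hr.dvd_of_dvd_pow hd)]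
    exact hq2.2.1
  refine ⟨B.map (MulAut.conj m).toMonoidHom, map_conj_le_iff.2 hm, ?_,
    (BGSigma.card_map_conj B m).trans hBc⟩
  haveI := hBe.1
  refine ⟨Subgroup.map_isMulCommutative _ _, ?_⟩
  rintro _ ⟨b, hb, rfl⟩
  rw [← map_pow, hBe.2 b hb, map_one]

variable (hp2 : p ∈ tau2 M) (hA : A ≤ E ∧ IsElementaryAbelian p A ∧ Nat.card A = p ^ 2)
include hp2 hA

theorem compl_le_normalizer_sq : E ≤ normalizer (A : Set G) := by
  obtain ⟨hAE, hAe, hAc⟩ := hA
  obtain ⟨-, -, hn, -⟩ := tau_two_stmt hG h M hM hp2 A ⟨hAE.trans hE.1, hAe, hAc⟩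
  refine Coprime.le_normalizer_of_conj_mem fun e he a ha => ?_
  have h1 : e * a * e⁻¹ ∈ sigmaCore M ⊔ A :=
    (mem_normalizer_iff.1 (hn (hE.1 he)) a).1 (mem_sup_right ha)
  obtain ⟨b, hb, s, hs, hbs⟩ := Coprime.exists_mul_of_mem_sup
    ((hAE.trans hE.1).trans (le_normalizer_sigmaCore M)) h1
  have hbE : b ∈ E ⊓ sigmaCore M := by
    refine ⟨?_, hb⟩
    rw [show b = e * a * e⁻¹ * s⁻¹ by rw [hbs]; group]
    exact E.mul_mem (E.mul_mem (E.mul_mem he (hAE ha)) (E.inv_mem he)) (E.inv_mem (hAE hs))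
  rw [hE.2.2.1, mem_bot] at hbE
  rw [hbs, hbE, one_mul]
  exact hs

theorem mem_sq_of_pow_eq_one {x : G} (hx : x ∈ E) (hxp : x ^ p = 1) : x ∈ A := by
  have hAp : IsPGroup p A := isPGroup_of_pow_eq_one hp.out hA.2.1.2
  have hxpg : IsPGroup p (zpowers x) := isPGroup_of_pow_eq_one hp.out fun y hy => by
    obtain ⟨k, rfl⟩ := hy
    show (x ^ k) ^ p = 1
    rw [← zpow_natCast, ← zpow_mul, mul_comm, zpow_mul, zpow_natCast, hxp, one_zpow]
  have hT : IsPGroup p ↥(A ⊔ zpowers x) := IsPGroup.to_sup_of_normal_left' hAp hxpg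
    ((zpowers_le.2 hx).trans (compl_le_normalizer_sq hG h hM hE hp2 hA))
  obtain ⟨P, hTP, -, hΩ⟩ := exists_tau2_sylow hG h hM hp2 ⟨hA.1.trans hE.1, hA.2⟩ hT
    (sup_le (hA.1.trans hE.1) (zpowers_le.2 (hE.1 hx))) le_sup_left
  exact (hΩ x (hTP (mem_sup_right (mem_zpowers x)))).1 hxp

theorem le_sq_of_card {X : Subgroup G} (hX : X ≤ E) (hXc : Nat.card X = p) : X ≤ A := fun x hx =>
  mem_sq_of_pow_eq_one hG h hM hE hp2 hA (hX hx) (by
    have := congrArg Subtype.val (pow_card_eq_one' (G := X) (x := ⟨x, hx⟩))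
    simpa [hXc] using this)

theorem pgroup_le_centralizer_sq {T : Subgroup G} (hT : IsPGroup p T) (hTE : T ≤ E) :
    T ≤ centralizer (A : Set G) := by
  have hAp : IsPGroup p A := isPGroup_of_pow_eq_one hp.out hA.2.1.2
  obtain ⟨P, hTP, hPc, -⟩ := exists_tau2_sylow hG h hM hp2 ⟨hA.1.trans hE.1, hA.2⟩
    (IsPGroup.to_sup_of_normal_left' hAp hT (hTE.trans (compl_le_normalizer_sq hG h hM hE hp2 hA)))
    (sup_le (hA.1.trans hE.1) (hTE.trans hE.1)) le_sup_left
  exact ((le_sup_right.trans hTP).trans (le_centralizer_self_of_comm hPc)).trans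
    (centralizer_anti (le_sup_left.trans hTP))

theorem inf_normalizer_sq_eq : M ⊓ normalizer (A : Set G) = E := by
  refine le_antisymm ?_ (le_inf hE.1 (compl_le_normalizer_sq hG h hM hE hp2 hA))
  rintro m ⟨hm, hmA⟩
  obtain ⟨e, he, s, hs, rfl⟩ := hE.2.2.2 m hm
  have hAM : A ≤ M := hA.1.trans hE.1
  have hsA : s ∈ normalizer (A : Set G) := by
    have := (normalizer (A : Set G)).mul_mem
      ((normalizer (A : Set G)).inv_mem (compl_le_normalizer_sq hG h hM hE hp2 hA he)) hmA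
    rwa [inv_mul_cancel_left] at this
  have hfix := (tau_two_stmt hG h M hM hp2 A ⟨hAM, hA.2⟩).2.2.2.1
  have hsC : s ∈ sigmaCore M ⊓ centralizer (A : Set G) := by
    refine ⟨hs, mem_centralizer_iff.2 fun a ha => ?_⟩
    have h1 : s * a * s⁻¹ * a⁻¹ ∈ E ⊓ sigmaCore M := by
      refine ⟨hA.1 (A.mul_mem ((mem_normalizer_iff.1 hsA a).1 ha) (A.inv_mem ha)), ?_⟩
      rw [show s * a * s⁻¹ * a⁻¹ = s * (a * s⁻¹ * a⁻¹) by group]
      exact (sigmaCore M).mul_mem hs
        ((mem_normalizer_iff.1 (le_normalizer_sigmaCore M (hAM ha)) _).1 ((sigmaCore M).inv_mem hs))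
    rw [hE.2.2.1, mem_bot, mul_inv_eq_one, mul_inv_eq_iff_eq_mul] at h1
    exact h1.symm
  rw [hfix, mem_bot] at hsC
  rw [hsC, mul_one]
  exact he

/-- BG 12.6. -/
theorem tau_two_compl_stmt :
    (E ≤ normalizer (A : Set G) ∧ ∀ X : Subgroup G, X ≤ E → Nat.card X = p → X ≤ A) ∧
      (centralizer (A : Set G) ≤ M ⊓ normalizer (A : Set G) ∧ M ⊓ normalizer (A : Set G) = E ∧
        ¬ normalizer (A : Set G) ≤ M) ∧
      ∀ X : Subgroup G, X ≤ A → Nat.card X = p →
        sigmaCore M ⊓ centralizer (X : Set G) ≠ ⊥ →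
        centralizer (X : Set G) ≤ M ∧
          ∀ L : Subgroup G, IsCoatom L → centralizer (X : Set G) ≤ L → L = M := by
  have hA' : A ≤ M ∧ IsElementaryAbelian p A ∧ Nat.card A = p ^ 2 := ⟨hA.1.trans hE.1, hA.2⟩
  obtain ⟨A₀, e⟩ := exists_exceptional hG h hM hp2.2.1 hA'.1 hA.2.1 hA.2.2
  refine ⟨⟨compl_le_normalizer_sq hG h hM hE hp2 hA, fun X => le_sq_of_card hG h hM hE hp2 hA⟩,
    ⟨le_inf e.centralizer_le (centralizer_le_normalizer _), inf_normalizer_sq_eq hG h hM hE hp2 hA,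
      fun hle => ?_⟩, fun X hXA hXc hne => ?_⟩
  · obtain ⟨g, hg, hgM⟩ := e.exists_normalizer_not_le hG h
    exact hgM (hle hg)
  · have hX1 : X ≠ ⊥ := fun h0 => by rw [h0, card_bot] at hXc; exact hp.out.ne_one hXc.symm
    have hXt : X ≠ ⊤ := fun h0 => hM.1 (top_le_iff.1 (h0 ▸ hXA.trans hA'.1))
    exact uniq_of_sigma_meet hG h hM hp2 hA' (centralizer_ne_top hG hX1 hXt)
      ((le_centralizer_self_of_comm hA.2.1.1).trans (centralizer_anti hXA)) hne

end Compl

omit hp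

/-- BG 12.10 (a). -/
theorem isMulCommutative_of_nilpotent_sigma' (hM : IsCoatom M) {N : Subgroup G} (hNM : N ≤ M)
    (hN : Group.IsNilpotent N) (hNs : ∀ q : ℕ, q.Prime → q ∣ Nat.card N → q ∉ sigma M) :
    IsMulCommutative N := by
  refine isMulCommutative_of_nilpotent hN fun q hq S hSN hS => ?_
  haveI := Fact.mk hq
  by_cases hr1 : PRankLE q 1 M
  · have hcyc : IsCyclic S := by
      refine isCyclic_of_nilpotent_rankLE_one hS.isNilpotent (odd_card_subgroup hG S) fun r hr => ?_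
      by_cases hrd : r ∣ Nat.card S
      · obtain ⟨i, hi⟩ := hS.exists_card_eq
        rw [hi] at hrd
        obtain rfl := (Nat.prime_dvd_prime_iff_eq hr hq).1 (hr.dvd_of_dvd_pow hrd)
        exact prankLE_subgroup (hSN.trans hNM) hr1
      · exact prankLE_of_not_dvd hr hrd
    infer_instance
  by_cases hS1 : S = ⊥
  · subst hS1; infer_instance
  have hqN : q ∣ Nat.card N := by
    obtain ⟨j, hj⟩ := hS.exists_card_eq
    rcases j with _ | j
    · exact absurd (eq_bot_of_card_eq _ hj) hS1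
    · exact ((dvd_pow_self q j.succ_ne_zero).trans (hj ▸ dvd_rfl)).trans (card_dvd_of_le hSN)
  have hqs := hNs q hq hqN
  obtain ⟨B, hBM, hBe, hBc⟩ := exists_elemAbelian_sq_le (H := M) (p := q) hr1
  have hq2 : q ∈ tau2 M := ⟨hq, hqs, not_sigma_rank_two hG h.uniq hM hq hqs, hr1⟩
  obtain ⟨P, hP⟩ := (hS.comap_subtype (K := M)).exists_le_sylow
  haveI := ((tau_two_stmt hG h M hM hq2 B ⟨hBM, hBe, hBc⟩).2.1 P).1
  have hle : S ≤ (P : Subgroup M).map M.subtype := fun a ha => ⟨⟨a, hSN.trans hNM ha⟩, hP ha, rfl⟩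
  exact isMulCommutative_of_le_centralizer ((hle.trans
    (le_centralizer_self_of_comm (Subgroup.map_isMulCommutative _ _))).trans (centralizer_anti hle))

/-- BG 12.10 (b). -/
theorem isMulCommutative_derived_compl (hM : IsCoatom M) (hE : IsComplIn E (sigmaCore M) M) :
    IsMulCommutative ↥⁅E, E⁆ :=
  isMulCommutative_of_nilpotent_sigma' hG h hM ((commutator_le_self E).trans hE.1)
    (isNilpotent_derived_compl hG hM hE) fun q hq hd =>
      not_mem_sigma_of_dvd hG hM hE hq (hd.trans (card_dvd_of_le (commutator_le_self E)))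

/-- BG 12.10 (c). -/
theorem normalizer_le_of_not_isCyclic (hM : IsCoatom M) {q : ℕ} (hq : q ∈ sigma M) {P : Subgroup G}
    (hP : IsPGroup q P) (hPM : P ≤ M) (hnc : ¬ IsCyclic P) : normalizer (P : Set G) ≤ M := by
  haveI := Fact.mk hq.1
  have hr1 : ¬ PRankLE q 1 P := fun hr => hnc (isCyclic_of_nilpotent_rankLE_one hP.isNilpotent
    (odd_card_subgroup hG P) fun r hr' => by
      by_cases hrd : r ∣ Nat.card P
      · obtain ⟨i, hi⟩ := hP.exists_card_eq
        rw [hi] at hrd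
        rw [(Nat.prime_dvd_prime_iff_eq hr' hq.1).1 (hr'.dvd_of_dvd_pow hrd)]
        exact hr
      · exact prankLE_of_not_dvd hr' hrd)
  obtain ⟨B, hBP, hBe, hBc⟩ := exists_elemAbelian_sq_le (H := P) (p := q) hr1
  have hC : centralizer (P : Set G) ≤ M := (centralizer_anti hBP).trans
    (centralizer_le_stmt hG h M hM B ⟨hBP.trans hPM, hBe, hBc⟩).1
  have hP1 : P ≠ ⊥ := fun h0 => hnc (by subst h0; exact isCyclic_of_subsingleton)
  rw [(fusion_stmt hG h.uniq M hM q hq P hP hP1 hPM).2]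
  exact sup_le inf_le_left hC

omit hG h in
theorem conj_sigmaCore {m y : G} (hm : m ∈ M) (hy : y ∈ sigmaCore M) :
    m * y * m⁻¹ ∈ sigmaCore M :=
  (mem_normalizer_iff.1 (le_normalizer_sigmaCore M hm) y).1 hy

/-- BG 12.10 (e), for an element of `E`. -/
theorem uniq_centralizer_tau2_aux (hM : IsCoatom M) (hE : IsComplIn E (sigmaCore M) M) {x : G}
    (hxE : x ∈ E) (hx1 : x ≠ 1) (hτ : ∀ q : ℕ, q.Prime → q ∣ orderOf x → q ∈ tau2 M)
    (hne : sigmaCore M ⊓ centralizer ({x} : Set G) ≠ ⊥) :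
    centralizer ({x} : Set G) ≤ M ∧
      ∀ L : Subgroup G, IsCoatom L → centralizer ({x} : Set G) ≤ L → L = M := by
  have ho : orderOf x ≠ 1 := fun h0 => hx1 (orderOf_eq_one_iff.1 h0)
  set p := (orderOf x).minFac with hpdef
  have hpp : p.Prime := Nat.minFac_prime ho
  haveI := Fact.mk hpp
  have hp2 := hτ p hpp (Nat.minFac_dvd _)
  obtain ⟨A, hAE, hAe, hAc⟩ := exists_sq_le_compl hG hM hE (q := p) hp2
  have hpodd : p ≠ 2 := ne_two_of_dvd hG (H := E)
    ((Nat.minFac_dvd _).trans (Subgroup.orderOf_dvd_natCard E hxE))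
  have hxA : zpowers x ≤ centralizer (A : Set G) := le_of_sylow_le fun r hr hd => by
    haveI := Fact.mk hr
    let S : Sylow r (zpowers x) := default
    refine ⟨S, ?_⟩
    have hSE : (S : Subgroup (zpowers x)).map (zpowers x).subtype ≤ E :=
      (map_subtype_le _).trans (zpowers_le.2 hxE)
    have hS := S.isPGroup'.map (zpowers x).subtype
    rw [Nat.card_zpowers] at hd
    by_cases hrp : r = p
    · subst hrp
      exact pgroup_le_centralizer_sq hG h hM hE hp2 ⟨hAE, hAe, hAc⟩ hS hSE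
    · exact le_centralizer_of_gt hpp hr
        (lt_of_le_of_ne (Nat.minFac_le_of_dvd hr.two_le hd) (Ne.symm hrp)) hpodd hAc hS
        (hSE.trans (compl_le_normalizer_sq hG h hM hE hp2 ⟨hAE, hAe, hAc⟩))
  refine uniq_of_sigma_meet hG h hM hp2 ⟨hAE.trans hE.1, hAe, hAc⟩ ?_ ?_ hne
  · intro hC
    refine centralizer_ne_top hG (X := zpowers x) (by simpa using hx1) (fun h0 => hM.1
      (top_le_iff.1 (h0 ▸ zpowers_le.2 (hE.1 hxE)))) ?_
    rwa [zpowers_eq_closure, centralizer_closure]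
  · intro a ha
    exact mem_centralizer_singleton_iff.2
      ((mem_centralizer_iff.1 (hxA (mem_zpowers x)) a ha))

/-- BG 12.10 (e). -/
theorem uniq_centralizer_tau2 (hM : IsCoatom M) (hE : IsComplIn E (sigmaCore M) M) {x : G}
    (hxM : x ∈ M) (hx1 : x ≠ 1) (hτ : ∀ q : ℕ, q.Prime → q ∣ orderOf x → q ∈ tau2 M)
    (hhat : x ∈ sigmaHat M) :
    centralizer ({x} : Set G) ≤ M ∧
      ∀ L : Subgroup G, IsCoatom L → centralizer ({x} : Set G) ≤ L → L = M := by
  obtain ⟨m, hm, hmx⟩ := exists_conj_le_compl hG hM hE (zpowers_le.2 hxM) fun r hr hd =>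
    (hτ r hr (Nat.card_zpowers x ▸ hd)).2.1
  have hmM : m ∈ M := sigmaCore_le M hm
  obtain ⟨-, y, hy, hy1, hxy⟩ := hhat
  obtain ⟨h1, h2⟩ := uniq_centralizer_tau2_aux hG h hM hE (hmx x (mem_zpowers x))
    (fun h0 => hx1 (by simpa using h0))
    (fun r hr hd => hτ r hr (by
      rwa [show m * x * m⁻¹ = MulAut.conj m x from rfl, MulEquiv.orderOf_eq] at hd))
    (fun h0 => hy1 (by
      have hmem : m * y * m⁻¹ ∈ sigmaCore M ⊓ centralizer ({m * x * m⁻¹} : Set G) :=
        ⟨conj_sigmaCore hmM hy, conj_mem_centralizer_iff.2 (mem_centralizer_singleton_iff.2 hxy.symm)⟩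
      rw [h0, mem_bot] at hmem
      simpa using hmem))
  refine ⟨fun c hc => ?_, fun L hL hCL => ?_⟩
  · have hmem := h1 (conj_mem_centralizer_iff.2 hc)
    simpa [mul_assoc] using M.mul_mem (M.mul_mem (M.inv_mem hmM) hmem) hmM
  · have heq := h2 (L.map (MulAut.conj m).toMonoidHom) (isCoatom_map_conj hL m) (fun c hc => ?_)
    · have hMm : M.map (MulAut.conj m).toMonoidHom = M := map_conj_eq_self (le_normalizer hmM)
      exact map_injective (MulAut.conj m).injective (heq.trans hMm.symm)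
    · refine ⟨m⁻¹ * c * m, hCL ((conj_mem_centralizer_iff (m := m)).1 ?_), by simp [mul_assoc]⟩
      simpa [mul_assoc] using hc

end Cfsg.Agent.BGTwelve
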