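import Cfsg.Agent.BGTwelve.SigmaSub

/-!
# BG 12.13: nonabelian `p`-subgroups lie in a single maximal subgroup
-/

set_option autoImplicit false

namespace Cfsg.Agent.BGTwelve

open Cfsg BGSigma Subgroup
open scoped commutatorElement

universe u

variable {G : Type u} [Group G] [Finite G]

/-- Fixed points of the elements outside `Z` generate, when `P₁ / Z` is elementary noncyclic. -/
theorem le_of_centralizer_le_mod {p : ℕ} [hp : Fact p.Prime] {P₁ Z Q H : Subgroup G}
    (hZP : Z ≤ P₁) (hder : ⁅P₁, P₁⁆ ≤ Z) (hPZ : P₁ ≤ centralizer (Z : Set G))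
    (hP : IsPGroup p P₁) (hna : ¬ IsMulCommutative P₁) (hPQ : P₁ ≤ normalizer (Q : Set G))
    (hQZ : Q ≤ centralizer (Z : Set G)) (hQp : ¬ p ∣ Nat.card Q)
    (hC : ∀ t ∈ P₁, t ∉ Z → Q ⊓ centralizer ({t} : Set G) ≤ H) : Q ≤ H := by
  set X := normalizer (Q : Set G) ⊓ centralizer (Z : Set G) with hX
  have hPX : P₁ ≤ X := le_inf hPQ hPZ
  have hQX : Q ≤ X := le_inf le_normalizer hQZ
  have hZX : Z ≤ X := hZP.trans hPX
  haveI : (Z.subgroupOf X).Normal := by
    refine ⟨fun z hz x => ?_⟩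
    rw [mem_subgroupOf] at hz ⊢
    have h1 : (z : G) * (x : G) = (x : G) * z := mem_centralizer_iff.1 x.2.2 _ hz
    simpa [← h1] using hz
  set π := QuotientGroup.mk' (Z.subgroupOf X) with hπ
  set P' := (P₁.subgroupOf X).map π with hP'
  set Q' := (Q.subgroupOf X).map π with hQ'
  haveI : IsMulCommutative P' := by
    refine ⟨⟨?_⟩⟩
    rintro ⟨_, a, ha, rfl⟩ ⟨_, b, hb, rfl⟩
    refine Subtype.ext ?_
    show π a * π b = π b * π a
    rw [← commutatorElement_eq_one_iff_mul_comm, ← map_commutatorElement]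
    exact (QuotientGroup.eq_one_iff _).2
      (mem_subgroupOf.2 (hder (commutator_mem_commutator ha hb)))
  have hP'p : IsPGroup p P' := (hP.of_equiv (subgroupOfEquivOfLe hPX).symm).map π
  have hP'c : ¬ IsCyclic P' := by
    intro hc
    obtain ⟨⟨_, t, ht, rfl⟩, hgen⟩ := hc.exists_generator
    refine hna ⟨⟨fun a b => Subtype.ext ?_⟩⟩
    have hrep : ∀ c ∈ P₁, ∃ z ∈ Z, ∃ i : ℤ, c = (t : G) ^ i * z := by
      intro c hc'
      obtain ⟨i, hi⟩ := mem_zpowers_iff.1 (hgen ⟨π ⟨c, hPX hc'⟩, ⟨c, hPX hc'⟩, hc', rfl⟩)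
      have hi' : π (t ^ i) = π ⟨c, hPX hc'⟩ := by
        rw [map_zpow]; simpa using congrArg Subtype.val hi
      have hz := (QuotientGroup.eq).1 hi'
      rw [mem_subgroupOf] at hz
      exact ⟨_, hz, i, by simp⟩
    obtain ⟨z, hz, i, hai⟩ := hrep a a.2
    obtain ⟨w, hw, j, hbj⟩ := hrep b b.2
    have hct : ∀ c ∈ Z, Commute c (t : G) := fun c hc' => mem_centralizer_iff.1 t.2.2 c hc'
    have hzw : Commute z w := mem_centralizer_iff.1 (hPZ (hZP hw)) z hz
    have h1 : Commute ((t : G) ^ i * z) ((t : G) ^ j * w) :=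
      ((Commute.zpow_zpow_self (t : G) i j).mul_right ((hct w hw).symm.zpow_left i)).mul_left
        (((hct z hz).zpow_right j).mul_right hzw)
    show (a : G) * b = b * a
    rw [hai, hbj]
    exact h1
  have hcop : (Nat.card P').Coprime (Nat.card Q') := by
    obtain ⟨j, hj⟩ := hP'p.exists_card_eq
    rw [hj]
    refine ((hp.out.coprime_iff_not_dvd).2 fun hd => hQp ?_).pow_left j
    exact hd.trans ((card_map_dvd _ _).trans
      (dvd_of_eq (Nat.card_congr (subgroupOfEquivOfLe hQX).toEquiv)))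
  have hP'n : P' ≤ normalizer (Q' : Set (X ⧸ Z.subgroupOf X)) := by
    refine (map_mono ?_).trans ((Q.subgroupOf X).le_normalizer_map π)
    rw [← subgroupOf_normalizer_eq hQX]
    exact subgroupOf_mono _ hPQ
  have hbot : ∀ q ∈ Q, q ∈ Z → q = 1 := by
    intro q hq hqZ
    obtain ⟨j, hj⟩ := hP.exists_card_eq
    exact orderOf_eq_one_iff.1 (Nat.eq_one_of_dvd_coprimes
      (((hp.out.coprime_iff_not_dvd).2 hQp).pow_left j)
      (hj ▸ orderOf_dvd_natCard P₁ (hZP hqZ)) (orderOf_dvd_natCard Q hq))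
  have key : Q' ≤ ((Q ⊓ H).subgroupOf X).map π := by
    refine Coprime.le_of_centralizer_le P' Q' _ hP'c hP'n hcop ?_
    rintro _ ⟨t, ht, rfl⟩ ht1 _ ⟨⟨q, hq, rfl⟩, hqt⟩
    refine mem_map_of_mem π (mem_subgroupOf.2 ⟨hq, hC t ht (fun htZ => ht1 ?_) ⟨hq, ?_⟩⟩)
    · exact (QuotientGroup.eq_one_iff t).2 (mem_subgroupOf.2 htZ)
    · have hqt := mem_centralizer_singleton_iff.1 hqt
      refine mem_centralizer_singleton_iff.2 ?_
      rw [← map_mul, ← map_mul] at hqt
      have h1 := (QuotientGroup.eq).1 hqt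
      rw [mem_subgroupOf] at h1
      simp only [coe_inv, coe_mul] at h1
      have h2 : ((q : G) * t)⁻¹ * (t * q) ∈ Q := by
        rw [show ((q : G) * t)⁻¹ * (t * q) = ((t : G)⁻¹ * (q : G)⁻¹ * t) * q by group]
        refine Q.mul_mem ?_ hq
        simpa using (mem_normalizer_iff.1 (inv_mem (hPQ ht)) _).1 (Q.inv_mem hq)
      exact inv_mul_eq_one.1 (hbot _ h2 h1)
  intro q hq
  obtain ⟨r, hr, hrq⟩ := key (mem_map_of_mem π (show (⟨q, hQX hq⟩ : X) ∈ Q.subgroupOf X from hq))
  have h1 := (QuotientGroup.eq).1 hrq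
  rw [mem_subgroupOf] at h1
  simp only [coe_inv, coe_mul] at h1
  have hr' : (r : G) = q := inv_mul_eq_one.1 (hbot _ (Q.mul_mem (Q.inv_mem hr.1) hq) h1)
  exact hr' ▸ hr.2

/-- Conjugating the unique maximal subgroup over a subgroup by one of its elements. -/
theorem uniq_map_conj {M H : Subgroup G} {a : G} (ha : a ∈ M)
    (hu : H ≤ M ∧ ∀ L : Subgroup G, IsCoatom L → H ≤ L → L = M)
    (hc : ∀ L : Subgroup G, IsCoatom L → ∀ g : G, IsCoatom (L.map (MulAut.conj g).toMonoidHom)) :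
    H.map (MulAut.conj a).toMonoidHom ≤ M ∧
      ∀ L : Subgroup G, IsCoatom L → H.map (MulAut.conj a).toMonoidHom ≤ L → L = M := by
  refine ⟨map_conj_le_iff.2 fun x hx => M.mul_mem (M.mul_mem ha (hu.1 hx)) (M.inv_mem ha),
    fun L hL hle => ?_⟩
  have h1 := hu.2 (L.map (MulAut.conj a⁻¹).toMonoidHom) (hc L hL a⁻¹) fun x hx => by
    rw [mem_map_conj]
    simpa using hle (mem_map_of_mem _ hx)
  have h2 : (L.map (MulAut.conj a⁻¹).toMonoidHom).map (MulAut.conj a).toMonoidHom = L := by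
    rw [map_conj_comp, mul_inv_cancel, map_conj_one]
  rw [← h2, h1]
  exact map_conj_eq_self (le_normalizer ha)

variable (hG : IsMinSimpleOddOrder G) (h : LocalInputs G) {p : ℕ} [hp : Fact p.Prime]
include hG h

omit hp in
/-- `le_centralizer_of_not_ideal`, for a prime outside `β(L)`. -/
theorem le_centralizer_of_not_beta {L A X : Subgroup G} (hL : IsCoatom L) {r : ℕ}
    [hr : Fact r.Prime] (hrb : r ∉ beta L) (hAL : A ≤ ⁅L, L⁆) (hXL : X ≤ ⁅L, L⁆)
    (hA : ¬ r ∣ Nat.card A) (hX : IsPGroup r X) (hAX : A ≤ normalizer (X : Set G)) :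
    X ≤ centralizer (A : Set G) := by
  by_cases hX1 : X = ⊥
  · simp [hX1]
  have hrL : r ∣ Nat.card L := by
    obtain ⟨j, hj⟩ := hX.exists_card_eq
    rcases j with _ | j
    · exact absurd (eq_bot_of_card_eq _ hj) hX1
    · exact ((dvd_pow_self r j.succ_ne_zero).trans (hj ▸ card_dvd_of_le hXL)).trans
        (card_dvd_of_le (commutator_le_self L))
  obtain ⟨P, K, hK, hKP⟩ := (normalPComplement_of_not_mem_beta hG h.uniq h.plength h.narrow
    h.narrowSylow hL hr.out hrL hrb).1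
  have hKr : ¬ r ∣ Nat.card K := hKP.index_eq_card ▸ P.not_dvd_index
  have hAK : ∀ a, ∀ ha : a ∈ A, (⟨a, hAL ha⟩ : (⁅L, L⁆ : Subgroup G)) ∈ K := by
    intro a ha
    haveI := hK
    rw [← QuotientGroup.eq_one_iff, ← orderOf_eq_one_iff]
    have h1 : orderOf ((⟨a, hAL ha⟩ : (⁅L, L⁆ : Subgroup G)) : (⁅L, L⁆ : Subgroup G) ⧸ K) ∣
        Nat.card A := by
      refine (orderOf_map_dvd (QuotientGroup.mk' K) _).trans ?_
      rw [← Subgroup.orderOf_coe]
      exact orderOf_dvd_natCard A ha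
    obtain ⟨j, hj⟩ := P.isPGroup'.exists_card_eq
    refine Nat.eq_one_of_dvd_coprimes ((hr.out.coprime_iff_not_dvd.2 hA).pow_left j) ?_ h1
    rw [← hj, ← hKP.symm.index_eq_card, Subgroup.index_eq_card]
    exact _root_.orderOf_dvd_natCard _
  rw [← commutator_eq_bot_iff_le_centralizer, eq_bot_iff, commutator_le]
  intro x hx a ha
  rw [mem_bot]
  have hcX : ⁅x, a⁆ ∈ X :=
    Coprime.commutator_le_of_le_normalizer hAX (commutator_mem_commutator hx ha)
  have hcK : (⟨⁅x, a⁆, hXL hcX⟩ : (⁅L, L⁆ : Subgroup G)) ∈ K := by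
    have := K.mul_mem (hK.conj_mem _ (hAK a ha) ⟨x, hXL hx⟩) (K.inv_mem (hAK a ha))
    convert this using 1
    exact Subtype.ext (by simp [commutatorElement_def])
  obtain ⟨j, hj⟩ := hX.exists_card_eq
  rw [← orderOf_eq_one_iff]
  refine Nat.eq_one_of_dvd_coprimes ((hr.out.coprime_iff_not_dvd.2 hKr).pow_left j) ?_ ?_
  · exact hj ▸ orderOf_dvd_natCard X hcX
  · have := orderOf_dvd_natCard K hcK
    rwa [← Subgroup.orderOf_coe] at this

/-- The heart of BG 12.13. -/
theorem sylow_uniq_aux {M L P₁ Z : Subgroup G} (hM : IsCoatom M) (hL : IsCoatom L)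
    (S : Sylow p G) (hSM : (S : Subgroup G) ≤ M) (hSL : (S : Subgroup G) ≤ L)
    (hpM : p ∈ sigma M) (hpL : p ∈ sigma L) (hP₁S : P₁ ≤ (S : Subgroup G))
    (hna : ¬ IsMulCommutative P₁) (hexp : ∀ x ∈ P₁, x ^ p = 1) (hZP : Z ≤ P₁) (hZc : Nat.card Z = p)
    (hder : ⁅P₁, P₁⁆ ≤ Z) (hSZ : (S : Subgroup G) ≤ centralizer (Z : Set G))
    (hlines : ∀ t ∈ P₁, t ∉ Z → ∀ X : Subgroup G, X ≤ Z ⊔ zpowers t → Nat.card X = p → X ≠ Z →
      centralizer (X : Set G) ≤ M) : L ≤ M := by
  have hNSM : normalizer ((S : Subgroup G) : Set G) ≤ M := normalizer_le_of_sylow_le hpM S hSM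
  have hSd : (S : Subgroup G) ≤ ⁅L, L⁆ :=
    pgroup_le_derived hG h.uniq smallRankFrattini hL hpL S.isPGroup' hSL
  set D := ⁅L, L⁆ with hD
  have hDL : D ≤ L := commutator_le_self L
  have hDtop : D ≠ ⊤ := fun h0 => hL.1 (top_le_iff.1 (h0 ▸ hDL))
  set K : Subgroup G := (pPrimeCore p D).map D.subtype with hKdef
  have hfrat := frattini_of_not_dvd_index (plengthLE_one_iff.1 (h.plength p D hDtop)) (S.subtype hSd)
  have hDle : D ≤ K ⊔ (normalizer ((S : Subgroup G) : Set G) ⊓ D) := by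
    intro d hd
    obtain ⟨k, hk, n, hn, hkn⟩ :=
      mem_sup_of_normal_left.1 (hfrat.ge (mem_top (⟨d, hd⟩ : D)))
    have hd' : d = (k : G) * n := (congrArg Subtype.val hkn).symm
    rw [hd']
    refine mul_mem_sup (mem_map_of_mem _ hk) ⟨?_, n.2⟩
    rw [Sylow.coe_subtype, ← subgroupOf_normalizer_eq hSd] at hn
    exact hn
  -- `L = D N_L(S)`
  have hLle : L ≤ D ⊔ (normalizer ((S : Subgroup G) : Set G) ⊓ L) := by
    haveI hDn : (D.subgroupOf L).Normal := (normal_subgroupOf_iff_le_normalizer hDL).2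
      (OddLocal43.normalizes_commutator le_normalizer le_normalizer)
    intro l hl
    have hfr := Sylow.normalizer_sup_eq_top' (S.subtype hSL)
      (N := D.subgroupOf L) (fun x hx => hSd hx)
    obtain ⟨n, hn, d, hd, hnd⟩ := mem_sup_of_normal_right.1 (hfr.ge (mem_top (⟨l, hl⟩ : L)))
    have hl' : l = (n : G) * d := (congrArg Subtype.val hnd).symm
    rw [hl']
    refine mul_mem (mem_sup_right ⟨?_, n.2⟩) (mem_sup_left hd)
    rw [← Sylow.coe_coe, Sylow.coe_subtype, ← subgroupOf_normalizer_eq hSL] at hn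
    exact hn
  suffices hK : K ≤ M from hLle.trans (sup_le (hDle.trans (sup_le hK (inf_le_left.trans hNSM)))
    (inf_le_left.trans hNSM))
  have hKD : K ≤ D := map_subtype_le _
  have hKp : ¬ p ∣ Nat.card K := by
    rw [hKdef, card_map_of_injective D.subtype_injective]
    exact not_dvd_card_core
  have hSK : (S : Subgroup G) ≤ normalizer (K : Set G) := fun x hx =>
    (pPrimeCore p D).le_normalizer_map D.subtype
      ⟨⟨x, hSd hx⟩, by rw [normalizer_eq_top_iff.2 inferInstance]; trivial, rfl⟩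
  have hcop : (Nat.card (S : Subgroup G)).Coprime (Nat.card K) := by
    obtain ⟨j, hj⟩ := S.isPGroup'.exists_card_eq
    rw [hj]; exact ((hp.out.coprime_iff_not_dvd).2 hKp).pow_left j
  have hP₁p : IsPGroup p P₁ := S.isPGroup'.to_le hP₁S
  refine le_of_sylow_le fun q hq hqd => ?_
  haveI := Fact.mk hq
  obtain ⟨T, hT⟩ := Coprime.exists_invariant_sylow (S : Subgroup G) K hSK hcop
    (Or.inl (Coprime.isSolvable_of_isNilpotent' S.isPGroup'.isNilpotent)) q
  refine ⟨T, ?_⟩
  set Q := (T : Subgroup K).map K.subtype with hQdef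
  have hQq : IsPGroup q Q := T.isPGroup'.map _
  have hQK : Q ≤ K := map_subtype_le _
  have hqp : q ≠ p := fun h0 => hKp (h0 ▸ hqd)
  have hQp : ¬ p ∣ Nat.card Q := fun hd => hKp (hd.trans (card_dvd_of_le hQK))
  by_cases hqM : q ∈ sigma M
  · by_cases hqb : q ∈ beta L
    · -- then `M` and `L` are conjugate, hence equal
      obtain ⟨R, g, hRM, hRL⟩ :=
        exists_conj_normalizer_le hqM (mem_sigma_of_mem_alpha hG h.uniq hL hqb.1)
      have hR3 : ¬ PRankLE q 2 (R : Subgroup G) := fun hr =>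
        hqb.2.2.1 ((prankLE_iff_sylow R).2 hr)
      have heq := uniq_of_pgroup h.uniq hq hR3 hM (isCoatom_map_conj hL g)
        (le_normalizer.trans hRM) (le_normalizer.trans hRL)
      have hgL : g ∈ L := mem_of_sylow_le_conj hG h hL hpL S hSL (heq ▸ hSM)
      rw [map_conj_eq_self (le_normalizer hgL)] at heq
      rw [heq]
      exact hQK.trans (hKD.trans hDL)
    · have hC : Q ≤ centralizer ((S : Subgroup G) : Set G) :=
        le_centralizer_of_not_beta hG h hL hqb hSd (hQK.trans hKD)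
          (fun hd => by
            obtain ⟨j, hj⟩ := S.isPGroup'.exists_card_eq
            rw [hj] at hd
            exact hqp ((Nat.prime_dvd_prime_iff_eq hq hp.out).1 (hq.dvd_of_dvd_pow hd))) hQq hT
      exact (hC.trans (centralizer_le_normalizer _)).trans hNSM
  · obtain ⟨hHall, -, -⟩ := sigmaCore_hall hG h.uniq smallRankFrattini fittingRankTwoDerived hM
    have hSσ : (S : Subgroup G) ≤ sigmaCore M := le_of_normal_hall hHall (le_normalizer_sigmaCore M)
      hSM (isPiSub_of_isPGroup hp.out S.isPGroup' hpM)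
    have hbot : Q ⊓ sigmaCore M = ⊥ := le_bot_iff.1 fun x hx => by
      obtain ⟨j, hj⟩ := hQq.exists_card_eq
      refine mem_bot.2 (orderOf_eq_one_iff.1 (Nat.eq_one_of_dvd_coprimes
        (((hq.coprime_iff_not_dvd).2 fun hd => hqM (isPiSub_sigmaCore M q hq hd)).pow_left j)
        (hj ▸ orderOf_dvd_natCard Q hx.1) (orderOf_dvd_natCard _ hx.2)))
    -- fixed points in `M` of an element of `S` normalized by a subgroup of `S` are centralized by it
    have hfix : ∀ C B : Subgroup G, C ≤ Q → C ≤ M → B ≤ (S : Subgroup G) →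
        B ≤ normalizer (C : Set G) → C ≤ centralizer (B : Set G) := by
      intro C B hCQ hCM hBS hBC
      rw [← commutator_eq_bot_iff_le_centralizer, eq_bot_iff, commutator_le]
      intro c hc b hb
      rw [← hbot]
      refine mem_inf.2 ⟨hCQ (Coprime.commutator_le_of_le_normalizer hBC (commutator_mem_commutator hc hb)), ?_⟩
      rw [commutatorElement_def]
      exact (sigmaCore M).mul_mem ((mem_normalizer_iff.1 (le_normalizer_sigmaCore M (hCM hc)) b).1
        (hSσ (hBS hb))) ((sigmaCore M).inv_mem (hSσ (hBS hb)))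
    have hP₁Z : P₁ ≤ centralizer (Z : Set G) := hP₁S.trans hSZ
    have hPQ : P₁ ≤ normalizer (Q : Set G) := hP₁S.trans hT
    -- `Z` centralizes `Q`
    obtain ⟨t, ht, htZ⟩ : ∃ t ∈ P₁, t ∉ Z := by
      by_contra hno
      push Not at hno
      exact hna ⟨⟨fun a b => Subtype.ext
        ((mem_centralizer_iff.1 (hP₁Z b.2) a (hno a a.2)))⟩⟩
    set A := Z ⊔ zpowers t with hA
    have hAP : A ≤ P₁ := sup_le hZP (zpowers_le.2 ht)
    have hZt : zpowers t ≤ centralizer (Z : Set G) := zpowers_le.2 (hP₁Z ht)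
    haveI hZcyc : IsCyclic Z := isCyclic_of_prime_card hZc
    haveI hAcomm : IsMulCommutative A :=
      isMulCommutative_sup inferInstance inferInstance hZt
    have hAnc : ¬ IsCyclic A := by
      intro hc
      haveI := hc
      have hd : Nat.card A ∣ p := by
        rw [← IsCyclic.exponent_eq_card]
        exact Monoid.exponent_dvd_of_forall_pow_eq_one fun a => Subtype.ext (hexp a (hAP a.2))
      refine htZ ?_
      rw [eq_of_le_of_card_ge (le_sup_left : Z ≤ A) (hZc ▸ Nat.le_of_dvd hp.out.pos hd)]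
      exact mem_sup_right (mem_zpowers t)
    have hQZ : Q ≤ centralizer (Z : Set G) := by
      refine Coprime.le_of_centralizer_le A Q _ hAnc (hAP.trans hPQ) ?_ fun e he he1 => ?_
      · obtain ⟨j, hj⟩ := (hP₁p.to_le hAP).exists_card_eq
        rw [hj]; exact ((hp.out.coprime_iff_not_dvd).2 hQp).pow_left j
      · by_cases heZ : zpowers e = Z
        · rw [← heZ, zpowers_eq_closure, centralizer_closure]; exact inf_le_right
        · have hec : Nat.card (zpowers e) = p := by
            rw [Nat.card_zpowers, orderOf_eq_prime (hexp e (hAP he)) he1]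
          have hCM : centralizer ({e} : Set G) ≤ M := by
            have := hlines t ht htZ (zpowers e) (zpowers_le.2 he) hec heZ
            rwa [zpowers_eq_closure, centralizer_closure] at this
          refine (hfix _ A inf_le_left (inf_le_right.trans hCM) (hAP.trans hP₁S) ?_).trans
            (centralizer_anti le_sup_left)
          refine Coprime.le_normalizer_inf (hAP.trans hPQ) ?_
          refine ((le_centralizer_self_of_comm hAcomm).trans (fun x hx => ?_)).trans le_normalizer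
          exact mem_centralizer_singleton_iff.2 (mem_centralizer_iff.1 hx e he).symm
    refine le_of_centralizer_le_mod hZP hder hP₁Z hP₁p hna hPQ hQZ hQp fun t' ht' htZ' => ?_
    have hc : Nat.card (zpowers t') = p := by
      rw [Nat.card_zpowers, orderOf_eq_prime (hexp t' ht') (fun h0 => htZ' (h0 ▸ Z.one_mem))]
    have := hlines t' ht' htZ' (zpowers t') le_sup_right hc
      (fun h0 => htZ' (h0 ▸ mem_zpowers t'))
    rw [zpowers_eq_closure, centralizer_closure] at this
    exact inf_le_right.trans this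

/-- Two maximal subgroups over a nonabelian Sylow subgroup coincide. -/
theorem eq_of_nonabelian_sylow_le {M L : Subgroup G} (hM : IsCoatom M) (hL : IsCoatom L)
    (S : Sylow p G) (hna : ¬ IsMulCommutative (S : Subgroup G)) (hSM : (S : Subgroup G) ≤ M)
    (hSL : (S : Subgroup G) ≤ L) : M = L := by
  by_cases hr : PRankLE p 2 (S : Subgroup G)
  swap
  · exact uniq_of_pgroup h.uniq hp.out hr hM hL hSM hSL
  have hσ : ∀ N : Subgroup G, IsCoatom N → (S : Subgroup G) ≤ N → p ∈ sigma N := by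
    intro N hN hSN
    by_contra hps
    refine hna (isMulCommutative_of_nilpotent_sigma' hG h hN hSN S.isPGroup'.isNilpotent
      fun q hq hd => ?_)
    obtain ⟨j, hj⟩ := S.isPGroup'.exists_card_eq
    rw [hj] at hd
    rw [(Nat.prime_dvd_prime_iff_eq hq hp.out).1 (hq.dvd_of_dvd_pow hd)]
    exact hps
  obtain ⟨P₁, P₂, hsup, hcomm, hna₁, hcard, hexp, hcyc, hΩ⟩ :=
    (sylow_rank_two_shape hG h.uniq h.plength h.blackburn p S hr).resolve_left hna
  set Z := P₁ ⊓ centralizer (P₁ : Set G) with hZ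
  have hP₁S : P₁ ≤ (S : Subgroup G) := hsup ▸ le_sup_left
  have hexp' : ∀ x ∈ P₁, x ^ p = 1 := fun x hx => by
    have := congrArg Subtype.val (Monoid.pow_exponent_eq_one (⟨x, hx⟩ : P₁))
    simpa [hexp] using this
  have hder : ⁅P₁, P₁⁆ = Z := commutator_eq_center_of_card_prime_cube P₁ hna₁ hcard
  have hZ1 : Z ≠ ⊥ := fun h0 => hna₁ ⟨⟨fun a b => Subtype.ext (commutatorElement_eq_one_iff_mul_comm.1
    (mem_bot.1 ((hder.trans h0).le (commutator_mem_commutator a.2 b.2))))⟩⟩
  have hZP₂ : Z ≤ P₂ := hΩ ▸ (closure_le _).2 fun x hx => hx.1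
  have hZc : Nat.card Z = p := by
    haveI := hcyc
    haveI : IsCyclic Z := isCyclic_of_injective (inclusion hZP₂) (inclusion_injective _)
    have hd : Nat.card Z ∣ p := by
      rw [← IsCyclic.exponent_eq_card]
      exact Monoid.exponent_dvd_of_forall_pow_eq_one fun a => Subtype.ext (hexp' a a.2.1)
    exact ((Nat.dvd_prime hp.out).1 hd).resolve_left fun h0 => hZ1 (eq_bot_of_card_eq _ h0)
  have hSZ : (S : Subgroup G) ≤ centralizer (Z : Set G) := hsup ▸ sup_le
    (Subgroup.le_centralizer_iff.1 inf_le_right)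
    fun b hb => mem_centralizer_iff.2 fun z hz => hcomm z hz.1 b hb
  by_contra hne
  let U : Subgroup G → Subgroup G → Prop := fun N X => normalizer (X : Set G) ≤ N ∧
    ∀ N' : Subgroup G, IsCoatom N' → normalizer (X : Set G) ≤ N' → N' = N
  have hswap : ∀ N N' : Subgroup G, IsCoatom N → IsCoatom N' → (S : Subgroup G) ≤ N →
      (S : Subgroup G) ≤ N' → N ≠ N' → ¬ U N Z → ∀ t ∈ P₁, t ∉ Z → U N (zpowers t) ∧
        ∀ X : Subgroup G, X ≤ Z ⊔ zpowers t → Nat.card X = p → X ≠ Z →
          centralizer (X : Set G) ≤ N := by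
    intro N N' hN hN' hSN hSN' hNN hU' t ht htZ
    set A := Z ⊔ zpowers t
    have hAP : A ≤ P₁ := sup_le inf_le_left (zpowers_le.2 ht)
    have hto : orderOf t = p := orderOf_eq_prime (hexp' t ht) (fun h0 => htZ (h0 ▸ Z.one_mem))
    have hZe : IsElementaryAbelian p Z := ⟨isMulCommutative_of_le_centralizer
      (inf_le_right.trans (centralizer_anti inf_le_left)), fun x hx => hexp' x hx.1⟩
    have hZt : zpowers t ≤ centralizer (Z : Set G) := zpowers_le.2 (hSZ (hP₁S ht))
    have hAe := elemAbelian_sup hZe (elemAbelian_zpowers (hexp' t ht)) hZt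
    have hinf : zpowers t ⊓ Z = ⊥ := eq_bot_of_card_eq _ <| by
      refine ((Nat.dvd_prime hp.out).1 ?_).resolve_right fun hc => htZ ?_
      · exact hto ▸ Nat.card_zpowers t ▸ card_dvd_of_le inf_le_left
      · have := eq_of_le_of_card_ge (inf_le_left : zpowers t ⊓ Z ≤ zpowers t)
          (by rw [hc, Nat.card_zpowers, hto])
        exact (this.ge (mem_zpowers t)).2
    have hAc : Nat.card A = p ^ 2 := by
      rw [← relIndex_mul_card (le_sup_left : Z ≤ Z ⊔ zpowers t), sup_comm Z (zpowers t),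
        Coprime.relIndex_sup_of_le_normalizer (hZt.trans (centralizer_le_normalizer _)),
        ← inf_relIndex_left, hinf, relIndex_bot_left, Nat.card_zpowers, hto, hZc, sq]
    obtain ⟨X, hXA, hXc, hXU⟩ : ∃ X : Subgroup G, X ≤ A ∧ Nat.card X = p ∧ U N X := by
      by_contra hno
      push Not at hno
      obtain ⟨-, hpN, -, hnil⟩ := not_unique_case hG h hN ((hAP.trans hP₁S).trans hSN) hAe hAc
        fun A₀ h0 hc hU0 => hno A₀ h0 hc hU0
      obtain ⟨Q, -, hQn, hQmax⟩ := exists_normal_sylow hG h hN hpN hnil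
      have hSQ : (S : Subgroup G) = Q := (S.is_maximal' Q.isPGroup' (hQmax _ hSN S.isPGroup')).symm
      refine hNN ((hN.le_iff.1 ((hQn.trans ?_).trans
        (normalizer_le_of_sylow_le (hσ N' hN' hSN') S hSN'))).resolve_left hN'.1).symm
      rw [hSQ]
    have hXne : X ≠ Z := fun h0 => hU' (h0 ▸ hXU)
    -- the lines different from `Z` are conjugate
    have hconj : ∀ Y : Subgroup G, Y ≤ A → Nat.card Y = p → Y ≠ Z →
        ∃ a ∈ P₁, Y = (zpowers t).map (MulAut.conj a).toMonoidHom := by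
      intro Y hYA hYc hYZ
      obtain ⟨y, hy, hyZ⟩ : ∃ y ∈ Y, y ∉ Z := SetLike.not_le_iff_exists.1 fun hle =>
        hYZ (eq_of_le_of_card_ge hle (by rw [hYc, hZc]))
      have hy1 : y ≠ 1 := fun h0 => hyZ (h0 ▸ Z.one_mem)
      obtain ⟨z, hz, u, hu, hzu⟩ := Coprime.exists_mul_of_mem_sup
        (hZt.trans (centralizer_le_normalizer _)) (hYA hy)
      have hu1 : u ≠ 1 := fun h0 => hyZ (by rw [hzu, h0, mul_one]; exact hz)
      have huP : u ∈ P₁ := zpowers_le.2 ht hu
      have huZ : u ∉ Z := fun h0 => hu1 (mem_bot.1 (hinf ▸ mem_inf.2 ⟨hu, h0⟩))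
      obtain ⟨a₀, ha₀, hc⟩ : ∃ a₀ ∈ P₁, ⁅a₀, u⁆ ≠ 1 := by
        by_contra hno
        push Not at hno
        exact huZ ⟨huP, mem_centralizer_iff.2 fun b hb =>
          commutatorElement_eq_one_iff_mul_comm.1 (hno b hb)⟩
      have hcZ : ⁅a₀, u⁆ ∈ Z := hder ▸ commutator_mem_commutator ha₀ huP
      have hgen : zpowers ⁅a₀, u⁆ = Z := eq_of_le_of_card_ge (zpowers_le.2 hcZ) (by
        rw [Nat.card_zpowers, orderOf_eq_prime (hexp' _ hcZ.1) hc, hZc])
      obtain ⟨j, hj⟩ := (isOfFinOrder_of_finite _).mem_powers_iff_mem_zpowers.2 (hgen.ge hz)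
      refine ⟨a₀ ^ j, P₁.pow_mem ha₀ j, ?_⟩
      have hy' : a₀ ^ j * u * (a₀ ^ j)⁻¹ = y := by
        rw [OddLocal43.pow_conj_of_commute (mem_centralizer_iff.1 hcZ.2 a₀ ha₀)
          (by rw [commutatorElement_def]; group) j, hzu]
        exact congrArg (· * u) hj
      have hut : zpowers u = zpowers t := eq_of_le_of_card_ge (zpowers_le.2 hu) (by
        rw [Nat.card_zpowers, Nat.card_zpowers, hto, orderOf_eq_prime (hexp' u huP) hu1])
      rw [← hut, MonoidHom.map_zpowers]
      refine (eq_of_le_of_card_ge (zpowers_le.2 ?_) ?_).symm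
      · exact (show (MulAut.conj (a₀ ^ j)).toMonoidHom u = y from hy') ▸ hy
      · rw [hYc, Nat.card_zpowers, show (MulAut.conj (a₀ ^ j)).toMonoidHom u = y from hy',
          orderOf_eq_prime (hexp' y (hAP (hYA hy))) hy1]
    have hUt : U N (zpowers t) := by
      obtain ⟨a, ha, rfl⟩ := hconj X hXA hXc hXne
      have h1 := uniq_map_conj (a := a⁻¹) (N.inv_mem (hSN (hP₁S ha))) hXU
        (fun L' hL' g => isCoatom_map_conj hL' g)
      rwa [normalizer_map_conj, map_conj_comp, inv_mul_cancel, map_conj_one] at h1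
    refine ⟨hUt, fun Y hYA hYc hYZ => ?_⟩
    obtain ⟨a, ha, rfl⟩ := hconj Y hYA hYc hYZ
    refine (centralizer_le_normalizer _).trans ?_
    rw [normalizer_map_conj]
    exact (uniq_map_conj (hSN (hP₁S ha)) hUt (fun L' hL' g => isCoatom_map_conj hL' g)).1
  by_cases hUM : U M Z
  · have hUL : ¬ U L Z := fun h0 => hne (hUM.2 L hL h0.1).symm
    exact hne ((hM.le_iff.1 (sylow_uniq_aux hG h hL hM S hSL hSM (hσ L hL hSL) (hσ M hM hSM) hP₁S
      hna₁ hexp' inf_le_left hZc hder.le hSZ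
      fun t a b => (hswap L M hL hM hSL hSM (Ne.symm hne) hUL t a b).2)).resolve_left hL.1).symm
  · exact hne ((hL.le_iff.1 (sylow_uniq_aux hG h hM hL S hSM hSL (hσ M hM hSM) (hσ L hL hSL) hP₁S
      hna₁ hexp' inf_le_left hZc hder.le hSZ
      fun t a b => (hswap M L hM hL hSM hSL hne hUM t a b).2)).resolve_left hM.1)

/-- BG 12.13. -/
theorem inUniqueMaximal_of_nonabelian {P : Subgroup G} (hP : IsPGroup p P)
    (hna : ¬ IsMulCommutative P) : InUniqueMaximal P := by
  have hPtop : P ≠ ⊤ := fun h0 => not_isSolvable hG (by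
    haveI := (hP.of_equiv ((MulEquiv.subgroupCongr h0).trans Subgroup.topEquiv)).isNilpotent
    infer_instance)
  obtain ⟨M, hM, hPM⟩ := exists_coatom_ge hG hPtop
  refine ⟨M, ⟨hM, hPM⟩, fun L hL => ?_⟩
  obtain ⟨hL, hPL⟩ := hL
  -- a Sylow subgroup of `M ∩ L` over `P`
  obtain ⟨T, hT⟩ := (hP.comap_subtype (K := M ⊓ L)).exists_le_sylow
  set R := (T : Subgroup ↥(M ⊓ L)).map (M ⊓ L).subtype with hR
  have hPR : P ≤ R := fun x hx => ⟨⟨x, hPM hx, hPL hx⟩, hT hx, rfl⟩
  have hRp : IsPGroup p R := T.isPGroup'.map _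
  have hRle : R ≤ M ⊓ L := map_subtype_le _
  have hRna : ¬ IsMulCommutative R := fun hc => hna (isMulCommutative_of_le_centralizer
    ((hPR.trans (le_centralizer_self_of_comm hc)).trans (centralizer_anti hPR)))
  have hRd : ¬ p ∣ R.relIndex (M ⊓ L) := by
    rw [hR, Subgroup.relIndex, subgroupOf, comap_map_eq_self_of_injective (M ⊓ L).subtype_injective]
    exact T.not_dvd_index
  have key : ∀ N : Subgroup G, IsCoatom N → R ≤ N → p ∈ sigma N ∧ normalizer (R : Set G) ≤ N := by
    intro N hN hRN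
    have hps : p ∈ sigma N := by
      by_contra hps
      refine hRna (isMulCommutative_of_nilpotent_sigma' hG h hN hRN hRp.isNilpotent
        fun q hq hd => ?_)
      obtain ⟨j, hj⟩ := hRp.exists_card_eq
      rw [hj] at hd
      rw [(Nat.prime_dvd_prime_iff_eq hq hp.out).1 (hq.dvd_of_dvd_pow hd)]
      exact hps
    exact ⟨hps, normalizer_le_of_not_isCyclic hG h hN hps hRp hRN fun hc => hRna (by infer_instance)⟩
  obtain ⟨hpM, hNM⟩ := key M hM (hRle.trans inf_le_left)
  obtain ⟨-, hNL⟩ := key L hL (hRle.trans inf_le_right)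
  have hd : ¬ p ∣ R.index := by
    rw [← relIndex_mul_index (hRle.trans inf_le_left)]
    exact fun hd => ((Nat.Prime.dvd_mul hp.out).1 hd).elim
      (not_dvd_relIndex_of_normalizer_inf_le hRp (hRle.trans inf_le_left) hRd
        (le_inf inf_le_left (inf_le_right.trans hNL)))
      (not_dvd_index_of_mem_sigma hpM)
  exact (eq_of_nonabelian_sylow_le hG h hM hL (hRp.toSylow hd) hRna (hRle.trans inf_le_left)
    (hRle.trans inf_le_right)).symm

end Cfsg.Agent.BGTwelve
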