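import Cfsg.Agent.BGTwelve.SigmaSub
import Cfsg.Agent.BGTwelve.Uniqueness
import Cfsg.Agent.BGTwelve.Inputs
import Cfsg.Agent.BGUniq.FittingOf
import Cfsg.Agent.Lib.PGroup.Basic
import Cfsg.Agent.Lib.Coprime.Generation

/-!
# BG 12.7: `p ∈ τ₂(M)` when the Sylow `p`-subgroups of `G` are nonabelian
-/

set_option autoImplicit false

namespace Cfsg.Agent.BGTwelve

open Cfsg BGSigma Subgroup
open scoped commutatorElement

universe u

variable {G : Type u} [Group G] [Finite G] {p : ℕ} [hp : Fact p.Prime]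

/-- A subgroup of order `p` normalized by a `p`-group is centralized by it. -/
theorem le_centralizer_of_card_prime_normalized {X Q : Subgroup G} (hQ : IsPGroup p Q)
    (hXc : Nat.card X = p) (hn : Q ≤ normalizer (X : Set G)) : Q ≤ centralizer (X : Set G) := by
  have hH : IsPGroup p ↥(X ⊔ Q) :=
    IsPGroup.to_sup_of_normal_left' (IsPGroup.of_card (n := 1) (by rw [hXc, pow_one])) hQ hn
  haveI : (X.subgroupOf (X ⊔ Q)).Normal :=
    (normal_subgroupOf_iff_le_normalizer le_sup_left).2 (sup_le le_normalizer hn)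
  have hc := PGroup.le_center_of_card_eq_prime hH (N := X.subgroupOf (X ⊔ Q))
    (by rw [Nat.card_congr (subgroupOfEquivOfLe (le_sup_left : X ≤ X ⊔ Q)).toEquiv, hXc])
  intro y hy
  refine mem_centralizer_iff.2 fun x hx => ?_
  exact (congrArg Subtype.val (mem_center_iff.1
    (hc (show (⟨x, mem_sup_left hx⟩ : ↥(X ⊔ Q)) ∈ X.subgroupOf (X ⊔ Q) from hx))
    ⟨y, mem_sup_right hy⟩)).symm

omit hp [Finite G] in
theorem centralizer_zpowers_eq (e : G) :
    centralizer (zpowers e : Set G) = centralizer ({e} : Set G) := by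
  rw [zpowers_eq_closure, centralizer_closure]

omit hp [Finite G] in
/-- A nilpotent group has no nontrivial `W` with `W ≤ [H, W]`. -/
theorem false_of_le_commutator {H : Type*} [Group H] [Group.IsNilpotent H] {W : Subgroup H}
    (hW : W ≠ ⊥) (hle : W ≤ ⁅(⊤ : Subgroup H), W⁆) : False := by
  obtain ⟨n, hn⟩ := Subgroup.nilpotent_iff_lowerCentralSeries.1 ‹Group.IsNilpotent H›
  have key : ∀ k, W ≤ (⊤ : Subgroup H).lowerCentralSeries k := by
    intro k
    induction k with
    | zero => exact le_top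
    | succ k ih =>
      refine hle.trans ((commutator_mono le_rfl ih).trans ?_)
      rw [commutator_comm]
      rfl
  exact hW (le_bot_iff.1 (hn ▸ key n))

omit hp in
/-- In a cyclic subgroup an element lies in the subgroup of any element of the same order. -/
theorem mem_zpowers_of_cyclic {C : Subgroup G} [IsCyclic C] {u v : G} (hu : u ∈ C) (hv : v ∈ C)
    (ho : orderOf v = orderOf u) : v ∈ zpowers u := by
  obtain ⟨g, hg⟩ := IsCyclic.exists_generator (α := C)
  obtain ⟨a, ha⟩ := (isOfFinOrder_of_finite g).mem_powers_iff_mem_zpowers.2 (hg ⟨u, hu⟩)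
  obtain ⟨b, hb⟩ := (isOfFinOrder_of_finite g).mem_powers_iff_mem_zpowers.2 (hg ⟨v, hv⟩)
  have ha' : (g : G) ^ a = u := congrArg Subtype.val ha
  have hb' : (g : G) ^ b = v := congrArg Subtype.val hb
  obtain ⟨m, hm⟩ : (orderOf (g : G)).gcd a ∣ b := by
    have h : (orderOf (g : G)).gcd a = (orderOf (g : G)).gcd b := by
      have h1 := orderOf_pow (n := a) (g : G)
      have h2 := orderOf_pow (n := b) (g : G)
      rw [ha'] at h1; rw [hb', ho, h1] at h2
      have d1 := Nat.gcd_dvd_left (orderOf (g : G)) a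
      have d2 := Nat.gcd_dvd_left (orderOf (g : G)) b
      rw [← Nat.div_div_self d1 (orderOf_pos _).ne', h2, Nat.div_div_self d2 (orderOf_pos _).ne']
    rw [h]; exact Nat.gcd_dvd_right _ _
  refine ⟨Nat.gcdB (orderOf (g : G)) a * m, ?_⟩
  have hbez := Nat.gcd_eq_gcd_ab (orderOf (g : G)) a
  show u ^ _ = v
  rw [← ha', ← hb', hm, pow_mul, ← zpow_natCast, ← zpow_natCast (g : G) ((orderOf (g : G)).gcd a), hbez,
    ← zpow_natCast _ m, zpow_add, zpow_mul (g : G) ((orderOf (g : G) : ℕ) : ℤ), zpow_natCast (g : G) (orderOf (g : G)),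
    pow_orderOf_eq_one, one_zpow, one_mul]
  simp only [← zpow_mul, mul_assoc]

omit hp [Finite G] in
theorem orderOf_conj_eq (s a : G) : orderOf (s * a * s⁻¹) = orderOf a :=
  orderOf_injective (MulAut.conj s).toMonoidHom (MulAut.conj s).injective a

/-- Two subgroups of order `p` sharing a nontrivial element are equal. -/
theorem eq_of_mem_of_card_prime {X Y : Subgroup G} (hX : Nat.card X = p) (hY : Nat.card Y = p)
    {x : G} (hx : x ∈ X) (hy : x ∈ Y) (h1 : x ≠ 1) : X = Y := by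
  have hxz : ∀ {W : Subgroup G}, Nat.card W = p → x ∈ W → zpowers x = W := fun {W} hW hxW => by
    refine eq_of_le_of_card_ge (zpowers_le.2 hxW) ?_
    rw [hW, Nat.card_zpowers]
    exact ((hp.out.eq_one_or_self_of_dvd _ (hW ▸ orderOf_dvd_natCard W hxW)).resolve_left
      fun h => h1 (orderOf_eq_one_iff.1 h)).ge
  rw [← hxz hX hx, hxz hY hy]

/-- A subgroup of a group of order `p²` is trivial, the whole group, or of order `p`. -/
theorem card_eq_prime_of_sq {A X : Subgroup G} (hA : Nat.card A = p ^ 2) (hle : X ≤ A) (h0 : X ≠ ⊥)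
    (h1 : X ≠ A) : Nat.card X = p := by
  obtain ⟨j, hj, hj'⟩ := (Nat.dvd_prime_pow hp.out).1 (hA ▸ card_dvd_of_le hle)
  interval_cases j
  · exact absurd (eq_bot_of_card_eq _ (hj'.trans (pow_zero p))) h0
  · rw [hj', pow_one]
  · exact absurd (eq_of_le_of_card_ge hle (by rw [hA, hj'])) h1

theorem not_isCyclic_sq {A : Subgroup G} (hA : IsElementaryAbelian p A) (hAc : Nat.card A = p ^ 2) :
    ¬ IsCyclic A := fun hc => by
  haveI := hc
  have hd : Nat.card A ∣ p := by
    rw [← IsCyclic.exponent_eq_card]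
    exact Monoid.exponent_dvd_of_forall_pow_eq_one fun a => Subtype.ext (hA.2 a a.2)
  have := Nat.le_of_dvd hp.out.pos hd
  rw [hAc] at this
  nlinarith [hp.out.one_lt]

/-- A `p`-element `s` normalizing an elementary `A` of order `p²`, whose fixed points are the line
`Z`, permutes the other lines transitively. -/
theorem exists_pow_conj_line {A Z X X' : Subgroup G} {s : G} (hAc : Nat.card A = p ^ 2)
    (hAa : IsMulCommutative A) (hsA : s ∈ normalizer (A : Set G)) (hs : IsPGroup p (zpowers s))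
    (hZA : Z ≤ A) (hZc : Nat.card Z = p) (hsZ : s ∈ centralizer (Z : Set G))
    (hns : s ∉ centralizer (A : Set G))
    (hXA : X ≤ A) (hXc : Nat.card X = p) (hXZ : X ≠ Z)
    (hX'A : X' ≤ A) (hX'c : Nat.card X' = p) (hX'Z : X' ≠ Z) :
    ∃ n : ℕ, X' = X.map (MulAut.conj (s ^ n)).toMonoidHom := by
  haveI := hAa
  have hsup : ∀ W : Subgroup G, W ≤ A → Nat.card W = p → W ≠ Z → A ≤ W ⊔ Z := fun W hW hWc hne => by
    by_contra hle
    have hlt : W ⊔ Z ≠ A := fun h0 => hle h0.ge
    have hne0 : W ⊔ Z ≠ ⊥ := fun h0 => by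
      rw [le_bot_iff.1 ((le_sup_left : W ≤ W ⊔ Z).trans h0.le), card_bot] at hWc
      exact hp.out.ne_one hWc.symm
    have hc := card_eq_prime_of_sq hAc (sup_le hW hZA) hne0 hlt
    exact hne ((eq_of_le_of_card_ge (le_sup_left : W ≤ W ⊔ Z) (by rw [hc, hWc])).trans
      (eq_of_le_of_card_ge (le_sup_right : Z ≤ W ⊔ Z) (by rw [hc, hZc])).symm)
  have hfix : ∀ {W : Subgroup G}, W ≤ A → Nat.card W = p → W ≠ Z →
      s ∈ centralizer (W : Set G) → False := fun {W} hW hWc hne hsW => by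
    refine hns (mem_centralizer_iff.2 fun a ha => ?_)
    obtain ⟨w, hw, z, hz, rfl⟩ := Coprime.exists_mul_of_mem_sup (hZA.trans (le_centralizer_self_of_comm hAa)
      |>.trans ((centralizer_anti hW).trans (centralizer_le_normalizer _))) (hsup W hW hWc hne ha)
    exact ((show Commute w s from mem_centralizer_iff.1 hsW w hw).mul_left
      (show Commute z s from mem_centralizer_iff.1 hsZ z hz)).eq
  -- `[s, a] ∈ Z` on `A`
  have hZ' : ∀ a ∈ A, s * a * s⁻¹ * a⁻¹ ∈ Z := by
    set D := ⁅zpowers s, A⁆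
    have hSA : zpowers s ≤ normalizer (A : Set G) := zpowers_le.2 hsA
    have hDA : D ≤ A := Subgroup.le_normalizer_iff_commutator_le_right.1 hSA
    have hDn : zpowers s ≤ normalizer (D : Set G) := OddLocal43.normalizes_commutator le_normalizer hSA
    intro a ha
    have hmem : s * a * s⁻¹ * a⁻¹ ∈ D := commutator_mem_commutator (mem_zpowers s) ha
    by_cases h0 : D = ⊥
    · rw [h0, mem_bot] at hmem
      rw [hmem]; exact Z.one_mem
    by_cases h1 : D = A
    · exfalso
      have hH : IsPGroup p ↥(A ⊔ zpowers s) := IsPGroup.to_sup_of_normal_left'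
        (IsPGroup.of_card hAc) hs hSA
      haveI := hH.isNilpotent
      have hA' : A.subgroupOf (A ⊔ zpowers s) ≠ ⊥ := fun hb => by
        rw [subgroupOf_eq_bot, disjoint_iff, inf_eq_left.2 le_sup_left] at hb
        rw [hb, card_bot] at hAc
        exact absurd hAc.symm (Nat.one_lt_pow two_ne_zero hp.out.one_lt).ne'
      exact false_of_le_commutator hA' (fun x hx => by
        rw [mem_subgroupOf] at hx
        have e : ⁅(zpowers s).subgroupOf (A ⊔ zpowers s), A.subgroupOf (A ⊔ zpowers s)⁆.map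
            (A ⊔ zpowers s).subtype = A := by
          rw [map_commutator, subgroupOf_map_subtype, subgroupOf_map_subtype,
            inf_eq_left.2 le_sup_right, inf_eq_left.2 le_sup_left]
          exact h1
        have hx' : (x : G) ∈ ⁅(zpowers s).subgroupOf (A ⊔ zpowers s),
            A.subgroupOf (A ⊔ zpowers s)⁆.map (A ⊔ zpowers s).subtype := by rw [e]; exact hx
        obtain ⟨y, hy, hyx⟩ := hx'
        obtain rfl : y = x := Subtype.ext hyx
        exact commutator_mono le_top le_rfl hy)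
    have hc := card_eq_prime_of_sq hAc hDA h0 h1
    have hsD := le_centralizer_of_card_prime_normalized hs hc hDn (mem_zpowers s)
    rcases eq_or_ne D Z with hDZ | hDZ
    · exact hDZ ▸ hmem
    · exact (hfix hDA hc hDZ hsD).elim
  have hX1 : X ≠ ⊥ := fun h0 => by rw [h0, card_bot] at hXc; exact hp.out.ne_one hXc.symm
  obtain ⟨x, hx, hx1⟩ := (X.bot_or_exists_ne_one).resolve_left hX1
  set k := x⁻¹ * (s * x * s⁻¹) with hk
  have hkZ : k ∈ Z := by
    have h1 := hZ' x (hXA hx)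
    have e : k = x⁻¹ * (s * x * s⁻¹ * x⁻¹) * x := by rw [hk]; group
    rw [e, show x⁻¹ * (s * x * s⁻¹ * x⁻¹) = (s * x * s⁻¹ * x⁻¹) * x⁻¹ from
      mem_centralizer_iff.1 (le_centralizer_self_of_comm hAa (hZA h1)) _ (A.inv_mem (hXA hx)),
      inv_mul_cancel_right]
    exact h1
  have hk1 : k ≠ 1 := fun h0 => by
    refine hfix hXA hXc hXZ (mem_centralizer_iff.2 fun y hy => ?_)
    have hsx : Commute x s := by
      rw [hk, inv_mul_eq_one] at h0
      exact (eq_mul_inv_iff_mul_eq.1 h0)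
    have hy' : y ∈ zpowers x := by
      rwa [show zpowers x = X from eq_of_le_of_card_ge (zpowers_le.2 hx) (by
        rw [hXc, Nat.card_zpowers]
        exact ((hp.out.eq_one_or_self_of_dvd _ (hXc ▸ orderOf_dvd_natCard X hx)).resolve_left
          fun h => hx1 (orderOf_eq_one_iff.1 h)).ge)]
    obtain ⟨i, rfl⟩ := hy'
    exact (hsx.zpow_left i).eq
  have hsk : Commute s k := (mem_centralizer_iff.1 hsZ k hkZ).symm
  have hpow : ∀ n : ℕ, s ^ n * x * (s ^ n)⁻¹ = x * k ^ n := by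
    intro n
    induction n with
    | zero => simp
    | succ n ih =>
      calc s ^ (n + 1) * x * (s ^ (n + 1))⁻¹ = s * (s ^ n * x * (s ^ n)⁻¹) * s⁻¹ := by
            rw [pow_succ']; group
        _ = (s * x * s⁻¹) * (s * k ^ n * s⁻¹) := by rw [ih]; group
        _ = (x * k) * k ^ n := by
            rw [(hsk.pow_right n).eq, mul_inv_cancel_right, hk, mul_inv_cancel_left]
        _ = x * k ^ (n + 1) := by rw [mul_assoc, ← pow_succ']
  -- an element of `X'` of the form `x k ^ n`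
  have hX'1 : X' ≠ ⊥ := fun h0 => by rw [h0, card_bot] at hX'c; exact hp.out.ne_one hX'c.symm
  obtain ⟨y, hy, hy1⟩ := (X'.bot_or_exists_ne_one).resolve_left hX'1
  obtain ⟨a, ha, z, hz, rfl⟩ := Coprime.exists_mul_of_mem_sup
    (((hZA.trans (le_centralizer_self_of_comm hAa)).trans (centralizer_anti hXA)).trans
      (centralizer_le_normalizer _)) (hsup X hXA hXc hXZ (hX'A hy))
  have ha1 : a ≠ 1 := fun h0 => by
    rw [h0, one_mul] at hy hy1
    exact hX'Z (eq_of_mem_of_card_prime hX'c hZc hy hz hy1)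
  have hgen : ∀ {W : Subgroup G} {w v : G}, Nat.card W = p → w ∈ W → w ≠ 1 → v ∈ W →
      ∃ c : ℕ, w ^ c = v := fun {W w v} hW hw hw1 hv => by
    have hz : zpowers w = W := eq_of_le_of_card_ge (zpowers_le.2 hw) (by
      rw [hW, Nat.card_zpowers]
      exact ((hp.out.eq_one_or_self_of_dvd _ (hW ▸ orderOf_dvd_natCard W hw)).resolve_left
        fun h => hw1 (orderOf_eq_one_iff.1 h)).ge)
    have := (isOfFinOrder_of_finite w).mem_powers_iff_mem_zpowers.2 (show v ∈ zpowers w from hz ▸ hv)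
    exact this
  obtain ⟨c, hc⟩ := hgen hXc ha ha1 hx
  obtain ⟨n, hn⟩ := hgen hZc hkZ hk1 (Z.pow_mem hz c)
  refine ⟨n, eq_of_mem_of_card_prime hX'c ((BGSigma.card_map_conj X _).trans hXc)
    (X'.pow_mem hy c) ⟨x, hx, ?_⟩ fun h0 => ?_⟩
  · show s ^ n * x * (s ^ n)⁻¹ = _
    rw [hpow, hn, (show Commute a z from
      mem_centralizer_iff.1 (le_centralizer_self_of_comm hAa (hZA hz)) a (hXA ha)).mul_pow, hc]
  · rw [(show Commute a z from
      mem_centralizer_iff.1 (le_centralizer_self_of_comm hAa (hZA hz)) a (hXA ha)).mul_pow, hc] at h0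
    exact hXZ (eq_of_mem_of_card_prime hXc hZc hx
      (by rw [eq_inv_of_mul_eq_one_left h0]; exact Z.inv_mem (Z.pow_mem hz c)) hx1)

variable (hG : IsMinSimpleOddOrder G) (h : LocalInputs G)
include hG h

/-- In a Sylow subgroup over a maximal elementary `A` of order `p²` the `p`-th powers of the
centralizer of `A` lie in one cyclic subgroup. -/
theorem exists_cyclic_pow (S : Sylow p G) (hna : ¬ IsMulCommutative (S : Subgroup G)) {A : Subgroup G}
    (hAS : A ≤ S) (hA : IsElementaryAbelian p A) (hAc : Nat.card A = p ^ 2)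
    (hmax : ∀ B : Subgroup G, IsElementaryAbelian p B → A ≤ B → B = A) :
    ∃ C : Subgroup G, IsCyclic C ∧ ∀ x ∈ S, x ∈ Subgroup.centralizer (A : Set G) → x ^ p ∈ C := by
  have hp2 : p ≠ 2 := ne_two_of_dvd hG (H := A) (hAc ▸ dvd_pow_self p two_ne_zero)
  have hAa := hA.1
  by_cases hr : PRankLE p 2 (S : Subgroup G)
  · rcases sylow_rank_two_shape hG h.uniq h.plength h.blackburn p S hr with
      hc | ⟨P₁, P₂, hsup, hcomm, -, -, hexp, hcyc, hΩ⟩
    · exact absurd hc hna
    have h2C : P₂ ≤ Subgroup.centralizer (P₁ : Set G) := fun b hb =>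
      Subgroup.mem_centralizer_iff.2 fun a ha => hcomm a ha b hb
    have hsplit : ∀ x ∈ (S : Subgroup G), ∃ a ∈ P₁, ∃ b ∈ P₂, x = a * b := by
      intro x hx
      rw [← hsup, ← SetLike.mem_coe, Subgroup.coe_mul_of_right_le_normalizer_left P₁ P₂
        (h2C.trans (Subgroup.centralizer_le_normalizer _))] at hx
      obtain ⟨a, ha, b, hb, hab⟩ := hx
      exact ⟨a, ha, b, hb, hab.symm⟩
    have hpow : ∀ a ∈ P₁, a ^ p = 1 := fun a ha => by
      have := Monoid.pow_exponent_eq_one (⟨a, ha⟩ : P₁)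
      rw [hexp] at this
      simpa using congrArg Subtype.val this
    refine ⟨P₂, hcyc, fun x hx _ => ?_⟩
    obtain ⟨a, ha, b, hb, rfl⟩ := hsplit x hx
    rw [(show Commute a b from hcomm a ha b hb).mul_pow, hpow a ha, one_mul]
    exact P₂.pow_mem hb p
  · set E := A.subgroupOf (S : Subgroup G) with hE
    have hEc : Nat.card E = p ^ 2 := by
      rw [hE, Nat.card_congr (Subgroup.subgroupOfEquivOfLe hAS).toEquiv, hAc]
    have hmaxE : ∀ B : Subgroup (S : Subgroup G), IsElementaryAbelian p B → E ≤ B → B = E := by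
      intro B hB hEB
      have hmem : ∀ z ∈ B.map (S : Subgroup G).subtype, z ^ p = 1 := by
        rintro _ ⟨z, hz, rfl⟩
        simpa using congrArg Subtype.val (hB.2 z hz)
      have := hmax (B.map (S : Subgroup G).subtype) ⟨?_, hmem⟩
        (fun a ha => ⟨⟨a, hAS ha⟩, hEB ha, rfl⟩)
      · rw [hE, ← this]
        exact (Subgroup.comap_map_eq_self_of_injective (S : Subgroup G).subtype_injective B).symm
      · haveI := hB.1
        exact isMulCommutative_of_le_centralizer (by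
          rintro _ ⟨z, hz, rfl⟩
          rw [Subgroup.mem_centralizer_iff]
          rintro _ ⟨y, hy, rfl⟩
          exact congrArg Subtype.val (congrArg Subtype.val (mul_comm' (⟨y, hy⟩ : B) ⟨z, hz⟩)))
    obtain ⟨hET, -, -, hTc, hTi⟩ := h.narrow (S : Subgroup G) p hp2 S.isPGroup' hr E
      (elemAbelian_subgroupOf hA hAS) hEc hmaxE
    set T := Subgroup.centralizer ((Subgroup.closure {x : (S : Subgroup G) |
      x ∈ Subgroup.upperCentralSeries (S : Subgroup G) 2 ∧ x ^ p = 1} :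
        Subgroup (S : Subgroup G)) : Set (S : Subgroup G))
    haveI := hTc
    have htop : E ⊔ T = ⊤ := by
      rcases (Nat.dvd_prime hp.out).1 (hTi ▸ Subgroup.index_dvd_of_le (le_sup_right : T ≤ E ⊔ T))
        with h1 | h1
      · exact Subgroup.index_eq_one.1 h1
      · exfalso
        have h2 : T.relIndex (E ⊔ T) * p = p := by
          conv_rhs => rw [← hTi, ← Subgroup.relIndex_mul_index (le_sup_right : T ≤ E ⊔ T)]
          rw [h1]
        exact hET (le_sup_left.trans
          (Subgroup.relIndex_eq_one.1 ((Nat.mul_eq_right hp.out.ne_zero).1 h2)))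
    set C : Subgroup G := (T ⊓ Subgroup.centralizer (E : Set (S : Subgroup G))).map
      (S : Subgroup G).subtype with hC
    have hCA : C ≤ Subgroup.centralizer (A : Set G) := by
      rintro _ ⟨c, hc, rfl⟩
      rw [Subgroup.mem_centralizer_iff]
      intro a ha
      exact congrArg Subtype.val (Subgroup.mem_centralizer_iff.1 hc.2 ⟨a, hAS ha⟩ ha)
    have hCS : C ≤ S := Subgroup.map_subtype_le _
    have hCc : IsCyclic C := by
      refine CharDeep.Zass.isCyclic_of_no_pair (hp.out.odd_of_ne_two hp2) (S.isPGroup'.to_le hCS)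
        fun a b _ ha hb => ?_
      have hmem : ∀ c : C, orderOf c = p → (c : G) ∈ (E ⊓ T).map (S : Subgroup G).subtype := by
        intro c hc
        obtain ⟨c', hc', hce⟩ := c.2
        have hcA : (c : G) ∈ A := (mem_iff_pow_eq_one hA hmax (S := A ⊔ C) le_sup_left
          (sup_le (le_centralizer_self_of_comm hAa) hCA) (Subgroup.mem_sup_right c.2)).1
          (by rw [← hc, ← Subgroup.orderOf_coe, pow_orderOf_eq_one])
        exact ⟨c', ⟨show (c' : G) ∈ A from (show (c' : G) = c from hce) ▸ hcA, hc'.1⟩, hce⟩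
      have hsmall : Nat.card ↥((E ⊓ T).map (S : Subgroup G).subtype) ≤ p := by
        rw [Subgroup.card_map_of_injective (S : Subgroup G).subtype_injective]
        obtain ⟨k, hk, hk'⟩ := (Nat.dvd_prime_pow hp.out).1
          (hEc ▸ Subgroup.card_dvd_of_le (inf_le_left : E ⊓ T ≤ E))
        rw [hk']
        refine (Nat.pow_le_pow_right hp.out.pos (show k ≤ 1 from ?_)).trans_eq (pow_one p)
        by_contra hk1
        refine hET ?_
        have h3 := Subgroup.eq_of_le_of_card_ge (inf_le_left : E ⊓ T ≤ E)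
          (by rw [hEc, hk']; exact Nat.pow_le_pow_right hp.out.pos (by omega))
        exact h3 ▸ inf_le_right
      have hbz : Subgroup.zpowers (b : G) = (E ⊓ T).map (S : Subgroup G).subtype :=
        Subgroup.eq_of_le_of_card_ge (Subgroup.zpowers_le.2 (hmem b hb))
          (hsmall.trans (le_of_eq (by rw [Nat.card_zpowers, Subgroup.orderOf_coe, hb])))
      obtain ⟨k, hk⟩ := (hbz ▸ hmem a ha : (a : G) ∈ Subgroup.zpowers (b : G))
      exact ⟨k, Subtype.ext (by simpa using hk)⟩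
    refine ⟨C, hCc, fun x hxS hxC => ?_⟩
    obtain ⟨e, he, t, ht, het⟩ := Subgroup.mem_sup_of_normal_right.1
      (htop ▸ Subgroup.mem_top (⟨x, hxS⟩ : (S : Subgroup G)))
    have hx : x = (e : G) * t := (congrArg Subtype.val het).symm
    have htC : (t : G) ∈ Subgroup.centralizer (A : Set G) := by
      have := (Subgroup.centralizer (A : Set G)).mul_mem ((Subgroup.centralizer (A : Set G)).inv_mem
        (le_centralizer_self_of_comm hAa (show (e : G) ∈ A from he))) hxC
      rwa [hx, inv_mul_cancel_left] at this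
    have het' : Commute (e : G) t := Subgroup.mem_centralizer_iff.1 htC _ he
    rw [hx, het'.mul_pow, show (e : G) ^ p = 1 from hA.2 _ he, one_mul]
    exact C.pow_mem ⟨t, ⟨ht, Subgroup.mem_centralizer_iff.2 fun a ha =>
      Subtype.ext (Subgroup.mem_centralizer_iff.1 htC a ha)⟩, rfl⟩ p

/-- For `q ∈ τ₂(M)` some line of a `B` of order `q²` has centralizer only in `M`. -/
theorem exists_bad_line {M E B : Subgroup G} (hM : IsCoatom M) (hE : IsComplIn E (sigmaCore M) M)
    (hp2 : p ∈ tau2 M) (hB : B ≤ E ∧ IsElementaryAbelian p B ∧ Nat.card B = p ^ 2) :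
    ∃ X : Subgroup G, X ≤ B ∧ Nat.card X = p ∧ sigmaCore M ⊓ centralizer (X : Set G) ≠ ⊥ ∧
      centralizer (X : Set G) ≤ M ∧
        ∀ L : Subgroup G, IsCoatom L → centralizer (X : Set G) ≤ L → L = M := by
  obtain ⟨-, -, hbad⟩ := tau_two_compl_stmt hG h hM hE hp2 hB
  suffices ∃ X : Subgroup G, X ≤ B ∧ Nat.card X = p ∧ sigmaCore M ⊓ centralizer (X : Set G) ≠ ⊥ by
    obtain ⟨X, h1, h2, h3⟩ := this
    exact ⟨X, h1, h2, h3, hbad X h1 h2 h3⟩
  by_contra hno
  push Not at hno
  haveI := hB.2.1.1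
  refine sigmaCore_ne_bot hG h.uniq smallRankFrattini fittingRankTwoDerived rankTwoLargestPrime hM
    (le_bot_iff.1 (Coprime.le_of_centralizer_le B (sigmaCore M) ⊥ (not_isCyclic_sq hB.2.1 hB.2.2)
      ((hB.1.trans hE.1).trans (le_normalizer_sigmaCore M)) ?_ fun e he he1 => ?_))
  · rw [hB.2.2]
    exact ((Nat.Prime.coprime_iff_not_dvd hp.out).2 fun hd =>
      hp2.2.1 (isPiSub_sigmaCore M p hp.out hd)).pow_left 2
  · have hc : Nat.card (zpowers e) = p := by
      rw [Nat.card_zpowers]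
      exact orderOf_eq_prime (hB.2.1.2 e he) he1
    rw [← centralizer_zpowers_eq]
    exact (hno (zpowers e) (zpowers_le.2 he) hc).le

/-- The data around a nonabelian Sylow subgroup over `A`. -/
theorem exists_moving {M E A : Subgroup G} (hM : IsCoatom M) (hE : IsComplIn E (sigmaCore M) M)
    (hp2 : p ∈ tau2 M) (hA : A ≤ E ∧ IsElementaryAbelian p A ∧ Nat.card A = p ^ 2)
    (hna : ∀ S : Sylow p G, ¬ IsMulCommutative (S : Subgroup G)) {T : Subgroup G}
    (hT : IsPGroup p T) (hTE : T ≤ E) (hAT : A ≤ T) :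
    ∃ (S : Sylow p G) (P : Sylow p M) (s : G) (Z : Subgroup G),
      T ≤ (P : Subgroup M).map M.subtype ∧ A ≤ (P : Subgroup M).map M.subtype ∧ (P : Subgroup M).map M.subtype ≤ S ∧
      (P : Subgroup M).map M.subtype ≤ centralizer (A : Set G) ∧
      (S : Subgroup G) ⊓ M ≤ (P : Subgroup M).map M.subtype ∧
      s ∈ (S : Subgroup G) ∧ s ∉ M ∧ s ∈ normalizer (A : Set G) ∧
      s ∈ normalizer (((P : Subgroup M).map M.subtype : Subgroup G) : Set G) ∧
      Z ≤ A ∧ Nat.card Z = p ∧ (S : Subgroup G) ≤ centralizer (Z : Set G) := by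
  have hA' : A ≤ M ∧ IsElementaryAbelian p A ∧ Nat.card A = p ^ 2 := ⟨hA.1.trans hE.1, hA.2⟩
  obtain ⟨P, hTP, hPc, hΩ⟩ := exists_tau2_sylow hG h hM hp2 hA' hT (hTE.trans hE.1) hAT
  have hAP := hAT.trans hTP
  set P₀ := (P : Subgroup M).map M.subtype
  obtain ⟨S, hPS⟩ := (P.isPGroup'.map M.subtype).exists_le_sylow
  have hPC : P₀ ≤ centralizer (A : Set G) :=
    (le_centralizer_self_of_comm hPc).trans (centralizer_anti hAP)
  have hSM : (S : Subgroup G) ⊓ M ≤ P₀ := by
    intro x hx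
    have hle : (P : Subgroup M) ≤ ((S : Subgroup G) ⊓ M).subgroupOf M := fun y hy =>
      ⟨hPS (mem_map_of_mem _ hy), y.2⟩
    have := P.is_maximal' ((S.isPGroup'.to_le inf_le_left).comap_subtype (K := M)) hle
    exact ⟨⟨x, hx.2⟩, this ▸ (show (⟨x, hx.2⟩ : M) ∈ ((S : Subgroup G) ⊓ M).subgroupOf M from hx), rfl⟩
  have hne : P₀ ≠ (S : Subgroup G) := fun h0 => hna S (h0 ▸ hPc)
  have hd : p ∣ P₀.relIndex (S : Subgroup G) := by
    obtain ⟨j, hj⟩ := S.isPGroup'.exists_card_eq
    obtain ⟨i, -, hi⟩ := (Nat.dvd_prime_pow hp.out).1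
      (hj ▸ ⟨_, (relIndex_mul_card hPS).symm⟩ : P₀.relIndex (S : Subgroup G) ∣ p ^ j)
    rcases i with _ | i
    · exact absurd (le_antisymm hPS (relIndex_eq_one.1 (hi.trans (pow_zero p)))) hne
    · exact hi ▸ dvd_pow_self p i.succ_ne_zero
  obtain ⟨Q, -, hlt, hQ⟩ := exists_lt_pgroup_normalizer (P.isPGroup'.map M.subtype) hPS hd
  obtain ⟨s, hsQ, hsP⟩ := SetLike.exists_of_lt hlt
  have hsA : s ∈ normalizer (A : Set G) := by
    refine Coprime.le_normalizer_of_conj_mem (A := zpowers s) (fun t ht a ha => ?_) (mem_zpowers s)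
    have htP : t ∈ normalizer (P₀ : Set G) := zpowers_le.2 (hQ hsQ).2 ht
    refine (hΩ _ ((mem_normalizer_iff.1 htP a).1 (hAP ha))).1 ?_
    rw [← MulAut.conj_apply, ← map_pow, hA.2.1.2 a ha, map_one]
  -- the central line
  haveI : Nontrivial (S : Subgroup G) := (nontrivial_iff_ne_bot _).2 fun h0 => hna S (h0 ▸ inferInstance)
  haveI := S.isPGroup'.center_nontrivial
  obtain ⟨z, hz⟩ := exists_prime_orderOf_dvd_card' p
    (show p ∣ Nat.card (center (S : Subgroup G)) by
      obtain ⟨j, hj⟩ := (S.isPGroup'.to_subgroup (center (S : Subgroup G))).exists_card_eq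
      rcases j with _ | j
      · exact absurd hj (by rw [pow_zero]; exact (Finite.one_lt_card (α := center (S : Subgroup G))).ne')
      · rw [hj]; exact dvd_pow_self p j.succ_ne_zero)
  set w : G := ((z : (S : Subgroup G)) : G)
  have hwo : orderOf w = p := by rw [Subgroup.orderOf_coe, Subgroup.orderOf_coe, hz]
  have hwC : w ∈ centralizer ((S : Subgroup G) : Set G) := mem_centralizer_iff.2 fun b hb =>
    congrArg Subtype.val (mem_center_iff.1 z.2 ⟨b, hb⟩)
  have hwA : w ∈ A := (hΩ w (hSM ⟨z.1.2, (centralizer_le_stmt hG h M hM A hA').1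
    (centralizer_anti (hAP.trans hPS) hwC)⟩)).1 (hwo ▸ pow_orderOf_eq_one w)
  exact ⟨S, P, s, zpowers w, hTP, hAP, hPS, hPC, hSM, (hQ hsQ).1, fun hsM => hsP (hSM ⟨(hQ hsQ).1, hsM⟩),
    hsA, (hQ hsQ).2, zpowers_le.2 hwA, (Nat.card_zpowers w).trans hwo,
    Subgroup.le_centralizer_iff.1 (zpowers_le.2 hwC)⟩

omit hp in
/-- BG 12.7. -/
theorem nonabelian_tau_two_stmt {p : ℕ} [hp : Fact p.Prime] {M E A : Subgroup G} (hM : IsCoatom M)
    (hE : IsComplIn E (sigmaCore M) M) (hp2 : p ∈ tau2 M)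
    (hna : ∀ S : Sylow p G, ¬ IsMulCommutative (S : Subgroup G))
    (hA : A ≤ E ∧ IsElementaryAbelian p A ∧ Nat.card A = p ^ 2) :
    tau2 M = {p} ∧
      (Nat.card ↥(A ⊓ centralizer (sigmaCore M : Set G)) = p ∧
        fittingOf M = sigmaCore M ⊔ (A ⊓ centralizer (sigmaCore M : Set G))) ∧
      ∀ X : Subgroup G, X ≤ E → Nat.card X = p → X ≠ A ⊓ centralizer (sigmaCore M : Set G) →
        sigmaCore M ⊓ centralizer (X : Set G) = ⊥ ∧ ¬ centralizer (X : Set G) ≤ M := by
  have hA' : A ≤ M ∧ IsElementaryAbelian p A ∧ Nat.card A = p ^ 2 := ⟨hA.1.trans hE.1, hA.2⟩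
  haveI hAa := hA.2.1.1
  obtain ⟨⟨hEA, hline⟩, ⟨hCA, hMN, -⟩, hbad⟩ := tau_two_compl_stmt hG h hM hE hp2 hA
  rw [hMN] at hCA
  obtain ⟨hnil, -, -, hfix, -, -⟩ := tau_two_stmt hG h M hM hp2 A hA'
  obtain ⟨S, P, s, Z, -, hAP, hPS, hPC, hSM, hsS, hsM, hsA, hsP, hZA, hZc, hSZ⟩ :=
    exists_moving hG h hM hE hp2 hA hna (isPGroup_of_pow_eq_one hp.out hA.2.1.2) hA.1 le_rfl
  set P₀ := (P : Subgroup M).map M.subtype
  set N := sigmaCore M with hN
  have hsC : s ∉ centralizer (A : Set G) := fun hc => hsM (hE.1 (hCA hc))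
  have hsZ : s ∈ centralizer (Z : Set G) := hSZ hsS
  have hsp : IsPGroup p (zpowers s) := S.isPGroup'.to_le (zpowers_le.2 hsS)
  obtain ⟨X₀, hX₀A, hX₀c, hX₀bad, hX₀M, hX₀u⟩ := exists_bad_line hG h hM hE hp2 hA
  have hX₀Z : X₀ ≠ Z := fun h0 => hsM (hX₀M (h0 ▸ hsZ))
  have hZgood : N ⊓ centralizer (Z : Set G) = ⊥ := by
    by_contra h0
    exact hsM ((hbad Z hZA hZc h0).1 hsZ)
  -- the other lines are good and their centralizers leave `M`
  have hgood : ∀ X : Subgroup G, X ≤ A → Nat.card X = p → X ≠ X₀ →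
      N ⊓ centralizer (X : Set G) = ⊥ ∧ ¬ centralizer (X : Set G) ≤ M := by
    intro X hXA hXc hne
    by_cases hXZ : X = Z
    · subst hXZ
      exact ⟨hZgood, fun hle => hsM (hle hsZ)⟩
    obtain ⟨n, rfl⟩ := exists_pow_conj_line hA.2.2 hAa hsA hsp hZA hZc hsZ hsC hX₀A hX₀c hX₀Z hXA hXc hXZ
    set t := s ^ n
    have htM : t ∉ M := fun ht => by
      refine hne ?_
      have h1 : t ∈ centralizer (A : Set G) := hPC (hSM ⟨(S : Subgroup G).pow_mem hsS n, ht⟩)
      exact map_conj_eq_self (centralizer_le_normalizer _ (centralizer_anti hX₀A h1))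
    have hC : ¬ centralizer ((X₀.map (MulAut.conj t).toMonoidHom : Subgroup G) : Set G) ≤ M := by
      intro hle
      rw [map_conj_centralizer] at hle
      have hle' : centralizer (X₀ : Set G) ≤ M.map (MulAut.conj t⁻¹).toMonoidHom := by
        intro c hc
        rw [mem_map_conj]
        simpa using hle ⟨c, hc, rfl⟩
      have heq := hX₀u _ (isCoatom_map_conj hM _) hle'
      have hn : normalizer (M : Set G) = M :=
        ((hM.le_iff.1 le_normalizer).resolve_left (normalizer_ne_top hG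
          (fun h0 => sigmaCore_ne_bot hG h.uniq smallRankFrattini fittingRankTwoDerived rankTwoLargestPrime hM
            (le_bot_iff.1 (h0 ▸ sigmaCore_le M))) hM.1))
      have h2 : t⁻¹ ∈ normalizer (M : Set G) := mem_normalizer_iff_map_conj_eq.2 heq
      rw [hn] at h2
      exact htM (inv_mem_iff.1 h2)
    exact ⟨by_contra fun h0 => hC (hbad _ hXA hXc h0).1, hC⟩
  -- `X₀` centralizes `M_σ`
  have hX₀N : X₀ ≤ centralizer (N : Set G) := by
    refine Subgroup.le_centralizer_iff.1 (Coprime.le_of_centralizer_le A N _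
      (not_isCyclic_sq hA.2.1 hA.2.2) (hA'.1.trans (le_normalizer_sigmaCore M)) ?_ fun e he he1 => ?_)
    · rw [hA.2.2]
      exact ((Nat.Prime.coprime_iff_not_dvd hp.out).2 fun hd =>
        hp2.2.1 (isPiSub_sigmaCore M p hp.out hd)).pow_left 2
    · have hc : Nat.card (zpowers e) = p := by
        rw [Nat.card_zpowers]; exact orderOf_eq_prime (hA.2.1.2 e he) he1
      rw [← centralizer_zpowers_eq]
      by_cases h0 : zpowers e = X₀
      · rw [h0]; exact inf_le_right
      · rw [(hgood _ (zpowers_le.2 he) hc h0).1]; exact bot_le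
  have hA₀ : A ⊓ centralizer (N : Set G) = X₀ := by
    symm
    refine eq_of_le_of_card_ge (le_inf hX₀A hX₀N) ?_
    rw [hX₀c]
    refine (card_eq_prime_of_sq hA.2.2 inf_le_left (fun h0 => ?_) fun h1 => ?_).le
    · have := (le_inf hX₀A hX₀N).trans h0.le
      rw [le_bot_iff.1 this, card_bot] at hX₀c
      exact hp.out.ne_one hX₀c.symm
    · refine sigmaCore_ne_bot hG h.uniq smallRankFrattini fittingRankTwoDerived rankTwoLargestPrime hM
        (le_bot_iff.1 (le_trans ?_ hfix.le))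
      exact le_inf le_rfl (Subgroup.le_centralizer_iff.1 (inf_eq_left.1 h1))
  rw [hA₀]
  have hsX₀ : s ∉ normalizer (X₀ : Set G) := fun hs' => by
    refine hsM (hX₀M ?_)
    exact le_centralizer_of_card_prime_normalized hsp hX₀c (zpowers_le.2 hs') (mem_zpowers s)
  obtain ⟨Ms, ⟨hMs, hSMs⟩, huniq⟩ := inUniqueMaximal_of_nonabelian hG h S.isPGroup' (hna S)
  have hτ : tau2 M = {p} := by
    refine Set.eq_singleton_iff_unique_mem.2 ⟨hp2, fun q hq => ?_⟩
    by_contra hqp
    haveI : Fact q.Prime := ⟨hq.1⟩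
    obtain ⟨B, hB⟩ := exists_sq_le_compl hG hM hE hq
    haveI := hB.2.1.1
    obtain ⟨⟨hEB, -⟩, -, -⟩ := tau_two_compl_stmt hG h hM hE hq hB
    have hcop : Nat.Coprime (Nat.card A) (Nat.card B) := by
      rw [hA.2.2, hB.2.2]
      exact ((Nat.coprime_primes hp.out hq.1).2 (Ne.symm hqp)).pow 2 2
    have hBA : B ≤ centralizer (A : Set G) := fun b hb => mem_centralizer_iff.2 fun a ha =>
      BGUniq.mul_comm_of_normalized_coprime hA.1 hB.1 hEA hEB hcop ha hb
    have hsB : ∀ b ∈ B, s * b * s⁻¹ ∈ B := fun b hb => by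
      refine mem_sq_of_pow_eq_one hG h hM hE hq hB (hCA ?_) ?_
      · exact (mem_normalizer_iff.1 (Coprime.le_normalizer_centralizer (le_refl (normalizer (A : Set G))) hsA) b).1 (hBA hb)
      · rw [← MulAut.conj_apply, ← map_pow, hB.2.1.2 b hb, map_one]
    have hsBn : s ∈ normalizer (B : Set G) := mem_normalizer_iff_map_conj_eq.2
      (eq_of_le_of_card_ge (map_conj_le_iff.2 hsB) (card_map_of_injective (MulAut.conj s).injective).ge)
    by_cases hsB' : s ∈ centralizer (B : Set G)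
    · obtain ⟨Y, hYB, -, -, hYM, -⟩ := exists_bad_line (p := q) hG h hM hE hq hB
      exact hsM (hYM (centralizer_anti hYB hsB'))
    have hAnc := not_isCyclic_sq hA.2.1 hA.2.2
    have hAMs : A ≤ Ms := hAP.trans (hPS.trans hSMs)
    have hpσ : p ∈ sigma Ms := by
      have hNt : normalizer ((S : Subgroup G) : Set G) ≠ ⊤ := normalizer_ne_top hG
        (fun h0 => hna S (h0 ▸ inferInstance)) (fun h0 => hMs.1 (top_le_iff.1 (h0 ▸ hSMs)))
      obtain ⟨L, hL, hNL⟩ := exists_coatom_ge hG hNt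
      have hLe := huniq L ⟨hL, le_normalizer.trans hNL⟩
      refine ⟨hp.out, ?_, S.subtype hSMs, ?_⟩
      · exact (hA.2.2 ▸ dvd_pow_self p two_ne_zero : p ∣ Nat.card A).trans (card_dvd_of_le hAMs)
      · rw [Sylow.coe_subtype, subgroupOf_map_subtype, inf_eq_left.2 hSMs]
        exact hLe ▸ hNL
    have hNA : normalizer (A : Set G) ≤ Ms := normalizer_le_of_not_isCyclic hG h hMs hpσ
      (isPGroup_of_pow_eq_one hp.out hA.2.1.2) hAMs hAnc
    have hBMs : B ≤ Ms := hBA.trans ((centralizer_le_normalizer _).trans hNA)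
    obtain ⟨hHall, -, hder⟩ := sigmaCore_hall hG h.uniq smallRankFrattini fittingRankTwoDerived hMs
    have hsN : zpowers s ≤ sigmaCore Ms := le_of_normal_hall hHall (le_normalizer_sigmaCore Ms)
      (zpowers_le.2 (hSMs hsS)) (isPiSub_of_isPGroup hp.out hsp hpσ)
    have hD : ⁅B, zpowers s⁆ ≤ B ⊓ sigmaCore Ms := le_inf
      (Coprime.commutator_le_of_le_normalizer (zpowers_le.2 hsBn))
      ((commutator_mono le_rfl hsN).trans (Subgroup.le_normalizer_iff_commutator_le_right.1
        (hBMs.trans (le_normalizer_sigmaCore Ms))))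
    have hqσ : q ∈ sigma Ms := by
      by_contra hqs
      refine hsB' (Subgroup.le_centralizer_iff.1 (commutator_eq_bot_iff_le_centralizer.1
        (le_bot_iff.1 (hD.trans (le_of_eq (Subgroup.inf_eq_bot_of_coprime ?_))))) (mem_zpowers s))
      rw [hB.2.2]
      exact ((Nat.Prime.coprime_iff_not_dvd hq.1).2 fun hd =>
        hqs (isPiSub_sigmaCore Ms q hq.1 hd)).pow_left 2
    have hqb : q ∉ beta Ms := fun hb =>
      (not_ideal_of_rank_two hG h.uniq hM hq.2.2.1 hq.2.2.2).1 hb.2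
    refine hsB' (Subgroup.le_centralizer_iff.1 (le_centralizer_of_not_beta hG h hMs hqb
      (hsN.trans hder) ((le_of_normal_hall hHall (le_normalizer_sigmaCore Ms) hBMs
        (isPiSub_of_isPGroup hq.1 (isPGroup_of_pow_eq_one hq.1 hB.2.1.2) hqσ)).trans hder) ?_
      (isPGroup_of_pow_eq_one hq.1 hB.2.1.2) (zpowers_le.2 hsBn)) (mem_zpowers s))
    intro hd
    obtain ⟨j, hj⟩ := hsp.exists_card_eq
    exact hqp ((Nat.prime_dvd_prime_iff_eq hq.1 hp.out).1 (hq.1.dvd_of_dvd_pow (hj ▸ hd)))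
  refine ⟨hτ, ⟨hX₀c, ?_⟩, fun X hXE hXc hne => hgood X (hline X hXE hXc) hXc hne⟩
  obtain ⟨hHall, -, -⟩ := sigmaCore_hall hG h.uniq smallRankFrattini fittingRankTwoDerived hM
  have hnF : ∀ {W : Subgroup G}, W ≤ M → M ≤ normalizer (W : Set G) → Group.IsNilpotent W →
      W ≤ fittingOf M := fun {W} hWM hWn hWnil w hw => by
    haveI := hWnil
    refine ⟨⟨w, hWM hw⟩, ?_, rfl⟩
    exact le_sSup (show W.subgroupOf M ∈ {N : Subgroup M | N.Normal ∧ Group.IsNilpotent N} from
      ⟨(normal_subgroupOf_iff_le_normalizer hWM).2 hWn,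
        Group.nilpotent_of_mulEquiv (subgroupOfEquivOfLe hWM).symm⟩) hw
  have hX₀n : M ≤ normalizer (X₀ : Set G) := by
    intro m hm
    obtain ⟨e, he, x, hx, rfl⟩ := hE.2.2.2 m hm
    refine (normalizer (X₀ : Set G)).mul_mem ?_ (centralizer_le_normalizer _
      (Subgroup.le_centralizer_iff.1 hX₀N hx))
    have h1 : E ≤ normalizer ((A ⊓ centralizer (N : Set G) : Subgroup G) : Set G) :=
      Coprime.le_normalizer_inf hEA (Coprime.le_normalizer_centralizer (compl_le_normalizer hE))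
    exact hA₀ ▸ h1 he
  refine le_antisymm (BGUniq.fittingOf_le_of_core_le fun r hr => ?_) (sup_le
    (hnF (sigmaCore_le M) (le_normalizer_sigmaCore M) hnil)
    (hnF (hX₀A.trans hA'.1) hX₀n (IsPGroup.of_card (n := 1) (by rw [hX₀c, pow_one])).isNilpotent))
  haveI : Fact r.Prime := ⟨hr⟩
  set R := BGUniq.core r M
  have hRp : IsPGroup r R := BGUniq.isPGroup_core r M
  have hRM : R ≤ M := BGUniq.core_le r M
  have hRn := BGUniq.le_normalizer_core r M
  by_cases hrs : r ∈ sigma M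
  · exact le_sup_of_le_left (le_of_normal_hall hHall (le_normalizer_sigmaCore M) hRM
      (isPiSub_of_isPGroup hr hRp hrs))
  by_cases hR1 : R = ⊥
  · exact hR1.le.trans bot_le
  have hcop : Nat.Coprime (Nat.card R) (Nat.card N) := by
    obtain ⟨j, hj⟩ := hRp.exists_card_eq
    rw [hj]
    exact ((Nat.Prime.coprime_iff_not_dvd hr).2 fun hd => hrs (isPiSub_sigmaCore M r hr hd)).pow_left j
  have hRN : R ≤ centralizer (N : Set G) := fun x hx => mem_centralizer_iff.2 fun y hy =>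
    (BGUniq.mul_comm_of_normalized_coprime hRM (sigmaCore_le M) hRn (le_normalizer_sigmaCore M) hcop hx hy).symm
  have hRE : R ≤ E := by
    obtain ⟨m, hm, hmR⟩ := exists_conj_le_compl hG hM hE hRM fun q hq hd => by
      obtain ⟨j, hj⟩ := hRp.exists_card_eq
      rw [(Nat.prime_dvd_prime_iff_eq hq hr).1 (hq.dvd_of_dvd_pow (hj ▸ hd))]; exact hrs
    intro x hx
    have := hmR x hx
    rwa [mem_centralizer_iff.1 (hRN hx) m hm, mul_inv_cancel_right] at this
  haveI hRc : IsCyclic R := isCyclic_of_normal_centralizing hG h hM hrs hRM hRp hRn hRN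
  -- the line of `R`
  haveI : Nontrivial R := (nontrivial_iff_ne_bot R).2 hR1
  obtain ⟨x₁, hx₁⟩ := exists_prime_orderOf_dvd_card' r (show r ∣ Nat.card R by
    obtain ⟨j, hj⟩ := hRp.exists_card_eq
    rcases j with _ | j
    · exact absurd (eq_bot_of_card_eq _ hj) hR1
    · exact hj ▸ dvd_pow_self r j.succ_ne_zero)
  have hYc : Nat.card (zpowers (x₁ : G)) = r := by rw [Nat.card_zpowers, Subgroup.orderOf_coe, hx₁]
  have hYn : M ≤ normalizer (zpowers (x₁ : G) : Set G) :=
    hRn.trans (normalizer_le_of_isCyclic hRc (zpowers_le.2 x₁.2))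
  have hY1 : zpowers (x₁ : G) ≠ ⊥ := fun h0 => by rw [h0, card_bot] at hYc; exact hr.ne_one hYc.symm
  have hYM : zpowers (x₁ : G) ≤ M := zpowers_le.2 (hRM x₁.2)
  obtain ⟨⟨hr2, hr1⟩, -, -⟩ := rank_two_of_normalizer_le hG h.uniq M hM r hrs _ hYc
    ((hM.le_iff.1 hYn).resolve_left (normalizer_ne_top hG hY1
      fun h0 => hM.1 (top_le_iff.1 (h0 ▸ hYM)))).le
  obtain rfl : r = p := by
    have : r ∈ tau2 M := ⟨hr, hrs, hr2, hr1⟩
    rwa [hτ] at this
  refine le_sup_of_le_right fun x hx => ?_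
  have hRA : R ≤ centralizer (A : Set G) := pgroup_le_centralizer_sq hG h hM hE hp2 hA hRp hRE
  have hRP : R ≤ P₀ := by
    intro y hy
    have hsupP : IsPGroup r ↥(P₀ ⊔ R) := IsPGroup.to_sup_of_normal_right' (P.isPGroup'.map _) hRp
      ((map_subtype_le _).trans hRn)
    have hPle : (P : Subgroup M) ≤ (P₀ ⊔ R).subgroupOf M := fun z hz => mem_sup_left (mem_map_of_mem _ hz)
    have := P.is_maximal' (hsupP.comap_subtype (K := M)) hPle
    exact ⟨⟨y, hRM hy⟩, this ▸ (show (⟨y, hRM hy⟩ : M) ∈ (P₀ ⊔ R).subgroupOf M from mem_sup_right hy), rfl⟩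
  have hsmall : ∀ y ∈ R, y ^ r = 1 → y ∈ X₀ := fun y hy hy1 =>
    hA₀ ▸ ⟨mem_sq_of_pow_eq_one hG h hM hE hp2 hA (hRE hy) hy1, hRN hy⟩
  by_contra hxX
  obtain ⟨k, hk⟩ := (IsPGroup.iff_orderOf.1 hRp ⟨x, hx⟩)
  rw [Subgroup.orderOf_mk] at hk
  have hk2 : 2 ≤ k := by
    by_contra hlt
    refine hxX (hsmall x hx (orderOf_dvd_iff_pow_eq_one.1 (hk ▸ ?_)))
    calc r ^ k ∣ r ^ 1 := pow_dvd_pow r (by omega)
      _ = r := pow_one r
  set y := x ^ r ^ (k - 2) with hy
  have hyo : orderOf y = r ^ 2 := by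
    rw [hy, orderOf_pow_of_dvd (pow_ne_zero _ hr.ne_zero) (hk ▸ pow_dvd_pow r (by omega)), hk,
      Nat.pow_div (by omega) hr.pos, show k - (k - 2) = 2 by omega]
  have hyR : y ∈ R := R.pow_mem hx _
  have hao : orderOf (y ^ r) = r := by
    rw [orderOf_pow_of_dvd hr.ne_zero (hyo ▸ dvd_pow_self r two_ne_zero), hyo, pow_two,
      Nat.mul_div_cancel _ hr.pos]
  have haX : y ^ r ∈ X₀ := hsmall _ (R.pow_mem hyR r)
    (by rw [← orderOf_dvd_iff_pow_eq_one, hao])
  obtain ⟨C, hCc, hC⟩ := exists_cyclic_pow hG h S (hna S) (hAP.trans hPS) hA.2.1 hA.2.2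
    ((not_ideal_of_rank_two hG h.uniq hM hp2.2.2.1 hp2.2.2.2).2 A hA'.1 hA.2.1 hA.2.2)
  have hsy : s * y * s⁻¹ ∈ P₀ := (mem_normalizer_iff.1 hsP y).1 (hRP hyR)
  have h1 : y ^ r ∈ C := hC y (hPS (hRP hyR)) (hRA hyR)
  have h2 : s * y ^ r * s⁻¹ ∈ C := by
    rw [← MulAut.conj_apply, map_pow, MulAut.conj_apply]
    exact hC _ (hPS hsy) (hPC hsy)
  refine hsX₀ (mem_normalizer_iff_map_conj_eq.2 ?_)
  have hz : zpowers (y ^ r) = X₀ := eq_of_le_of_card_ge (zpowers_le.2 haX)
    (by rw [hX₀c, Nat.card_zpowers, hao])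
  rw [← hz, MonoidHom.map_zpowers]
  show zpowers (s * y ^ r * s⁻¹) = zpowers (y ^ r)
  haveI := hCc
  exact eq_of_le_of_card_ge (zpowers_le.2 (mem_zpowers_of_cyclic h1 h2
    (orderOf_conj_eq _ _))) (by rw [Nat.card_zpowers, Nat.card_zpowers, orderOf_conj_eq])

end Cfsg.Agent.BGTwelve
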