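import Cfsg.Agent.FG72.InvariantComplement
import Cfsg.Agent.BGTwelve.Compl

/-!
# Invariant cyclic subgroups of maximal order, and invariant lines
-/

set_option autoImplicit false

namespace Cfsg.Agent.BGTwelve

open Cfsg Subgroup
open scoped IsMulCommutative

universe u

variable {p : ℕ} [hp : Fact p.Prime]

/-- In a finite abelian `p`-group `A` with a `p'`-group `X` of automorphisms: below an invariant
image of order `p` of `a ↦ a ^ m` there is an invariant cyclic subgroup. -/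
theorem exists_invariant_cyclic_aux {A : Type u} [CommGroup A] [Finite A] (X : Subgroup (MulAut A))
    (hX : (Nat.card X).Coprime p) {L : Subgroup A} (hL : FG72.IsInv X L) (hLc : Nat.card L = p)
    (m j : ℕ) (hm : m = p ^ j) (hmp : ∀ a : A, (a ^ p) ^ m = 1)
    (hex : ∃ a : A, a ^ m ∈ L ∧ a ^ m ≠ 1) :
    ∃ T : Subgroup A, FG72.IsInv X T ∧ IsCyclic T ∧ L ≤ T ∧ Nat.card T = p * m := by
  classical
  -- the conditions on the subgroup
  have hφ : ∀ x ∈ X, ∀ a : A, (x a) ^ m = x (a ^ m) := fun x _ a => (map_pow x a m).symm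
  set F : Subgroup A := L.comap (powMonoidHom m) with hF
  have hFinv : FG72.IsInv X F := fun x hx a ha => by
    show (x a) ^ m ∈ L
    rw [hφ x hx]; exact hL x hx _ ha
  obtain ⟨a₀, ha₀, ha₀1⟩ := hex
  obtain ⟨T, hT⟩ := (Set.toFinite {D : Subgroup A | FG72.IsInv X D ∧ D ≤ F ∧ ∃ a ∈ D, a ^ m ≠ 1}).exists_minimal
    ⟨F, hFinv, le_rfl, a₀, ha₀, ha₀1⟩
  obtain ⟨⟨hTinv, hTF, x, hxT, hx1⟩, hmin⟩ := hT
  set K : Subgroup A := (powMonoidHom m : A →* A).ker with hK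
  have hKinv : FG72.IsInv X K := fun y hy a ha => by
    show (y a) ^ m = 1
    rw [hφ y hy, show a ^ m = 1 from ha, map_one]
  set C : Subgroup A := T.map (powMonoidHom p) with hC
  have hCinv : FG72.IsInv X C := fun y hy a ha => by
    obtain ⟨b, hb, rfl⟩ := ha
    exact ⟨y b, hTinv y hy b hb, (map_pow y b p).symm⟩
  have hCT : C ≤ T := by rintro _ ⟨b, hb, rfl⟩; exact T.pow_mem hb p
  have hCW : C ≤ T ⊓ K := le_inf hCT (by rintro _ ⟨b, -, rfl⟩; exact hmp b)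
  obtain ⟨D, hDinv, hCD, hDT, hDW, hDsup⟩ := FG72.exists_invariant_complement X hX hCinv
    (hTinv.inf hKinv) hTinv hCW inf_le_left fun a ha => ⟨a, ha, rfl⟩
  have hD : ∃ a ∈ D, a ^ m ≠ 1 := by
    by_contra hno
    push Not at hno
    have hx' : x ∈ D ⊔ T ⊓ K := hDsup.ge hxT
    obtain ⟨d, hd, w, hw, rfl⟩ := Subgroup.mem_sup.1 hx'
    exact hx1 (by rw [mul_pow, hno d hd, show w ^ m = 1 from hw.2, one_mul])
  have hTD : T ≤ D := hmin ⟨hDinv, hDT.trans hTF, hD⟩ hDT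
  have hW : T ⊓ K ≤ C := fun a ha => hDW ▸ ⟨hTD ha.1, ha⟩
  have hgen : ∀ {v : A}, v ∈ L → v ≠ 1 → zpowers v = L := fun {v} hv hv1 =>
    eq_of_le_of_card_ge (zpowers_le.2 hv) (by
      rw [hLc, Nat.card_zpowers]
      exact ((hp.out.eq_one_or_self_of_dvd _ (hLc ▸ Subgroup.orderOf_dvd_natCard L hv)).resolve_left
        fun h => hv1 (orderOf_eq_one_iff.1 h)).ge)
  have hxL : zpowers (x ^ m) = L := hgen (hTF hxT) hx1
  -- `T` is cyclic
  have hstep : ∀ y ∈ T, ∃ z ∈ zpowers x, ∃ t ∈ T, y = z * t ^ p := by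
    intro y hy
    obtain ⟨i, hi⟩ := (show y ^ m ∈ zpowers (x ^ m) from hxL ▸ hTF hy)
    simp only at hi
    have hw : (x ^ i)⁻¹ * y ∈ T ⊓ K := by
      refine ⟨T.mul_mem (T.inv_mem (T.zpow_mem hxT i)) hy, ?_⟩
      show ((x ^ i)⁻¹ * y) ^ m = 1
      rw [mul_pow, inv_pow, ← hi, ← zpow_natCast (x ^ i), ← zpow_mul, mul_comm i, zpow_mul,
        zpow_natCast, inv_mul_cancel]
    obtain ⟨t, ht, hte⟩ := hW hw
    exact ⟨x ^ i, zpow_mem_zpowers _ _, t, ht, by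
      rw [show t ^ p = (x ^ i)⁻¹ * y from hte, mul_inv_cancel_left]⟩
  have hn : ∀ n : ℕ, ∀ y ∈ T, ∃ z ∈ zpowers x, ∃ t ∈ T, y = z * t ^ p ^ n := by
    intro n
    induction n with
    | zero => exact fun y hy => ⟨1, one_mem _, y, hy, by simp⟩
    | succ n ih =>
      intro y hy
      obtain ⟨z, hz, t, ht, rfl⟩ := ih y hy
      obtain ⟨z', hz', t', ht', rfl⟩ := hstep t ht
      refine ⟨z * z' ^ p ^ n, mul_mem hz (pow_mem hz' _), t', ht', ?_⟩
      rw [mul_pow, ← pow_mul, ← pow_succ', mul_assoc]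
  have hTx : T = zpowers x := by
    refine le_antisymm (fun y hy => ?_) (zpowers_le.2 hxT)
    obtain ⟨z, hz, t, ht, rfl⟩ := hn (j + 1) y hy
    rw [show t ^ p ^ (j + 1) = 1 by rw [pow_succ', pow_mul, ← hm, hmp], mul_one]
    exact hz
  have hord : orderOf x = p * m := by
    rw [hm, ← pow_succ']
    refine orderOf_eq_prime_pow (fun h0 => hx1 (hm ▸ h0)) ?_
    rw [pow_succ', pow_mul, ← hm, hmp]
  refine ⟨T, hTinv, hTx ▸ inferInstance, ?_, by rw [hTx, Nat.card_zpowers, hord]⟩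
  rw [← hxL, zpowers_le]
  exact T.pow_mem hxT m

variable {G : Type u} [Group G] [Finite G]

/-- An `E`-invariant cyclic subgroup of maximal order over an `E`-invariant line. -/
theorem exists_invariant_cyclic {S E L : Subgroup G} [IsMulCommutative S] (hSE : S ≤ E)
    (hn : E ≤ normalizer (S : Set G)) (hd : ¬ p ∣ S.relIndex E) (hLS : L ≤ S)
    (hLc : Nat.card L = p) (hLn : E ≤ normalizer (L : Set G)) (m j : ℕ) (hm : m = p ^ j)
    (hmp : ∀ a ∈ S, (a ^ p) ^ m = 1) (hex : ∃ a ∈ S, a ^ m ∈ L ∧ a ^ m ≠ 1) :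
    ∃ T : Subgroup G, T ≤ S ∧ IsCyclic T ∧ E ≤ normalizer (T : Set G) ∧ L ≤ T ∧
      Nat.card T = p * m := by
  set f : E →* MulAut S := (normalizerMonoidHom S).comp (inclusion hn) with hf
  have hker : S.subgroupOf E ≤ f.ker := fun e he => MulEquiv.ext fun a => Subtype.ext (by
    show (e : G) * a * (e : G)⁻¹ = a
    have h1 : (e : G) * a = a * e := congrArg Subtype.val (mul_comm (⟨(e : G), he⟩ : S) a)
    rw [h1, mul_inv_cancel_right])
  have hX : (Nat.card f.range).Coprime p := by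
    refine Nat.Coprime.symm ((hp.out.coprime_iff_not_dvd).2 fun h => hd (h.trans ?_))
    rw [← Nat.card_congr (QuotientGroup.quotientKerEquivRange f).toEquiv]
    exact index_dvd_of_le hker
  have hLinv : FG72.IsInv f.range (L.subgroupOf S) := by
    rintro _ ⟨e, rfl⟩ a ha
    exact (mem_normalizer_iff.1 (hLn e.2) a).1 ha
  obtain ⟨a, ha, haL, ha1⟩ := hex
  obtain ⟨T, hTinv, hTc, hLT, hcard⟩ := exists_invariant_cyclic_aux f.range hX hLinv
    (by rw [Nat.card_congr (subgroupOfEquivOfLe hLS).toEquiv, hLc]) m j hm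
    (fun a => Subtype.ext (hmp a a.2)) ⟨⟨a, ha⟩, haL, fun h0 => ha1 (congrArg Subtype.val h0)⟩
  refine ⟨T.map S.subtype, map_subtype_le _,
    (equivMapOfInjective T S.subtype S.subtype_injective).isCyclic.1 hTc, ?_, ?_,
    by rw [card_map_of_injective S.subtype_injective, hcard]⟩
  · refine Coprime.le_normalizer_of_conj_mem fun e he x hx => ?_
    obtain ⟨x, hx', rfl⟩ := hx
    exact ⟨f ⟨e, he⟩ x, hTinv _ ⟨_, rfl⟩ x hx', rfl⟩
  · intro x hx
    exact ⟨⟨x, hLS hx⟩, hLT hx, rfl⟩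

/-- A generator of a group of prime order. -/
theorem zpowers_eq_of_card_prime {X : Subgroup G} {x : G} (hX : Nat.card X = p) (hx : x ∈ X)
    (hx1 : x ≠ 1) : zpowers x = X :=
  eq_of_le_of_card_ge (zpowers_le.2 hx) (by
    rw [hX, Nat.card_zpowers]
    exact ((hp.out.eq_one_or_self_of_dvd _ (hX ▸ Subgroup.orderOf_dvd_natCard X hx)).resolve_left
      fun h => hx1 (orderOf_eq_one_iff.1 h)).ge)

/-- A subgroup normalizing three lines of an elementary group of order `p²` normalizes all lines. -/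
theorem le_normalizer_of_three_lines {A L₁ L₂ L₃ L : Subgroup G} (hA : IsElementaryAbelian p A)
    (hAc : Nat.card A = p ^ 2) {e : G}
    (hL₁ : L₁ ≤ A) (hL₂ : L₂ ≤ A) (hL₃ : L₃ ≤ A) (hL : L ≤ A)
    (h₁ : Nat.card L₁ = p) (h₂ : Nat.card L₂ = p) (h₃ : Nat.card L₃ = p)
    (h12 : L₁ ≠ L₂) (h13 : L₁ ≠ L₃) (h23 : L₂ ≠ L₃)
    (e₁ : e ∈ normalizer (L₁ : Set G)) (e₂ : e ∈ normalizer (L₂ : Set G))
    (e₃ : e ∈ normalizer (L₃ : Set G)) : e ∈ normalizer (L : Set G) := by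
  haveI := hA.1
  have hcomm : ∀ {a b : G}, a ∈ A → b ∈ A → Commute a b := fun {a b} ha hb =>
    congrArg Subtype.val (mul_comm (⟨a, ha⟩ : A) ⟨b, hb⟩)
  have heq : ∀ {X Y : Subgroup G} {x : G}, Nat.card X = p → Nat.card Y = p → x ∈ X → x ∈ Y →
      x ≠ 1 → X = Y := fun {X Y x} hX hY hx hy hx1 =>
    (zpowers_eq_of_card_prime hX hx hx1).symm.trans (zpowers_eq_of_card_prime hY hy hx1)
  have hinf : L₁ ⊓ L₂ = ⊥ := by
    refine (eq_bot_iff_forall _).2 fun x hx => by_contra fun hx1 => h12 (heq h₁ h₂ hx.1 hx.2 hx1)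
  have hsup : A ≤ L₁ ⊔ L₂ := by
    have h1 := Thompson.card_sup_mul_card_inf (H := L₁) (K := L₂)
      (hL₂.trans ((BGSigma.le_centralizer_self_of_comm hA.1).trans ((centralizer_le hL₁).trans
        (centralizer_le_normalizer _))))
    rw [hinf, card_bot, mul_one, h₁, h₂] at h1
    exact (eq_of_le_of_card_ge (sup_le hL₁ hL₂) (by rw [h1, hAc, pow_two])).ge
  have hL₃1 : L₃ ≠ ⊥ := fun h0 => by rw [h0, card_bot] at h₃; exact hp.out.ne_one h₃.symm
  obtain ⟨c, hc, hc1⟩ := (L₃.bot_or_exists_ne_one).resolve_left hL₃1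
  have hdec : ∀ {a : G}, a ∈ A → ∃ u ∈ L₁, ∃ v ∈ L₂, a = u * v := fun {a} ha => by
    obtain ⟨u, hu, v, hv, huv⟩ := Coprime.exists_mul_of_mem_sup
      (hL₂.trans ((BGSigma.le_centralizer_self_of_comm hA.1).trans ((centralizer_le hL₁).trans
        (centralizer_le_normalizer _)))) (hsup ha)
    exact ⟨u, hu, v, hv, huv⟩
  obtain ⟨u, hu, v, hv, rfl⟩ := hdec (hL₃ hc)
  have hu1 : u ≠ 1 := fun h0 => by
    rw [h0, one_mul] at hc hc1; exact h23 (heq h₂ h₃ hv hc hc1)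
  have hv1 : v ≠ 1 := fun h0 => by
    rw [h0, mul_one] at hc hc1; exact h13 (heq h₁ h₃ hu hc hc1)
  have huv : Commute u v := hcomm (hL₁ hu) (hL₂ hv)
  obtain ⟨a, ha⟩ := (zpowers_eq_of_card_prime h₃ hc hc1).ge ((mem_normalizer_iff.1 e₃ _).1 hc)
  simp only at ha
  have hsplit : (u ^ a)⁻¹ * (e * u * e⁻¹) ∈ L₁ ⊓ L₂ := by
    refine ⟨L₁.mul_mem (L₁.inv_mem (L₁.zpow_mem hu a)) ((mem_normalizer_iff.1 e₁ u).1 hu), ?_⟩
    have h0 : (u ^ a)⁻¹ * (e * u * e⁻¹) = v ^ a * (e * v * e⁻¹)⁻¹ := by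
      rw [eq_mul_inv_iff_mul_eq, mul_assoc, inv_mul_eq_iff_eq_mul, ← huv.mul_zpow, ha]
      group
    rw [h0]
    exact L₂.mul_mem (L₂.zpow_mem hv a) (L₂.inv_mem ((mem_normalizer_iff.1 e₂ v).1 hv))
  rw [hinf, mem_bot, inv_mul_eq_one] at hsplit
  have hv' : v ^ a = e * v * e⁻¹ := by
    have h0 : e * (u * v) * e⁻¹ = (e * u * e⁻¹) * (e * v * e⁻¹) := by group
    rw [← ha, huv.mul_zpow, ← hsplit] at h0
    exact mul_left_cancel h0
  -- `e` acts on `A` as the power `a`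
  have hpow : ∀ x ∈ A, e * x * e⁻¹ = x ^ a := by
    intro x hx
    obtain ⟨x₁, hx₁, x₂, hx₂, rfl⟩ := hdec hx
    obtain ⟨i, rfl⟩ := (zpowers_eq_of_card_prime h₁ hu hu1).ge hx₁
    obtain ⟨k, rfl⟩ := (zpowers_eq_of_card_prime h₂ hv hv1).ge hx₂
    show e * (u ^ i * v ^ k) * e⁻¹ = (u ^ i * v ^ k) ^ a
    rw [show e * (u ^ i * v ^ k) * e⁻¹ = (e * u ^ i * e⁻¹) * (e * v ^ k * e⁻¹) by group,
      ← conj_zpow, ← conj_zpow, ← hsplit, ← hv', (hcomm (A.zpow_mem (hL₁ hu) i)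
        (A.zpow_mem (hL₂ hv) k)).mul_zpow, ← zpow_mul, ← zpow_mul, ← zpow_mul, ← zpow_mul,
      mul_comm a i, mul_comm a k]
  rw [mem_normalizer_iff_map_conj_eq]
  refine eq_of_le_of_card_ge ?_ (card_map_of_injective (MulAut.conj e).injective).ge
  rintro _ ⟨x, hx, rfl⟩
  show e * x * e⁻¹ ∈ L
  rw [hpow x (hL hx)]
  exact L.zpow_mem hx a

end Cfsg.Agent.BGTwelve
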