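import Cfsg.Agent.BGTwelve.NonabelianTauTwo
import Cfsg.Agent.BGTwelve.Inputs
import Cfsg.Agent.BGTwelve.InvariantCyclic
import Cfsg.Agent.Lib.Frobenius.Gaschuetz

/-!
# BG 12.12, the nonabelian case
-/

set_option autoImplicit false

namespace Cfsg.Agent.BGTwelve

open Cfsg BGSigma Subgroup

universe u

variable {G : Type u} [Group G] [Finite G] {p : ℕ} [hp : Fact p.Prime]

/-- A complement of a line which contains no nontrivial `p`-th power, in an abelian `p`-group. -/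
theorem exists_line_compl {P X : Subgroup G} [IsMulCommutative P] (hXP : X ≤ P)
    (hXc : Nat.card X = p) (hpow : ∀ y ∈ P, y ^ p ∈ X → y ^ p = 1) :
    ∃ D : Subgroup G, D ≤ P ∧ D ⊓ X = ⊥ ∧ X ⊔ D = P := by
  have hcomm : ∀ {a b : G}, a ∈ P → b ∈ P → Commute a b := fun {a b} ha hb =>
    congrArg Subtype.val (mul_comm' (⟨a, ha⟩ : P) ⟨b, hb⟩)
  let U : Subgroup G :=
    { carrier := {x | ∃ y ∈ P, y ^ p = x}
      one_mem' := ⟨1, one_mem P, one_pow p⟩
      mul_mem' := by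
        rintro _ _ ⟨a, ha, rfl⟩ ⟨b, hb, rfl⟩
        exact ⟨a * b, P.mul_mem ha hb, (hcomm ha hb).mul_pow p⟩
      inv_mem' := by rintro _ ⟨a, ha, rfl⟩; exact ⟨a⁻¹, P.inv_mem ha, inv_pow a p⟩ }
  have hUP : U ≤ P := by rintro _ ⟨a, ha, rfl⟩; exact P.pow_mem ha p
  have hUX : U ⊓ X = ⊥ := (eq_bot_iff_forall _).2 fun x ⟨⟨y, hy, hyx⟩, hx⟩ =>
    hyx ▸ hpow y hy (hyx ▸ hx)
  obtain ⟨D, hD⟩ := (Set.toFinite {D : Subgroup G | D ≤ P ∧ U ≤ D ∧ D ⊓ X = ⊥}).exists_maximal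
    ⟨U, hUP, le_rfl, hUX⟩
  obtain ⟨⟨hDP, hUD, hDX⟩, hmax⟩ := hD
  refine ⟨D, hDP, hDX, le_antisymm (sup_le hXP hDP) fun y hy => ?_⟩
  by_contra hyn
  have hn : ∀ (W : Subgroup G), W ≤ P → zpowers y ≤ normalizer (W : Set G) := fun W hW =>
    ((zpowers_le.2 hy).trans (le_centralizer_self_of_comm inferInstance)).trans
      ((centralizer_le hW).trans (centralizer_le_normalizer _))
  obtain ⟨x, hx, hx1⟩ : ∃ x ∈ (D ⊔ zpowers y) ⊓ X, x ≠ 1 := by
    by_contra hno
    push Not at hno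
    exact hyn (mem_sup_right (hmax ⟨sup_le hDP (zpowers_le.2 hy), le_sup_of_le_left hUD,
      (eq_bot_iff_forall _).2 hno⟩ le_sup_left (mem_sup_right (mem_zpowers y))))
  obtain ⟨d, hd, z, ⟨i, rfl⟩, hxd⟩ := Coprime.exists_mul_of_mem_sup (hn D hDP) hx.1
  have hyi : y ^ i ∈ X ⊔ D := by
    rw [show y ^ i = d⁻¹ * x by rw [hxd, inv_mul_cancel_left]]
    exact mul_mem (mem_sup_right (D.inv_mem hd)) (mem_sup_left hx.2)
  have hyp : y ^ p ∈ X ⊔ D := mem_sup_right (hUD ⟨y, hy, rfl⟩)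
  refine hyn ?_
  by_cases hdvd : (p : ℤ) ∣ i
  · exfalso
    obtain ⟨c, rfl⟩ := hdvd
    have : x ∈ D ⊓ X := ⟨by
      rw [hxd]; exact D.mul_mem hd (by
        show y ^ ((p : ℤ) * c) ∈ D
        rw [zpow_mul, zpow_natCast]; exact D.zpow_mem (hUD ⟨y, hy, rfl⟩) c), hx.2⟩
    rw [hDX, mem_bot] at this
    exact hx1 this
  · obtain ⟨a, b, hab⟩ : IsCoprime i (p : ℤ) :=
      ((Nat.prime_iff_prime_int.1 hp.out).coprime_iff_not_dvd.2 hdvd).symm
    have e : y = (y ^ i) ^ a * (y ^ p) ^ b := by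
      rw [← zpow_natCast y p, ← zpow_mul, ← zpow_mul, ← zpow_add, mul_comm i a, mul_comm (p : ℤ) b,
        hab, zpow_one]
    rw [e]
    exact mul_mem (zpow_mem hyi a) (zpow_mem hyp b)

variable (hG : IsMinSimpleOddOrder G) (h : LocalInputs G) {M E A : Subgroup G}
  (hM : IsCoatom M) (hE : IsComplIn E (sigmaCore M) M) (hp2 : p ∈ tau2 M)
  (hna : ∀ S : Sylow p G, ¬ IsMulCommutative (S : Subgroup G))
  (hA : A ≤ E ∧ IsElementaryAbelian p A ∧ Nat.card A = p ^ 2)
include hG h hM hE hp2 hna hA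

/-- `A ∩ C(M_σ)` contains no nontrivial `p`-th power of a `p`-element of `E`. -/
theorem pow_not_mem_line {y : G} (hy : y ∈ E) (hyp : IsPGroup p (zpowers y))
    (hmem : y ^ p ∈ A ⊓ centralizer (sigmaCore M : Set G)) : y ^ p = 1 := by
  by_contra hne
  set X₀ := A ⊓ centralizer (sigmaCore M : Set G)
  obtain ⟨-, ⟨hX₀c, -⟩, -⟩ := nonabelian_tau_two_stmt hG h hM hE hp2 hna hA
  obtain ⟨⟨hEA, -⟩, -, hbad⟩ := tau_two_compl_stmt hG h hM hE hp2 hA
  have hAp : IsPGroup p A := isPGroup_of_pow_eq_one hp.out hA.2.1.2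
  have hsup : IsPGroup p ↥(A ⊔ zpowers y) :=
    IsPGroup.to_sup_of_normal_left' hAp hyp ((zpowers_le.2 hy).trans hEA)
  obtain ⟨S, P, s, Z, hTP, hAP, hPS, hPC, -, hsS, hsM, -, hsP, -, -, -⟩ :=
    exists_moving hG h hM hE hp2 hA hna hsup (sup_le hA.1 (zpowers_le.2 hy)) le_sup_left
  obtain ⟨C, hCc, hC⟩ := exists_cyclic_pow hG h S (hna S) (hAP.trans hPS) hA.2.1 hA.2.2
    ((not_ideal_of_rank_two hG h.uniq hM hp2.2.2.1 hp2.2.2.2).2 A (hA.1.trans hE.1) hA.2.1 hA.2.2)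
  have hyP := hTP (mem_sup_right (mem_zpowers y))
  have hsy := (mem_normalizer_iff.1 hsP y).1 hyP
  have h1 : y ^ p ∈ C := hC y (hPS hyP) (hPC hyP)
  have h2 : s * y ^ p * s⁻¹ ∈ C := by
    rw [← conj_pow]; exact hC _ (hPS hsy) (hPC hsy)
  haveI := hCc
  have h3 : s * y ^ p * s⁻¹ ∈ X₀ := zpowers_le.2 hmem
    (mem_zpowers_of_cyclic h1 h2 (orderOf_conj_eq _ _))
  have hX₀n : s ∈ normalizer (X₀ : Set G) := by
    rw [mem_normalizer_iff_map_conj_eq, ← (zpowers_eq_of_card_prime hX₀c hmem hne : _ = X₀),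
      MonoidHom.map_zpowers]
    exact (zpowers_eq_of_card_prime hX₀c h3 fun h0 => hne (by
      rw [← orderOf_eq_one_iff, ← orderOf_conj_eq s, h0, orderOf_one])).trans
      (zpowers_eq_of_card_prime hX₀c hmem hne).symm
  have hsC := le_centralizer_of_card_prime_normalized (S.isPGroup'.to_le (zpowers_le.2 hsS)) hX₀c
    (zpowers_le.2 hX₀n) (mem_zpowers s)
  refine hsM ((hbad X₀ inf_le_left hX₀c ?_).1 hsC)
  rw [inf_eq_left.2 (Subgroup.le_centralizer_iff.1 inf_le_right)]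
  exact sigmaCore_ne_bot hG h.uniq smallRankFrattini fittingRankTwoDerived rankTwoLargestPrime hM

variable (hfpf : ∀ e ∈ E, e ≠ 1 → (∀ r : ℕ, r.Prime → r ∣ orderOf e → r ∈ tau1 M ∪ tau3 M) →
  sigmaCore M ⊓ centralizer ({e} : Set G) = ⊥)
include hfpf

/-- BG 12.12 when a Sylow subgroup for a prime in `τ₂(M)` is nonabelian. -/
theorem nonabelian_compl :
    (∃ A₀ : Subgroup G, A₀ ≤ E ∧ E ≤ normalizer (A₀ : Set G) ∧ IsMulCommutative A₀ ∧
        ∀ x ∈ sigmaCore M, x ≠ 1 → E ⊓ centralizer ({x} : Set G) ≤ A₀) ∧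
      ∃ E₀ : Subgroup G, E₀ ≤ E ∧ Monoid.exponent E₀ = Monoid.exponent E ∧
        ∀ e ∈ E₀, e ≠ 1 → sigmaCore M ⊓ centralizer ({e} : Set G) = ⊥ := by
  obtain ⟨hτ, ⟨hX₀c, -⟩, hgood⟩ := nonabelian_tau_two_stmt hG h hM hE hp2 hna hA
  obtain ⟨⟨hEA, -⟩, -, -⟩ := tau_two_compl_stmt hG h hM hE hp2 hA
  set X₀ := A ⊓ centralizer (sigmaCore M : Set G)
  have hX₀E : X₀ ≤ E := inf_le_left.trans hA.1
  have hX₀n : E ≤ normalizer (X₀ : Set G) :=
    Coprime.le_normalizer_inf hEA (Coprime.le_normalizer_centralizer (compl_le_normalizer hE))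
  -- the primes of an element with a fixed point
  have hprime : ∀ e ∈ E, sigmaCore M ⊓ centralizer ({e} : Set G) ≠ ⊥ → ∀ r : ℕ, r.Prime →
      r ∣ orderOf e → r = p := by
    intro e he hne r hr hd
    by_contra hrp
    haveI := Fact.mk hr
    set y := e ^ (orderOf e / r)
    have hyo : orderOf y = r := orderOf_pow_orderOf_div (orderOf_pos e).ne' hd
    have hy : y ∈ E := E.pow_mem he _
    have hrE : r ∣ Nat.card E := hyo ▸ Subgroup.orderOf_dvd_natCard E hy
    have hrs := not_mem_sigma_of_dvd hG hM hE hr hrE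
    have hrM : r ∣ Nat.card M := hrE.trans (card_dvd_of_le hE.1)
    have hr13 : r ∈ tau1 M ∪ tau3 M := by
      by_cases h1 : PRankLE r 1 M
      · by_cases hd' : r ∣ Nat.card ↥⁅M, M⁆
        · exact Or.inr ⟨hr, hrs, hd', h1⟩
        · exact Or.inl ⟨hr, hrs, hrM, hd', h1⟩
      · have : r ∈ tau2 M := ⟨hr, hrs, not_sigma_rank_two hG h.uniq hM hr hrs, h1⟩
        rw [hτ] at this
        exact absurd this hrp
    refine hne (le_bot_iff.1 ((le_inf inf_le_left (inf_le_right.trans ?_)).trans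
      (hfpf y hy (fun h0 => hr.ne_one (by rw [← hyo, h0, orderOf_one])) fun q hq hqd => by
        rw [hyo] at hqd; rwa [(Nat.prime_dvd_prime_iff_eq hq hr).1 hqd]).le))
    intro c hc
    rw [mem_centralizer_singleton_iff] at hc ⊢
    exact (show Commute c e from hc).pow_right _
  -- elements with a fixed point lie in `X₀`
  have hfix : ∀ e ∈ E, sigmaCore M ⊓ centralizer ({e} : Set G) ≠ ⊥ → e ∈ X₀ := by
    intro e he hne
    by_contra heX
    have he1 : e ≠ 1 := fun h0 => heX (h0 ▸ one_mem X₀)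
    obtain ⟨k, hk⟩ : ∃ k, orderOf e = p ^ k :=
      ⟨_, Nat.eq_prime_pow_of_unique_prime_dvd (orderOf_pos e).ne' fun {q} hq hd => hprime e he hne q hq hd⟩
    obtain ⟨n, hn1, hn2⟩ : ∃ n, e ^ p ^ n ∉ X₀ ∧ e ^ p ^ (n + 1) ∈ X₀ := by
      classical
      have hex : ∃ n, e ^ p ^ n ∈ X₀ := ⟨k, by rw [← hk, pow_orderOf_eq_one]; exact one_mem _⟩
      have h0 : Nat.find hex ≠ 0 := fun h0 => heX (by
        have := Nat.find_spec hex
        rwa [h0, pow_zero, pow_one] at this)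
      refine ⟨Nat.find hex - 1, Nat.find_min hex (Nat.sub_lt (Nat.pos_of_ne_zero h0) one_pos), ?_⟩
      rw [Nat.sub_add_cancel (Nat.one_le_iff_ne_zero.2 h0)]
      exact Nat.find_spec hex
    set y := e ^ p ^ n
    have hy : y ∈ E := E.pow_mem he _
    have hyp : IsPGroup p (zpowers y) := (IsPGroup.of_card (n := k) (by rw [Nat.card_zpowers, hk]) :
      IsPGroup p (zpowers e)).to_le (zpowers_le.2 (pow_mem (mem_zpowers e) _))
    have hy1 : y ^ p = 1 := pow_not_mem_line hG h hM hE hp2 hna hA hy hyp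
      (by rw [← pow_mul, ← pow_succ]; exact hn2)
    have hyA := mem_sq_of_pow_eq_one hG h hM hE hp2 hA hy hy1
    have hyne : y ≠ 1 := fun h0 => hn1 (h0 ▸ one_mem X₀)
    have hc : Nat.card (zpowers y) = p := by
      rw [Nat.card_zpowers]; exact orderOf_eq_prime hy1 hyne
    refine hne (le_bot_iff.1 ((le_inf inf_le_left (inf_le_right.trans ?_)).trans
      (hgood (zpowers y) (zpowers_le.2 hy) hc fun h0 => hn1 (h0 ▸ mem_zpowers y)).1.le))
    intro c hc'
    rw [centralizer_zpowers_eq, mem_centralizer_singleton_iff]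
    rw [mem_centralizer_singleton_iff] at hc'
    exact (show Commute c e from hc').pow_right _
  refine ⟨⟨X₀, hX₀E, hX₀n, isMulCommutative_of_le_centralizer (inf_le_left.trans
    ((le_centralizer_self_of_comm hA.2.1.1).trans (centralizer_le inf_le_left))), fun x hx hx1 e he => ?_⟩, ?_⟩
  · refine hfix e he.1 fun h0 => hx1 (mem_bot.1 (h0 ▸ ⟨hx, mem_centralizer_singleton_iff.2 ?_⟩))
    exact (mem_centralizer_singleton_iff.1 he.2).symm
  -- the complement
  obtain ⟨T, hT⟩ := ((isPGroup_of_pow_eq_one hp.out hA.2.1.2).comap_subtype (K := E)).exists_le_sylow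
  set P := (T : Subgroup E).map E.subtype with hP
  have hPE : P ≤ E := map_subtype_le _
  have hAP : A ≤ P := fun a ha => ⟨⟨a, hA.1 ha⟩, hT ha, rfl⟩
  obtain ⟨P', hPP', hP'c, -⟩ := exists_tau2_sylow hG h hM hp2 ⟨hA.1.trans hE.1, hA.2⟩
    (T.isPGroup'.map E.subtype) (hPE.trans hE.1) hAP
  haveI : IsMulCommutative P := isMulCommutative_of_le_centralizer
    (hPP'.trans ((le_centralizer_self_of_comm hP'c).trans (centralizer_le hPP')))
  have hX₀P : X₀ ≤ P := inf_le_left.trans hAP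
  obtain ⟨D, hDP, hDX, hsup⟩ := exists_line_compl hX₀P hX₀c fun y hy hyX =>
    pow_not_mem_line hG h hM hE hp2 hna hA (hPE hy) ((T.isPGroup'.map E.subtype).to_le (zpowers_le.2 hy)) hyX
  haveI : (X₀.subgroupOf E).Normal := (normal_subgroupOf_iff_le_normalizer hX₀E).2 hX₀n
  haveI : IsMulCommutative (X₀.subgroupOf E) := by
    haveI : IsCyclic X₀ := isCyclic_of_prime_card hX₀c
    haveI : IsCyclic (X₀.subgroupOf E) := (subgroupOfEquivOfLe hX₀E).isCyclic.2 inferInstance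
    infer_instance
  have hPT : P.subgroupOf E = (T : Subgroup E) := comap_map_eq_self_of_injective E.subtype_injective _
  obtain ⟨H, hH⟩ := Frobenius.gaschuetz_exists (X₀.subgroupOf E) (T : Subgroup E)
    (hPT ▸ comap_mono hX₀P) (by
      rw [Nat.card_congr (subgroupOfEquivOfLe hX₀E).toEquiv, hX₀c]
      exact (hp.out.coprime_iff_not_dvd).2 T.not_dvd_index)
    (D.subgroupOf E) (hPT ▸ comap_mono hDP)
    (by rw [show D.subgroupOf E ⊓ X₀.subgroupOf E = (D ⊓ X₀).subgroupOf E from (comap_inf _ _ _).symm, hDX, bot_subgroupOf])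
    (by rw [← subgroupOf_sup hX₀E (hDP.trans hPE), hsup, hPT])
  refine ⟨H.map E.subtype, map_subtype_le _, ?_, fun e he he1 => ?_⟩
  · refine Nat.dvd_antisymm (Monoid.exponent_dvd_of_monoidHom (inclusion (map_subtype_le H))
      (inclusion_injective _)) ?_
    rw [← Monoid.exponent_eq_of_mulEquiv (equivMapOfInjective H E.subtype E.subtype_injective)]
    refine Monoid.exponent_dvd_of_forall_pow_eq_one fun e => ?_
    obtain ⟨⟨⟨x, hx⟩, ⟨f, hf⟩⟩, hxf⟩ := hH.2 e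
    simp only at hxf
    -- `e ^ N` lies in `X₀`
    set N := Monoid.exponent H
    have hfN : f ^ N = 1 := congrArg Subtype.val (Monoid.pow_exponent_eq_one (⟨f, hf⟩ : H))
    have hmem : e ^ N ∈ X₀.subgroupOf E := by
      rw [← QuotientGroup.eq_one_iff, QuotientGroup.mk_pow, ← hxf, QuotientGroup.mk_mul,
        (QuotientGroup.eq_one_iff x).2 hx, one_mul, ← QuotientGroup.mk_pow, hfN, QuotientGroup.mk_one]
    rw [mem_subgroupOf, SubgroupClass.coe_pow] at hmem
    have hpN : p ∣ N := by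
      have hpH : p ∣ Nat.card H := by
        have h1 := hH.card_mul
        rw [Nat.card_congr (subgroupOfEquivOfLe hX₀E).toEquiv, hX₀c] at h1
        have h2 : p * p ∣ Nat.card E := by
          rw [← pow_two, ← hA.2.2]; exact card_dvd_of_le hA.1
        rw [← h1] at h2
        exact Nat.dvd_of_mul_dvd_mul_left hp.out.pos h2
      obtain ⟨z, hz⟩ := exists_prime_orderOf_dvd_card' p hpH
      exact hz ▸ Monoid.order_dvd_exponent z
    -- the `p`-part
    refine Subtype.ext ?_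
    show (e : G) ^ N = 1
    by_contra hne
    set v := (e : G) ^ N
    have hv : orderOf v = p := orderOf_eq_prime
      (hA.2.1.2 v hmem.1) hne
    obtain ⟨a, m, hm, hord⟩ := Nat.exists_eq_pow_mul_and_not_dvd (orderOf_pos (e : G)).ne' p hp.out.ne_one
    set y := (e : G) ^ m
    have hm0 : m ≠ 0 := fun h0 => hm (h0 ▸ dvd_zero p)
    have hyo : orderOf y = p ^ a := by
      rw [orderOf_pow_of_dvd hm0 ⟨p ^ a, by rw [hord, mul_comm]⟩, hord,
        Nat.mul_div_cancel _ (Nat.pos_of_ne_zero hm0)]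
    obtain ⟨c, hc⟩ := hpN
    have hyN : (y ^ c) ^ p ∈ X₀ := by
      rw [← pow_mul, mul_comm c p, ← hc, ← pow_mul, mul_comm m, pow_mul]
      exact pow_mem hmem m
    have h1 := pow_not_mem_line hG h hM hE hp2 hna hA (E.pow_mem (E.pow_mem e.2 m) c)
      ((IsPGroup.of_card (n := a) (by rw [Nat.card_zpowers, hyo]) : IsPGroup p (zpowers y)).to_le
        (zpowers_le.2 (pow_mem (mem_zpowers y) c))) hyN
    rw [← pow_mul, mul_comm c p, ← hc, ← pow_mul, mul_comm m, pow_mul, ← orderOf_dvd_iff_pow_eq_one,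
      hv] at h1
    exact hm h1
  · by_contra hne
    obtain ⟨e', he', rfl⟩ := he
    have h1 := hfix _ e'.2 hne
    have : e' ∈ X₀.subgroupOf E ⊓ H := ⟨h1, he'⟩
    rw [hH.disjoint.eq_bot, mem_bot] at this
    exact he1 (by rw [this, map_one])

end Cfsg.Agent.BGTwelve
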