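import Cfsg.Agent.BGTwelve.AbelianTauTwo
import Cfsg.Agent.BGTwelve.NonabelianCompl

/-!
# BG 12.12: elements of `E` semiregular on `M_σ`
-/

set_option autoImplicit false

namespace Cfsg.Agent.BGTwelve

open Cfsg BGSigma Subgroup

universe u

variable {G : Type u} [Group G] [Finite G] (hG : IsMinSimpleOddOrder G) (h : LocalInputs G)
include hG h

/-- BG 12.12. -/
theorem fpf_compl_stmt {M E : Subgroup G} (hM : IsCoatom M) (hE : IsComplIn E (sigmaCore M) M)
    (hfpf : ∀ e ∈ E, e ≠ 1 → (∀ r : ℕ, r.Prime → r ∣ orderOf e → r ∈ tau1 M ∪ tau3 M) →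
      sigmaCore M ⊓ centralizer ({e} : Set G) = ⊥) :
    (∃ A₀ : Subgroup G, A₀ ≤ E ∧ E ≤ normalizer (A₀ : Set G) ∧ IsMulCommutative A₀ ∧
        ∀ x ∈ sigmaCore M, x ≠ 1 → E ⊓ centralizer ({x} : Set G) ≤ A₀) ∧
      ∃ E₀ : Subgroup G, E₀ ≤ E ∧ Monoid.exponent E₀ = Monoid.exponent E ∧
        ∀ e ∈ E₀, e ≠ 1 → sigmaCore M ⊓ centralizer ({e} : Set G) = ⊥ := by
  by_cases hab : ∃ r : ℕ, ∃ _ : r ∈ tau2 M, ∀ S : Sylow r G, ¬ IsMulCommutative (S : Subgroup G)
  · obtain ⟨p, hp2, hna⟩ := hab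
    haveI := Fact.mk hp2.1
    obtain ⟨A, hA⟩ := exists_sq_le_compl hG hM hE hp2
    exact nonabelian_compl hG h hM hE hp2 hna hA hfpf
  push Not at hab
  -- data for every prime of `τ₂(M)`
  have data : ∀ r : ℕ, r ∈ tau2 M → ∃ (S : Sylow r G) (T : Subgroup G), (S : Subgroup G) ≤ E ∧
      E ≤ normalizer ((S : Subgroup G) : Set G) ∧ IsMulCommutative (S : Subgroup G) ∧
      T ≤ (S : Subgroup G) ∧ IsCyclic T ∧ E ≤ normalizer (T : Set G) ∧
      (∀ y ∈ (S : Subgroup G), orderOf y ∣ Nat.card T) ∧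
      ∀ t ∈ T, t ≠ 1 → sigmaCore M ⊓ centralizer ({t} : Set G) = ⊥ := by
    intro r hr
    haveI := Fact.mk hr.1
    obtain ⟨A, hA⟩ := exists_sq_le_compl hG hM hE hr
    exact exists_semiregular_cyclic hG h hM hE hr hA hab hfpf
  choose S T hSE hES hSc hTS hTc hTn hexp hT using data
  have hmemS : ∀ (r : ℕ) (hr : r ∈ tau2 M) (y : G), y ∈ E → IsPGroup r (zpowers y) → y ∈ (S r hr : Subgroup G) := by
    intro r hr y hy hyp
    have h1 : IsPGroup r ↥((S r hr : Subgroup G) ⊔ zpowers y) :=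
      IsPGroup.to_sup_of_normal_left' (S r hr).isPGroup' hyp ((zpowers_le.2 hy).trans (hES r hr))
    exact ((S r hr).is_maximal' h1 le_sup_left).le (mem_sup_right (mem_zpowers y))
  -- commuting of `τ₂`-elements
  have hcomm : ∀ a ∈ E, ∀ b ∈ E, (∀ r : ℕ, r.Prime → r ∣ orderOf a → r ∈ tau2 M) →
      (∀ r : ℕ, r.Prime → r ∣ orderOf b → r ∈ tau2 M) → Commute a b := by
    intro a ha b hb hτa hτb
    have key : ∀ (r : ℕ) (hr : r ∈ tau2 M) (q : ℕ) (hq : q ∈ tau2 M), ∀ x ∈ (S r hr : Subgroup G),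
        ∀ y ∈ (S q hq : Subgroup G), x * y = y * x := by
      intro r hr q hq x hx y hy
      rcases eq_or_ne r q with rfl | hrq
      · haveI := hSc r hr
        exact congrArg Subtype.val (mul_comm' (⟨x, hx⟩ : (S r hr : Subgroup G)) ⟨y, hy⟩)
      · haveI := Fact.mk hr.1
        haveI := Fact.mk hq.1
        refine BGUniq.mul_comm_of_normalized_coprime (hSE r hr) (hSE q hq) (hES r hr) (hES q hq) ?_ hx hy
        obtain ⟨i, hi⟩ := (S r hr).isPGroup'.exists_card_eq
        obtain ⟨j, hj⟩ := (S q hq).isPGroup'.exists_card_eq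
        rw [hi, hj]
        exact ((Nat.coprime_primes hr.1 hq.1).2 hrq).pow i j
    have hle : zpowers a ≤ centralizer (zpowers b : Set G) := by
      refine le_of_sylow_le fun r hr hd => ?_
      haveI := Fact.mk hr
      have hrτ := hτa r hr (by rwa [Nat.card_zpowers] at hd)
      let Q : Sylow r (zpowers a) := default
      refine ⟨Q, fun x hx => ?_⟩
      have hxS := hmemS r hrτ x ((map_subtype_le _).trans (zpowers_le.2 ha) hx)
        ((Q.isPGroup'.map _).to_le (zpowers_le.2 hx))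
      suffices zpowers b ≤ centralizer ({x} : Set G) from mem_centralizer_iff.2 fun y hy =>
        mem_centralizer_singleton_iff.1 (this hy)
      refine le_of_sylow_le fun q hq hd' => ?_
      haveI := Fact.mk hq
      have hqτ := hτb q hq (by rwa [Nat.card_zpowers] at hd')
      let R : Sylow q (zpowers b) := default
      refine ⟨R, fun y hy => mem_centralizer_singleton_iff.2 ?_⟩
      exact (key r hrτ q hqτ x hxS y (hmemS q hqτ y ((map_subtype_le _).trans (zpowers_le.2 hb) hy)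
        ((R.isPGroup'.map _).to_le (zpowers_le.2 hy)))).symm
    exact (mem_centralizer_iff.1 (hle (mem_zpowers a)) b (mem_zpowers b)).symm
  let A₀ : Subgroup G :=
    { carrier := {a | a ∈ E ∧ ∀ r : ℕ, r.Prime → r ∣ orderOf a → r ∈ tau2 M}
      one_mem' := ⟨one_mem E, fun r hr hd => by
        rw [orderOf_one] at hd; exact absurd (Nat.dvd_one.1 hd) hr.ne_one⟩
      mul_mem' := fun {a b} ha hb => ⟨E.mul_mem ha.1 hb.1, fun r hr hd =>
        (hr.dvd_mul.1 (hd.trans ((hcomm a ha.1 b hb.1 ha.2 hb.2).orderOf_mul_dvd_mul_orderOf))).elim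
          (ha.2 r hr) (hb.2 r hr)⟩
      inv_mem' := fun {a} ha => ⟨E.inv_mem ha.1, fun r hr hd => ha.2 r hr (by rwa [orderOf_inv] at hd)⟩ }
  have hA₀E : A₀ ≤ E := fun a ha => ha.1
  have hA₀c : IsMulCommutative A₀ :=
    ⟨⟨fun a b => Subtype.ext (hcomm a a.2.1 b b.2.1 a.2.2 b.2.2).eq⟩⟩
  have hA₀n : E ≤ normalizer (A₀ : Set G) := Coprime.le_normalizer_of_conj_mem fun e he a ha =>
    ⟨E.mul_mem (E.mul_mem he ha.1) (E.inv_mem he), fun r hr hd => ha.2 r hr (by
      rwa [orderOf_conj_eq] at hd)⟩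
  -- fixed points
  have hfix : ∀ e ∈ E, sigmaCore M ⊓ centralizer ({e} : Set G) ≠ ⊥ → e ∈ A₀ := by
    intro e he hne
    refine ⟨he, fun r hr hd => ?_⟩
    set y := e ^ (orderOf e / r)
    have hyo : orderOf y = r := orderOf_pow_orderOf_div (orderOf_pos e).ne' hd
    have hy : y ∈ E := E.pow_mem he _
    refine (tau_cases hG hM hE hr (hyo ▸ Subgroup.orderOf_dvd_natCard E hy)).resolve_right
      fun ⟨hr13, _⟩ => hne (le_bot_iff.1 ((le_inf inf_le_left (inf_le_right.trans ?_)).trans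
        (hfpf y hy (fun h0 => hr.ne_one (by rw [← hyo, h0, orderOf_one])) fun q hq hqd => by
          rw [hyo] at hqd; rwa [(Nat.prime_dvd_prime_iff_eq hq hr).1 hqd]).le))
    intro c hc
    rw [mem_centralizer_singleton_iff] at hc ⊢
    exact (show Commute c e from hc).pow_right _
  refine ⟨⟨A₀, hA₀E, hA₀n, hA₀c, fun x hx hx1 e he => ?_⟩, ?_⟩
  · refine hfix e he.1 fun h0 => hx1 (mem_bot.1 (h0 ▸ ⟨hx, mem_centralizer_singleton_iff.2 ?_⟩))
    exact (mem_centralizer_singleton_iff.1 he.2).symm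
  -- a complement of `A₀` in `E`
  have hA₀card : ∀ r : ℕ, r.Prime → r ∣ Nat.card A₀ → r ∈ tau2 M := fun r hr hd => by
    haveI := Fact.mk hr
    obtain ⟨a, ha⟩ := exists_prime_orderOf_dvd_card' r hd
    exact a.2.2 r hr (by rw [Subgroup.orderOf_coe, ha])
  have hSA₀ : ∀ (r : ℕ) (hr : r ∈ tau2 M), (S r hr : Subgroup G) ≤ A₀ := fun r hr y hy =>
    ⟨hSE r hr hy, fun q hq hd => by
      haveI := Fact.mk hr.1
      obtain ⟨j, hj⟩ := (S r hr).isPGroup'.exists_card_eq
      have h1 := hd.trans ((Subgroup.orderOf_dvd_natCard _ hy).trans (dvd_of_eq hj))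
      rwa [(Nat.prime_dvd_prime_iff_eq hq hr.1).1 (hq.dvd_of_dvd_pow h1)]⟩
  have hidx : ∀ r : ℕ, r ∈ tau2 M → ¬ r ∣ A₀.relIndex E := fun r hr hd => by
    haveI := Fact.mk hr.1
    refine (S r hr).not_dvd_index (hd.trans ?_)
    rw [← relIndex_mul_index (hSA₀ r hr), ← relIndex_mul_index hA₀E]
    exact ⟨E.index * (S r hr : Subgroup G).relIndex A₀, by ring⟩
  have hco : Nat.Coprime (Nat.card A₀) (A₀.relIndex E) :=
    Nat.coprime_of_dvd fun r hr h1 h2 => hidx r (hA₀card r hr h1) h2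
  obtain ⟨H, hH⟩ := BGSummary.exists_complIn_of_hall hA₀E hA₀n hco
  -- the product of the cyclic subgroups
  set Q : Subgroup G := ⨆ (r : ℕ) (hr : r ∈ tau2 M), T r hr with hQ
  have hQA : Q ≤ A₀ := iSup₂_le fun r hr => (hTS r hr).trans (hSA₀ r hr)
  have hQn : E ≤ normalizer (Q : Set G) := fun e he => by
    rw [mem_normalizer_iff_map_conj_eq, hQ, Subgroup.map_iSup]
    refine iSup_congr fun r => ?_
    rw [Subgroup.map_iSup]
    exact iSup_congr fun hr => mem_normalizer_iff_map_conj_eq.1 (hTn r hr he)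
  have hHE : H ≤ E := hH.2.1
  refine ⟨H ⊔ Q, sup_le hHE (hQA.trans hA₀E), ?_, fun e he he1 => ?_⟩
  · refine Nat.dvd_antisymm (Monoid.exponent_dvd_of_monoidHom (inclusion (sup_le hHE (hQA.trans hA₀E)))
      (inclusion_injective _)) ?_
    refine Monoid.exponent_dvd.2 fun e => ?_
    rw [← Nat.factorization_prime_le_iff_dvd (orderOf_pos e).ne' Monoid.exponent_ne_zero_of_finite]
    intro r hr
    rw [← hr.pow_dvd_iff_le_factorization Monoid.exponent_ne_zero_of_finite]
    set k := (orderOf e).factorization r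
    obtain ⟨c, hc⟩ : r ^ k ∣ orderOf e := Nat.ordProj_dvd _ _
    set y := (e : G) ^ c
    have hc0 : c ≠ 0 := fun h0 => (orderOf_pos e).ne' (by rw [hc, h0, mul_zero])
    have hyo : orderOf y = r ^ k := by
      rw [orderOf_pow_of_dvd hc0 ⟨r ^ k, by rw [Subgroup.orderOf_coe, hc, mul_comm]⟩,
        Subgroup.orderOf_coe, hc, Nat.mul_div_cancel _ (Nat.pos_of_ne_zero hc0)]
    have hyE : y ∈ E := E.pow_mem e.2 c
    rcases Nat.eq_zero_or_pos k with hk0 | hk0
    · rw [hk0, pow_zero]; exact one_dvd _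
    haveI := Fact.mk hr
    by_cases hrτ : r ∈ tau2 M
    · have h1 := hexp r hrτ y (hmemS r hrτ y hyE (IsPGroup.of_card (n := k) (by rw [Nat.card_zpowers, hyo])))
      rw [hyo] at h1
      refine h1.trans ?_
      haveI := hTc r hrτ
      rw [← IsCyclic.exponent_eq_card]
      exact Monoid.exponent_dvd_of_monoidHom
        (inclusion ((le_iSup₂ (f := fun r hr => T r hr) r hrτ).trans le_sup_right))
        (inclusion_injective _)
    · obtain ⟨u, hu, v, hv, huv⟩ := hH.2.2.2 y hyE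
      haveI : (A₀.subgroupOf E).Normal := (normal_subgroupOf_iff_le_normalizer hA₀E).2 hA₀n
      set n := orderOf v
      have hvn : (y ^ n) ∈ A₀ := by
        have h2 : ((⟨y, hyE⟩ : E) ^ n) ∈ A₀.subgroupOf E := by
          rw [← QuotientGroup.eq_one_iff, QuotientGroup.mk_pow,
            show (⟨y, hyE⟩ : E) = ⟨u, hA₀E hu⟩ * ⟨v, hHE hv⟩ from Subtype.ext huv, QuotientGroup.mk_mul,
            (QuotientGroup.eq_one_iff _).2 (mem_subgroupOf.2 hu), one_mul, ← QuotientGroup.mk_pow,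
            show ((⟨v, hHE hv⟩ : E) ^ n) = 1 from Subtype.ext (pow_orderOf_eq_one v), QuotientGroup.mk_one]
        simpa [mem_subgroupOf] using h2
      have h3 : y ^ n = 1 := by
        refine orderOf_eq_one_iff.1 (Nat.eq_one_iff_not_exists_prime_dvd.2 fun q hq hd => hrτ ?_)
        have h4 := hd.trans (orderOf_pow_dvd n)
        rw [hyo] at h4
        rw [← (Nat.prime_dvd_prime_iff_eq hq hr).1 (hq.dvd_of_dvd_pow h4)]
        exact hvn.2 q hq hd
      rw [← orderOf_dvd_iff_pow_eq_one, hyo] at h3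
      refine h3.trans ?_
      show orderOf v ∣ _
      rw [← Subgroup.orderOf_mk v (mem_sup_left (T := Q) hv)]
      exact Monoid.order_dvd_exponent _
  · by_contra hne
    have heE : e ∈ E := sup_le hHE (hQA.trans hA₀E) he
    have heA := hfix e heE hne
    rw [sup_comm] at he
    obtain ⟨u, hu, v, hv, rfl⟩ := Coprime.exists_mul_of_mem_sup (hHE.trans hQn) he
    have hvA : v ∈ A₀ ⊓ H := ⟨(Subgroup.mul_mem_cancel_left A₀ (hQA hu)).1 heA, hv⟩
    rw [hH.2.2.1, mem_bot] at hvA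
    subst hvA
    rw [mul_one] at hne he1
    -- an element of prime order in `Q` with a fixed point
    obtain ⟨r, hr, hd⟩ := Nat.exists_prime_and_dvd (mt orderOf_eq_one_iff.1 he1)
    haveI := Fact.mk hr
    set y := u ^ (orderOf u / r) with hy
    have hyo : orderOf y = r := orderOf_pow_orderOf_div (orderOf_pos u).ne' hd
    have hyQ : y ∈ Q := Q.pow_mem hu _
    have hrτ : r ∈ tau2 M := (hQA hu).2 r hr hd
    let R : Subgroup G :=
      { carrier := {a | a ∈ A₀ ∧ ¬ r ∣ orderOf a}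
        one_mem' := ⟨one_mem A₀, by rw [orderOf_one]; exact hr.not_dvd_one⟩
        mul_mem' := fun {a b} ha hb => ⟨A₀.mul_mem ha.1 hb.1, fun hd =>
          (hr.dvd_mul.1 (hd.trans ((hcomm a ha.1.1 b hb.1.1 ha.1.2 hb.1.2).orderOf_mul_dvd_mul_orderOf))).elim
            ha.2 hb.2⟩
        inv_mem' := fun {a} ha => ⟨A₀.inv_mem ha.1, by rw [orderOf_inv]; exact ha.2⟩ }
    have hQR : Q ≤ T r hrτ ⊔ R := iSup₂_le fun q hq => by
      rcases eq_or_ne q r with rfl | hqr
      · exact le_sup_left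
      · refine le_sup_of_le_right fun a ha => ⟨hSA₀ q hq (hTS q hq ha), fun hd => hqr ?_⟩
        haveI := Fact.mk hq.1
        obtain ⟨j, hj⟩ := ((S q hq).isPGroup'.to_le (hTS q hq)).exists_card_eq
        have h1 := hd.trans ((Subgroup.orderOf_dvd_natCard _ ha).trans (dvd_of_eq hj))
        exact ((Nat.prime_dvd_prime_iff_eq hr hq.1).1 (hr.dvd_of_dvd_pow h1)).symm
    obtain ⟨t, ht, w, hw, htw⟩ := Coprime.exists_mul_of_mem_sup
      (show R ≤ normalizer (T r hrτ : Set G) from fun a ha => hTn r hrτ ha.1.1) (hQR hyQ)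
    have htA : t ∈ A₀ := hSA₀ r hrτ (hTS r hrτ ht)
    have hcw : Commute t w := hcomm t htA.1 w hw.1.1 htA.2 hw.1.2
    have hyr : y ^ r = 1 := by rw [← hyo, pow_orderOf_eq_one]
    have hw1 : w = 1 := by
      rw [htw, hcw.mul_pow] at hyr
      have h1 : w ^ r ∈ T r hrτ := by
        rw [eq_inv_of_mul_eq_one_right hyr]; exact (T r hrτ).inv_mem ((T r hrτ).pow_mem ht r)
      obtain ⟨j, hj⟩ := ((S r hrτ).isPGroup'.to_le (hTS r hrτ)).exists_card_eq
      have h2 : w ^ r = 1 := orderOf_eq_one_iff.1 (Nat.eq_one_of_dvd_coprimes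
        (((hr.coprime_iff_not_dvd).2 hw.2).pow_left j)
        ((Subgroup.orderOf_dvd_natCard _ h1).trans (dvd_of_eq hj)) (orderOf_pow_dvd r))
      rcases (hr.eq_one_or_self_of_dvd _ (orderOf_dvd_of_pow_eq_one h2)) with h3 | h3
      · exact orderOf_eq_one_iff.1 h3
      · exact absurd h3.symm.dvd hw.2
    rw [hw1, mul_one] at htw
    refine hne (le_bot_iff.1 ((le_inf inf_le_left (inf_le_right.trans ?_)).trans
      (hT r hrτ y (htw ▸ ht) fun h0 => hr.ne_one (by rw [← hyo, h0, orderOf_one])).le))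
    intro c hc
    rw [mem_centralizer_singleton_iff] at hc ⊢
    exact (show Commute c u from hc).pow_right _

end Cfsg.Agent.BGTwelve
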