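import Cfsg.Agent.BGTwelve.Uniqueness

/-!
# BG 12.14: centralizers of elements of order `p ∈ β(M)`, or in `M_σ'`, lie only in `M`
-/

set_option autoImplicit false

namespace Cfsg.Agent.BGTwelve

open Cfsg BGSigma Subgroup
open scoped commutatorElement

universe u

variable {G : Type u} [Group G] [Finite G]

/-- In a group `S ⊔ K` the derived group meets `S` in the derived group of `S`. -/
theorem inf_derived_le {N K S : Subgroup G} (hKN : K ≤ N) (hn : N ≤ normalizer (K : Set G))
    (hSN : S ≤ N) (hsup : N ≤ K ⊔ S) (hinf : S ⊓ K = ⊥) : S ⊓ ⁅N, N⁆ ≤ ⁅S, S⁆ := by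
  haveI : (K.subgroupOf N).Normal := (normal_subgroupOf_iff_le_normalizer hKN).2 hn
  set π := QuotientGroup.mk' (K.subgroupOf N) with hπ
  have htop : (⊤ : Subgroup N).map π ≤ (S.subgroupOf N).map π := by
    rintro _ ⟨⟨x, hx⟩, -, rfl⟩
    obtain ⟨k, hk, s, hs, rfl⟩ := Coprime.exists_mul_of_mem_sup (hSN.trans hn) (hsup hx)
    refine ⟨⟨s, hSN hs⟩, hs, ?_⟩
    refine (QuotientGroup.eq).2 (mem_subgroupOf.2 ?_)
    show s⁻¹ * (k * s) ∈ K
    simpa [mul_assoc] using (mem_normalizer_iff.1 (inv_mem (hn (hSN hs))) k).1 hk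
  rintro x ⟨hxS, hxN⟩
  rw [← map_subtype_commutator] at hxN
  obtain ⟨⟨y, hy⟩, hyc, rfl⟩ := hxN
  have h1 : π ⟨y, hy⟩ ∈ ⁅S.subgroupOf N, S.subgroupOf N⁆.map π := by
    rw [map_commutator]
    refine commutator_mono htop htop ?_
    rw [← map_commutator]
    exact mem_map_of_mem π hyc
  obtain ⟨z, hz, hzy⟩ := h1
  have hz' : (z : G) ∈ ⁅S, S⁆ := by
    have h2 := mem_map_of_mem N.subtype hz
    rw [map_commutator] at h2
    exact commutator_mono (subgroupOf_map_subtype S N ▸ inf_le_left)
      (subgroupOf_map_subtype S N ▸ inf_le_left) h2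
  have hd := (QuotientGroup.eq).1 hzy
  rw [mem_subgroupOf] at hd
  have he : ((z : G))⁻¹ * y ∈ S ⊓ K := ⟨S.mul_mem (S.inv_mem (commutator_le_self S hz')) hxS, hd⟩
  rw [hinf, mem_bot, inv_mul_eq_one] at he
  show y ∈ ⁅S, S⁆
  exact he ▸ hz'

variable (hG : IsMinSimpleOddOrder G) (h : LocalInputs G) {p : ℕ} [hp : Fact p.Prime] {M : Subgroup G}
include hG h

/-- A subgroup over a subgroup of rank three of `M` has `M` as its only maximal overgroup. -/
theorem uniq_of_rank_three_le (hM : IsCoatom M) {H B : Subgroup G} (hH : H ≠ ⊤)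
    (hB : IsElementaryAbelian p B) (hBc : p ^ 2 < Nat.card B) (hBM : B ≤ M) (hBH : B ≤ H) :
    H ≤ M ∧ ∀ L : Subgroup G, IsCoatom L → H ≤ L → L = M := by
  have huniq : ∀ L : Subgroup G, IsCoatom L → H ≤ L → L = M := fun L hL hHL =>
    uniq_of_pgroup h.uniq hp.out (not_prankLE_of_elemAbelian hB le_rfl hBc) hL hM (hBH.trans hHL) hBM
  obtain ⟨L, hL, hHL⟩ := exists_coatom_ge hG hH
  exact ⟨huniq L hL hHL ▸ hHL, huniq⟩

/-- The derived subgroup of a Sylow subgroup contains its meet with `M_σ'`, for `p ∉ β(M)`. -/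
theorem sylow_inf_derived_le (hM : IsCoatom M) (hpM : p ∣ Nat.card M) (hpb : p ∉ beta M)
    (S : Sylow p (sigmaCore M)) :
    (S : Subgroup (sigmaCore M)).map (sigmaCore M).subtype ⊓ ⁅sigmaCore M, sigmaCore M⁆ ≤
      ⁅(S : Subgroup (sigmaCore M)).map (sigmaCore M).subtype,
        (S : Subgroup (sigmaCore M)).map (sigmaCore M).subtype⁆ := by
  obtain ⟨P, K, hK, hKP⟩ := (normalPComplement_of_not_mem_beta hG h.uniq h.plength h.narrow
    h.narrowSylow hM hp.out hpM hpb).2.1
  haveI := hK
  have hKp : ¬ p ∣ Nat.card K := hKP.index_eq_card ▸ P.not_dvd_index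
  have hcard : Nat.card K * Nat.card (S : Subgroup (sigmaCore M)) = Nat.card (sigmaCore M) := by
    rw [Sylow.card_eq_multiplicity S, ← Sylow.card_eq_multiplicity P]
    exact hKP.card_mul
  have hcompl : IsComplement' K (S : Subgroup (sigmaCore M)) := by
    refine isComplement'_of_coprime hcard ?_
    obtain ⟨j, hj⟩ := S.isPGroup'.exists_card_eq
    rw [hj]
    exact (((hp.out.coprime_iff_not_dvd).2 hKp).pow_left j).symm
  refine inf_derived_le (K := K.map (sigmaCore M).subtype) (map_subtype_le _)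
    (fun x hx => K.le_normalizer_map (sigmaCore M).subtype
      ⟨⟨x, hx⟩, by rw [normalizer_eq_top_iff.2 hK]; trivial, rfl⟩) (map_subtype_le _) ?_ ?_
  · rw [← Subgroup.map_sup, hcompl.sup_eq_top, ← MonoidHom.range_eq_map, range_subtype]
  · rw [← Subgroup.map_inf _ _ _ (sigmaCore M).subtype_injective, inf_comm, hcompl.disjoint.eq_bot, Subgroup.map_bot]

/-- BG 12.14 for a subgroup of order `p` of a Sylow subgroup. -/
theorem cent_uniq_aux (hM : IsCoatom M) (S : Sylow p G) (hSM : (S : Subgroup G) ≤ M)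
    (hpM : p ∈ sigma M) {X : Subgroup G} (hXS : X ≤ (S : Subgroup G)) (hX : Nat.card X = p)
    (hcase : p ∈ beta M ∨ X ≤ ⁅(S : Subgroup G), (S : Subgroup G)⁆) :
    centralizer (X : Set G) ≤ M ∧
      ∀ L : Subgroup G, IsCoatom L → centralizer (X : Set G) ≤ L → L = M := by
  have hX1 : X ≠ ⊥ := fun h0 => by rw [h0, card_bot] at hX; exact hp.out.ne_one hX.symm
  have hXt : X ≠ ⊤ := fun h0 => hM.1 (top_le_iff.1 (h0 ▸ hXS.trans hSM))
  have hCt := centralizer_ne_top hG hX1 hXt
  have hp2 : p ≠ 2 := ne_two_of_dvd hG (H := X) (dvd_of_eq hX.symm)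
  haveI hXc : IsCyclic X := isCyclic_of_prime_card hX
  have hXcent : X ≤ centralizer (X : Set G) := le_centralizer_self_of_comm inferInstance
  by_cases hr3 : ∃ B : Subgroup G, B ≤ (S : Subgroup G) ⊓ centralizer (X : Set G) ∧
      IsElementaryAbelian p B ∧ p ^ 2 < Nat.card B
  · obtain ⟨B, hB, hBe, hBc⟩ := hr3
    exact uniq_of_rank_three_le hG h hM hCt hBe hBc ((hB.trans inf_le_left).trans hSM)
      (hB.trans inf_le_right)
  push Not at hr3
  rcases hcase with hβ | hXd
  · have hnc : ¬ IsCyclic (S : Subgroup G) := by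
      intro hc
      obtain ⟨E, hEM, hEe, hEc⟩ := exists_elemAbelian_sq_le (H := M) (p := p)
        fun hr => hβ.1.2 (prankLE_mono hp.out (by norm_num) hr)
      obtain ⟨T, hT⟩ := (isPGroup_of_pow_eq_one hp.out hEe.2).exists_le_sylow
      haveI : IsCyclic (T : Subgroup G) := (Sylow.equiv S T).isCyclic.1 hc
      haveI : IsCyclic E := (subgroupOfEquivOfLe hT).isCyclic.1 inferInstance
      have hd : Nat.card E ∣ p := by
        rw [← IsCyclic.exponent_eq_card]
        exact Monoid.exponent_dvd_of_forall_pow_eq_one fun a => Subtype.ext (hEe.2 a a.2)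
      have := Nat.le_of_dvd hp.out.pos hd
      rw [hEc] at this
      nlinarith [hp.out.one_lt]
    obtain ⟨E, hES, hEe, hEc, hXE⟩ := exists_elemAbelian_sq_ge hp2 S.isPGroup' hXS hX hnc
    obtain ⟨B, hBS, hBe, hEB⟩ := hβ.2.2.2 S E hES hEe hEc
    exfalso
    have hlt : p ^ 2 < Nat.card B := hEc ▸ lt_of_le_of_ne
      (Nat.le_of_dvd Nat.card_pos (card_dvd_of_le hEB.le))
      fun he => hEB.ne (eq_of_le_of_card_ge hEB.le he.ge)
    refine absurd (hr3 B (le_inf hBS ?_) hBe) (not_le.2 hlt)
    exact (le_centralizer_self_of_comm hBe.1).trans (centralizer_anti (hXE.trans hEB.le))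
  -- `X ≤ S'`
  have hna : ¬ IsMulCommutative (S : Subgroup G) := fun hc => hX1 (le_bot_iff.1 (hXd.trans
    (commutator_eq_bot_iff_le_centralizer.2 (le_centralizer_self_of_comm hc)).le))
  suffices hSX : (S : Subgroup G) ≤ centralizer (X : Set G) by
    obtain ⟨M₀, ⟨-, -⟩, hu⟩ := inUniqueMaximal_of_nonabelian hG h S.isPGroup' hna
    have huniq : ∀ L : Subgroup G, IsCoatom L → centralizer (X : Set G) ≤ L → L = M := fun L hL hle =>
      (hu L ⟨hL, hSX.trans hle⟩).trans (hu M ⟨hM, hSM⟩).symm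
    obtain ⟨L, hL, hle⟩ := exists_coatom_ge hG hCt
    exact ⟨huniq L hL hle ▸ hle, huniq⟩
  refine Subgroup.le_centralizer_iff.1 (hXd.trans ?_)
  by_cases hr : PRankLE p 2 (S : Subgroup G)
  · obtain ⟨P₁, P₂, hsup, hcomm, hna₁, hcard, -, hcyc, -⟩ :=
      (sylow_rank_two_shape hG h.uniq h.plength h.blackburn p S hr).resolve_left hna
    set Z := P₁ ⊓ centralizer (P₁ : Set G)
    have hder : ⁅P₁, P₁⁆ = Z := commutator_eq_center_of_card_prime_cube P₁ hna₁ hcard
    have h12 : P₁ ≤ centralizer (P₂ : Set G) := fun a ha =>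
      mem_centralizer_iff.2 fun b hb => (hcomm a ha b hb).symm
    have hZS : Z ≤ centralizer ((S : Subgroup G) : Set G) := by
      refine Subgroup.le_centralizer_iff.1 ?_
      rw [← hsup]
      exact sup_le (Subgroup.le_centralizer_iff.1 inf_le_right)
        ((Subgroup.le_centralizer_iff.1 h12).trans (centralizer_anti inf_le_left))
    refine le_trans ?_ hZS
    rw [commutator_le]
    intro x hx y hy
    have hn : P₂ ≤ normalizer (P₁ : Set G) :=
      (Subgroup.le_centralizer_iff.1 h12).trans (centralizer_le_normalizer _)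
    rw [← hsup] at hx hy
    obtain ⟨a, ha, b, hb, rfl⟩ := Coprime.exists_mul_of_mem_sup hn hx
    obtain ⟨c, hc, d, hd, rfl⟩ := Coprime.exists_mul_of_mem_sup hn hy
    haveI := hcyc
    letI := IsCyclic.commGroup (α := P₂)
    have hbd : Commute b d := congrArg Subtype.val (mul_comm (⟨b, hb⟩ : P₂) ⟨d, hd⟩)
    have hbc : Commute b c := (hcomm c hc b hb).symm
    have had : Commute a d := hcomm a ha d hd
    have e : ⁅a * b, c * d⁆ = ⁅a, c⁆ := by
      have e1 : b * (c * d) * b⁻¹ = c * d := by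
        rw [(hbc.mul_right hbd).eq, mul_inv_cancel_right]
      have e2 : d * a⁻¹ * d⁻¹ = a⁻¹ := by rw [(had.symm.inv_right).eq, mul_inv_cancel_right]
      calc ⁅a * b, c * d⁆ = a * (b * (c * d) * b⁻¹) * a⁻¹ * (c * d)⁻¹ := by
            rw [commutatorElement_def]; group
        _ = a * c * (d * a⁻¹ * d⁻¹) * c⁻¹ := by rw [e1]; group
        _ = ⁅a, c⁆ := by rw [e2, commutatorElement_def]
    rw [e]
    exact hder ▸ commutator_mem_commutator ha hc
  · -- rank at least three
    exfalso
    haveI : Nontrivial (S : Subgroup G) := (nontrivial_iff_ne_bot _).2 fun h0 =>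
      hX1 (le_bot_iff.1 (h0 ▸ hXS))
    set E₀ := X.subgroupOf (S : Subgroup G) with hE₀
    set Zc : Subgroup (S : Subgroup G) :=
      Subgroup.closure {x | x ∈ center (S : Subgroup G) ∧ x ^ p = 1} with hZc
    -- the elementary subgroup generated by `X` and the central elements of order `p`
    have hZe : IsElementaryAbelian p (Zc.map (S : Subgroup G).subtype) := by
      have hle : Zc ≤ center (S : Subgroup G) := (closure_le _).2 fun x hx => hx.1
      refine ⟨isMulCommutative_of_le_centralizer ?_, ?_⟩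
      · rintro _ ⟨a, ha, rfl⟩
        exact mem_centralizer_iff.2 fun b ⟨b', hb', hbb⟩ => hbb ▸
          congrArg Subtype.val (mem_center_iff.1 (hle ha) b')
      · rintro _ ⟨a, ha, rfl⟩
        suffices a ^ p = 1 by rw [← map_pow, this, map_one]
        induction ha using Subgroup.closure_induction with
        | mem x hx => exact hx.2
        | one => exact one_pow p
        | mul x y hx _ h1 h2 => rw [(show Commute x y from (mem_center_iff.1 (hle hx) y).symm).mul_pow, h1, h2, one_mul]
        | inv x _ h1 => rw [inv_pow, h1, inv_one]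
    set Z' := Zc.map (S : Subgroup G).subtype
    have hZ'S : Z' ≤ (S : Subgroup G) := map_subtype_le _
    have hZ'C : Z' ≤ centralizer ((S : Subgroup G) : Set G) := by
      rintro _ ⟨a, ha, rfl⟩
      exact mem_centralizer_iff.2 fun b hb =>
        congrArg Subtype.val (mem_center_iff.1 ((closure_le _).2 (fun x hx => hx.1) ha) ⟨b, hb⟩)
    have hXe : IsElementaryAbelian p X := ⟨inferInstance, fun x hx => by
      have := congrArg Subtype.val (pow_card_eq_one' (G := X) (x := ⟨x, hx⟩))
      simpa [hX] using this⟩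
    set E := X ⊔ Z'
    have hEe : IsElementaryAbelian p E := elemAbelian_sup hXe hZe (hZ'C.trans (centralizer_anti hXS))
    have hES : E ≤ (S : Subgroup G) := sup_le hXS hZ'S
    have hEC : E ≤ centralizer (X : Set G) := sup_le hXcent (hZ'C.trans (centralizer_anti hXS))
    have hXZ : ¬ X ≤ Z' := by
      intro hle
      -- then `X` is central
      obtain ⟨B, hBS, hBe, hBc⟩ : ∃ B : Subgroup G, B ≤ (S : Subgroup G) ∧ IsElementaryAbelian p B ∧
          p ^ 2 < Nat.card B := by
        unfold PRankLE at hr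
        push Not at hr
        obtain ⟨B, h1, h2, hBc⟩ := hr
        have hBe : IsElementaryAbelian p B := ⟨h1, h2⟩
        haveI := hBe.1
        refine ⟨B.map (S : Subgroup G).subtype, map_subtype_le _,
          ⟨Subgroup.map_isMulCommutative _ _, ?_⟩, ?_⟩
        · rintro _ ⟨b, hb, rfl⟩; rw [← map_pow, hBe.2 b hb, map_one]
        · rw [card_map_of_injective (S : Subgroup G).subtype_injective]; exact hBc
      exact absurd (hr3 B (le_inf hBS (hBS.trans (Subgroup.le_centralizer_iff.1 (hle.trans hZ'C)))) hBe)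
        (not_le.2 hBc)
    have hZ'1 : Z' ≠ ⊥ := by
      haveI := (S.isPGroup').center_nontrivial
      obtain ⟨z, hz⟩ := exists_prime_orderOf_dvd_card' p
        (show p ∣ Nat.card (center (S : Subgroup G)) by
          obtain ⟨j, hj⟩ := (S.isPGroup'.to_subgroup (center (S : Subgroup G))).exists_card_eq
          rcases j with _ | j
          · exact absurd hj (by rw [pow_zero]; exact (Finite.one_lt_card (α := center (S : Subgroup G))).ne')
          · rw [hj]; exact dvd_pow_self p j.succ_ne_zero)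
      intro h0
      have hmem : ((z : (S : Subgroup G)) : G) ∈ Z' := mem_map_of_mem _ (subset_closure
        ⟨z.2, by
          have h1 := pow_orderOf_eq_one (z : (S : Subgroup G))
          rwa [Subgroup.orderOf_coe, hz] at h1⟩)
      rw [h0, mem_bot] at hmem
      rw [← Subgroup.orderOf_coe, ← Subgroup.orderOf_coe, hmem, orderOf_one] at hz
      exact hp.out.ne_one hz.symm
    have hEc : Nat.card E = p ^ 2 := by
      refine le_antisymm (hr3 E (le_inf hES hEC) hEe) ?_
      obtain ⟨j, hj⟩ := (S.isPGroup'.to_le hES).exists_card_eq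
      rw [hj]
      refine Nat.pow_le_pow_right hp.out.pos ?_
      by_contra hj2
      have hle : Nat.card E ≤ Nat.card X := by
        rw [hX, hj]
        calc p ^ j ≤ p ^ 1 := Nat.pow_le_pow_right hp.out.pos (by omega)
          _ = p := pow_one p
      have hEX := eq_of_le_of_card_ge (le_sup_left : X ≤ E) hle
      have hZX : Z' ≤ X := hEX ▸ le_sup_right
      refine hXZ (eq_of_le_of_card_ge hZX ?_).ge
      obtain ⟨i, hi⟩ := (S.isPGroup'.to_le hZ'S).exists_card_eq
      rw [hX, hi]
      exact Nat.le_self_pow (fun h0 => hZ'1 (eq_bot_of_card_eq _ (by rw [hi, h0, pow_zero]))) p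
    have hEc' : Nat.card (E.subgroupOf (S : Subgroup G)) = p ^ 2 := by
      rw [Nat.card_congr (subgroupOfEquivOfLe hES).toEquiv, hEc]
    obtain ⟨hnot, -, -, hchar, hidx⟩ := h.narrow (S : Subgroup G) p hp2 S.isPGroup' hr
      (E.subgroupOf (S : Subgroup G)) (elemAbelian_subgroupOf hEe hES) hEc' fun B hB hle => by
        refine le_antisymm (fun b hb => ?_) hle
        haveI := hB.1
        have hB'e : IsElementaryAbelian p (B.map (S : Subgroup G).subtype) :=
          ⟨Subgroup.map_isMulCommutative _ _, by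
            rintro _ ⟨b', hb', rfl⟩; rw [← map_pow, hB.2 b' hb', map_one]⟩
        have hEB : E ≤ B.map (S : Subgroup G).subtype := fun e he => ⟨⟨e, hES he⟩, hle he, rfl⟩
        have := eq_of_le_of_card_ge hEB (hEc ▸ hr3 _ (le_inf (map_subtype_le _)
          ((le_centralizer_self_of_comm hB'e.1).trans
            (centralizer_anti (le_sup_left.trans hEB)))) hB'e)
        exact mem_subgroupOf.2 (this ▸ mem_map_of_mem _ hb)
    apply hnot
    set T := centralizer ((Subgroup.closure {x : (S : Subgroup G) |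
      x ∈ Subgroup.upperCentralSeries (S : Subgroup G) 2 ∧ x ^ p = 1} :
        Subgroup (S : Subgroup G)) : Set (S : Subgroup G))
    haveI : IsCyclic ((S : Subgroup G) ⧸ T) :=
      isCyclic_of_prime_card (p := p) (by rw [← Subgroup.index_eq_card, hidx])
    have hcomm : commutator (S : Subgroup G) ≤ T :=
      (Subgroup.Normal.quotient_commutative_iff_commutator_le).1 inferInstance
    intro e he
    rw [mem_subgroupOf] at he
    obtain ⟨x, hx, z, ⟨z', hz', rfl⟩, hxz⟩ := Coprime.exists_mul_of_mem_sup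
      ((hZ'C.trans (centralizer_anti hXS)).trans (centralizer_le_normalizer _)) he
    have he' : e = ⟨x, hXS hx⟩ * z' := Subtype.ext hxz
    rw [he']
    refine T.mul_mem (hcomm ?_) ?_
    · have h1 := hXd hx
      rw [← map_subtype_commutator] at h1
      obtain ⟨w, hw, hwx⟩ := h1
      rwa [show (⟨x, hXS hx⟩ : (S : Subgroup G)) = w from Subtype.ext hwx.symm]
    · exact mem_centralizer_iff.2 fun y _ =>
        mem_center_iff.1 ((closure_le _).2 (fun x hx => hx.1) hz') y

/-- BG 12.14. -/
theorem cent_uniq_stmt (hM : IsCoatom M) (hpM : p ∈ sigma M) {X : Subgroup G} (hXM : X ≤ M)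
    (hX : Nat.card X = p) (P : Sylow p (sigmaCore M))
    (hcase : p ∈ beta M ∨ X ≤ ⁅sigmaCore M, sigmaCore M⁆) :
    (centralizer (X : Set G) ≤ M ∧
      ∀ L : Subgroup G, IsCoatom L → centralizer (X : Set G) ≤ L → L = M) ∧
      InUniqueMaximal ((P : Subgroup (sigmaCore M)).map (sigmaCore M).subtype) ∧
      (P : Subgroup (sigmaCore M)).map (sigmaCore M).subtype ≤ M := by
  obtain ⟨hHall, hHallG, -⟩ := sigmaCore_hall hG h.uniq smallRankFrattini fittingRankTwoDerived hM
  have hXp : IsPGroup p X := IsPGroup.of_card (n := 1) (by rw [hX, pow_one])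
  have hXN : X ≤ (sigmaCore M) :=
    le_of_normal_hall hHall (le_normalizer_sigmaCore M) hXM (isPiSub_of_isPGroup hp.out hXp hpM)
  obtain ⟨T, hT⟩ := (hXp.comap_subtype (K := (sigmaCore M))).exists_le_sylow
  obtain ⟨m, hm⟩ := MulAction.exists_smul_eq (sigmaCore M) T P
  set P₀ := (P : Subgroup (sigmaCore M)).map (sigmaCore M).subtype with hP₀
  have hP₀d : ¬ p ∣ P₀.index := by
    rw [hP₀, index_map_subtype]
    exact fun hd => ((Nat.Prime.dvd_mul hp.out).1 hd).elim P.not_dvd_index (hHallG.2 p hp.out hpM)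
  let S : Sylow p G := (P.isPGroup'.map (sigmaCore M).subtype).toSylow hP₀d
  have hSM : (S : Subgroup G) ≤ M := (map_subtype_le _).trans (sigmaCore_le M)
  set Y := X.map (MulAut.conj (m : G)).toMonoidHom with hY
  have hYP : Y ≤ P₀ := by
    rintro _ ⟨x, hx, rfl⟩
    refine ⟨m * ⟨x, hXN hx⟩ * m⁻¹, ?_, by simp⟩
    show _ ∈ (P : Subgroup (sigmaCore M))
    rw [← hm, Sylow.coe_subgroup_smul, Subgroup.mem_pointwise_smul_iff_inv_smul_mem]
    simpa [mul_assoc] using hT (show (⟨x, hXN hx⟩ : (sigmaCore M)) ∈ X.subgroupOf (sigmaCore M) from hx)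
  have hYc : Nat.card Y = p := (BGSigma.card_map_conj X _).trans hX
  have hcase' : p ∈ beta M ∨ Y ≤ ⁅(S : Subgroup G), (S : Subgroup G)⁆ := by
    refine or_iff_not_imp_left.2 fun hb => ?_
    have hXd := hcase.resolve_left hb
    refine le_trans (le_inf hYP ?_) (sylow_inf_derived_le hG h hM hpM.2.1 hb P)
    refine map_conj_le_iff.2 fun x hx => ?_
    exact (mem_normalizer_iff.1 ((OddLocal43.normalizes_commutator (A := (sigmaCore M)) (H := (sigmaCore M)) (K := (sigmaCore M))
      le_normalizer le_normalizer) m.2) x).1 (hXd hx)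
  refine ⟨?_, ?_, hSM⟩
  · have hu := cent_uniq_aux hG h hM S hSM hpM hYP hYc hcase'
    have := uniq_map_conj (a := (m : G)⁻¹) (M.inv_mem (sigmaCore_le M m.2)) hu
      fun L hL g => isCoatom_map_conj hL g
    rwa [map_conj_centralizer, map_conj_comp, inv_mul_cancel, map_conj_one] at this
  · rcases hcase' with hb | hd
    · have hr : ¬ PRankLE p 2 (S : Subgroup G) := fun hr =>
        hb.2.2.1 ((prankLE_iff_sylow S).2 hr)
      exact ⟨M, ⟨hM, hSM⟩, fun L hL => uniq_of_pgroup h.uniq hp.out hr hL.1 hM hL.2 hSM⟩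
    · refine inUniqueMaximal_of_nonabelian hG h S.isPGroup' fun hc => ?_
      have hY0 : Y = ⊥ := le_bot_iff.1 (hd.trans
        (commutator_eq_bot_iff_le_centralizer.2 (le_centralizer_self_of_comm hc)).le)
      rw [hY0, card_bot] at hYc
      exact hp.out.ne_one hYc.symm

end Cfsg.Agent.BGTwelve
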