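import Cfsg.Agent.BGTwelve.TauTwoCompl

/-!
# BG 12.15: a subgroup over the normalizer of a `q`-subgroup of `M`, `q ∈ σ(M)`
-/

set_option autoImplicit false

namespace Cfsg.Agent.BGTwelve

open Cfsg BGSigma Subgroup

universe u

variable {G : Type u} [Group G] [Finite G]

/-- The normalizer of a cyclic group normalizes each of its subgroups. -/
theorem normalizer_le_of_isCyclic {S X : Subgroup G} (hS : IsCyclic S) (hXS : X ≤ S) :
    normalizer (S : Set G) ≤ normalizer (X : Set G) := by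
  haveI := hS
  intro g hg
  obtain ⟨d, hd⟩ := MonoidHom.map_cyclic (normalizerMonoidHom S ⟨g, hg⟩).toMonoidHom
  have key : ∀ x ∈ X, g * x * g⁻¹ ∈ X := fun x hx => by
    have h := congrArg Subtype.val (hd ⟨x, hXS hx⟩)
    simp only [MulEquiv.coe_toMonoidHom, SubgroupClass.coe_zpow] at h
    rw [show g * x * g⁻¹ = x ^ d from h]
    exact X.zpow_mem hx d
  rw [mem_normalizer_iff_map_conj_eq]
  refine eq_of_le_of_card_ge ?_ (card_map_of_injective (MulAut.conj g).injective).ge
  rintro _ ⟨x, hx, rfl⟩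
  exact key x hx

/-- A Sylow subgroup of an intermediate group is one as soon as its normalizer stays there. -/
theorem not_dvd_relIndex_of_normalizer_inf_le {S H M : Subgroup G} {q : ℕ} [Fact q.Prime]
    (hS : IsPGroup q S) (hSM : S ≤ M) (hSH : ¬ q ∣ S.relIndex H)
    (hle : M ⊓ normalizer (S : Set G) ≤ H) : ¬ q ∣ S.relIndex M := by
  intro hd
  obtain ⟨Q, hQ, hlt, hQle⟩ := exists_lt_pgroup_normalizer hS hSM hd
  have h1 : q ∣ S.relIndex Q := by
    obtain ⟨j, hj⟩ := hQ.exists_card_eq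
    obtain ⟨i, -, hi⟩ := (Nat.dvd_prime_pow (Fact.out : q.Prime)).1 (hj ▸ relIndex_dvd_card S Q)
    rcases i with _ | i
    · rw [pow_zero, relIndex_eq_one] at hi
      exact absurd hi hlt.not_ge
    · exact hi ▸ dvd_pow_self q i.succ_ne_zero
  exact hSH (h1.trans ⟨Q.relIndex H, (relIndex_mul_relIndex _ _ _ hlt.le (hQle.trans hle)).symm⟩)

variable (hG : IsMinSimpleOddOrder G) (h : LocalInputs G) {M Ms X S : Subgroup G} {q : ℕ} [hq' : Fact q.Prime]
include hG h

/-- BG 12.15, first part: `M*` is not conjugate to `M`. -/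
theorem not_conj_of_normalizer_le (hM : IsCoatom M) (hq : q ∈ sigma M) (hXq : IsPGroup q X)
    (hX1 : X ≠ ⊥) (hXM : X ≤ M) (hne : Ms ≠ M) (hNX : normalizer (X : Set G) ≤ Ms) (g : G) :
    Ms ≠ M.map (MulAut.conj g).toMonoidHom := by
  intro heq
  have hXg : X.map (MulAut.conj g⁻¹).toMonoidHom ≤ M := by
    rintro _ ⟨x, hx, rfl⟩
    have hx' : x ∈ M.map (MulAut.conj g).toMonoidHom := heq ▸ hNX (le_normalizer hx)
    simpa using mem_map_conj.1 hx'
  obtain ⟨m, hm, c, hc, hg⟩ := (fusion_stmt hG h.uniq M hM q hq X hXq hX1 hXM).1 g⁻¹ hXg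
  have hg' : g = c⁻¹ * m⁻¹ := by rw [← inv_inv g, hg, mul_inv_rev]
  have hMc : Ms = M.map (MulAut.conj c⁻¹).toMonoidHom := by
    rw [heq, hg', ← map_conj_comp, map_conj_eq_self (le_normalizer (M.inv_mem hm))]
  have hcMs : c⁻¹ ∈ M.map (MulAut.conj c⁻¹).toMonoidHom :=
    hMc ▸ Ms.inv_mem (hNX (centralizer_le_normalizer _ hc))
  rw [mem_map_conj] at hcMs
  refine hne (hMc.trans (map_conj_eq_self (le_normalizer ?_)))
  simpa using hcMs

/-- BG 12.15: a Sylow `q`-subgroup `S ≥ X` of `M ∩ M*` is Sylow in `M*` and `N(S) ≤ M`. -/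
theorem sylow_inf_properties (hM : IsCoatom M) (hq : q ∈ sigma M) (hXS : X ≤ S)
    (hNX : normalizer (X : Set G) ≤ Ms) (hS : IsPGroup q S) (hSle : S ≤ M ⊓ Ms)
    (hSd : ¬ q ∣ S.relIndex (M ⊓ Ms)) :
    normalizer (S : Set G) ≤ M ∧ ¬ q ∣ S.relIndex Ms := by
  have hN : normalizer (S : Set G) ≤ M := by
    by_cases hc : IsCyclic S
    · have hNS := (normalizer_le_of_isCyclic hc hXS).trans hNX
      have hd : ¬ q ∣ S.index := by
        rw [← relIndex_mul_index (hSle.trans inf_le_left)]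
        exact fun hd => ((Nat.Prime.dvd_mul hq'.out).1 hd).elim
          (not_dvd_relIndex_of_normalizer_inf_le hS (hSle.trans inf_le_left) hSd
            (le_inf inf_le_left (inf_le_right.trans hNS)))
          (not_dvd_index_of_mem_sigma hq)
      exact normalizer_le_of_sylow_le hq (hS.toSylow hd) (hSle.trans inf_le_left)
    · exact normalizer_le_of_not_isCyclic hG h hM hq hS (hSle.trans inf_le_left) hc
  exact ⟨hN, not_dvd_relIndex_of_normalizer_inf_le hS (hSle.trans inf_le_right) hSd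
    (le_inf (inf_le_right.trans hN) inf_le_left)⟩

end Cfsg.Agent.BGTwelve
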