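import Cfsg.Agent.BGTwelve.SigmaSub
import Cfsg.Agent.BGTwelve.Uniqueness
import Cfsg.Agent.BGTwelve.Inputs
import Cfsg.Agent.BGSummary.Compl
import Cfsg.Agent.OddLocal43.MetacyclicAction
import Cfsg.Agent.Lib.Solvable.Basic

/-!
# BG 12.16: subgroups with primes in `σ(M)` are conjugate into `M_σ`
-/

set_option autoImplicit false

namespace Cfsg.Agent.BGTwelve

open Cfsg BGSigma Subgroup

universe u

variable {G : Type u} [Group G] [Finite G]

/-- Sylow subgroups of `L`, given as subgroups of `G`, are conjugate under `L`. -/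
theorem exists_conj_sylow {q : ℕ} [Fact q.Prime] {L S T : Subgroup G} (hS : IsPGroup q S)
    (hT : IsPGroup q T) (hSL : S ≤ L) (hTL : T ≤ L) (hSd : ¬ q ∣ S.relIndex L)
    (hTd : ¬ q ∣ T.relIndex L) : ∃ a ∈ L, T.map (MulAut.conj a).toMonoidHom = S := by
  let P : Sylow q L := (hS.comap_subtype (K := L)).toSylow hSd
  let Q : Sylow q L := (hT.comap_subtype (K := L)).toSylow hTd
  obtain ⟨a, ha⟩ := MulAction.exists_smul_eq L Q P
  refine ⟨a, a.2, ?_⟩
  have hcard : Nat.card T = Nat.card S := by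
    have h1 : Nat.card (Q : Subgroup L) = Nat.card (P : Subgroup L) := by
      rw [Sylow.card_eq_multiplicity Q, Sylow.card_eq_multiplicity P]
    rwa [show (Q : Subgroup L) = T.subgroupOf L from rfl,
      show (P : Subgroup L) = S.subgroupOf L from rfl,
      Nat.card_congr (subgroupOfEquivOfLe hTL).toEquiv,
      Nat.card_congr (subgroupOfEquivOfLe hSL).toEquiv] at h1
  refine eq_of_le_of_card_ge ?_ (by rw [card_map_conj, hcard])
  rintro _ ⟨t, ht, rfl⟩
  have h1 : a * ⟨t, hTL ht⟩ * a⁻¹ ∈ (P : Subgroup L) := by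
    rw [← ha, Sylow.coe_subgroup_smul, Subgroup.mem_pointwise_smul_iff_inv_smul_mem]
    simpa [mul_assoc] using (show (⟨t, hTL ht⟩ : L) ∈ (Q : Subgroup L) from ht)
  exact h1

/-- The index of `D` in `N ⊔ D` divides the order of `N`, for `D` normalizing `N`. -/
theorem relIndex_dvd_card_of_le_sup {L N D : Subgroup G} (hNL : N ≤ L) (hDL : D ≤ L)
    (hn : L ≤ normalizer (N : Set G)) (hsup : L ≤ N ⊔ D) : D.relIndex L ∣ Nat.card N := by
  haveI : (N.subgroupOf L).Normal := (normal_subgroupOf_iff_le_normalizer hNL).2 hn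
  have h1 : N.subgroupOf L ⊔ D.subgroupOf L = ⊤ := by
    rw [← subgroupOf_sup hNL hDL, subgroupOf_eq_top]; exact hsup
  have h2 : N.relIndex L = N.relIndex D := by
    rw [← relIndex_subgroupOf (H := N) (L := L) hDL,
      ← relIndex_sup_right (D.subgroupOf L) (N.subgroupOf L), sup_comm (D.subgroupOf L), h1, relIndex_top_right]
    rfl
  have h3 : Nat.card D * D.relIndex L = Nat.card N * N.relIndex L := by
    rw [mul_comm, relIndex_mul_card hDL, mul_comm, relIndex_mul_card hNL]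
  have h4 : N.relIndex D * Nat.card ↥(N ⊓ D) = Nat.card D := by
    rw [← inf_relIndex_right, relIndex_mul_card inf_le_right]
  refine ⟨Nat.card ↥(N ⊓ D), (Nat.eq_of_mul_eq_mul_right
    (Nat.pos_of_ne_zero (FiniteIndex.index_ne_zero : (N.subgroupOf D).index ≠ 0)) ?_)⟩
  change Nat.card N * N.relIndex D = _ * N.relIndex D
  rw [← h2, ← h3, mul_assoc, h2, mul_comm (Nat.card ↥(N ⊓ D)), h4, mul_comm]

variable {M : Subgroup G} (hG : IsMinSimpleOddOrder G) (h : LocalInputs G)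
include hG h

/-- A group `Y` of `L` with order prime to a normal `N` is conjugate into any `D` with `L = N D`. -/
theorem exists_conj_le_factor {L N D Y : Subgroup G} (hL : L ≠ ⊤) (hNL : N ≤ L) (hDL : D ≤ L)
    (hn : L ≤ normalizer (N : Set G)) (hsup : L ≤ N ⊔ D) (hYL : Y ≤ L)
    (hc : Nat.Coprime (Nat.card Y) (Nat.card N)) :
    ∃ g : G, Y.map (MulAut.conj g).toMonoidHom ≤ D := by
  set T := (N ⊔ Y) ⊓ D with hT
  have hNY : N ⊔ Y ≤ L := sup_le hNL hYL
  have hYn : Y ≤ normalizer (N : Set G) := hYL.trans hn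
  have hTN : N ⊓ T ≤ T := inf_le_right
  have hTn : T ≤ normalizer ((N ⊓ T : Subgroup G) : Set G) := fun x hx => by
    rw [mem_normalizer_iff_map_conj_eq, Subgroup.map_inf N T (MulAut.conj x : G →* G) (MulAut.conj x).injective,
      mem_normalizer_iff_map_conj_eq.1 (((inf_le_right.trans hDL).trans hn) hx),
      mem_normalizer_iff_map_conj_eq.1 (le_normalizer hx)]
  haveI : ((N ⊓ T).subgroupOf T).Normal := (normal_subgroupOf_iff_le_normalizer hTN).2 hTn
  have hNT : N ⊔ Y ≤ N ⊔ T := by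
    intro x hx
    obtain ⟨a, ha, d, hd, rfl⟩ := Coprime.exists_mul_of_mem_sup (hDL.trans hn) (hsup (hNY hx))
    exact mul_mem_sup ha ⟨(Subgroup.mul_mem_cancel_left _ (mem_sup_left ha)).1 hx, hd⟩
  have hidx : (N ⊓ T).relIndex T ∣ Nat.card Y := by
    haveI : (N.subgroupOf (N ⊔ Y)).Normal := (normal_subgroupOf_iff_le_normalizer le_sup_left).2
      (hNY.trans hn)
    rw [inf_relIndex_right, ← relIndex_subgroupOf (H := N) (L := N ⊔ Y) inf_le_left]
    refine (relIndex_dvd_index_of_normal (N.subgroupOf (N ⊔ Y)) (T.subgroupOf (N ⊔ Y))).trans ?_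
    rw [show (N.subgroupOf (N ⊔ Y)).index = N.relIndex (N ⊔ Y) from rfl]
    have : N.relIndex (N ⊔ Y) = N.relIndex Y := by
      have h1 := relIndex_sup_right (Y.subgroupOf (N ⊔ Y)) (N.subgroupOf (N ⊔ Y))
      rw [relIndex_subgroupOf le_sup_right] at h1
      rw [← h1, ← subgroupOf_sup le_sup_right le_sup_left, sup_comm Y N, subgroupOf_self, relIndex_top_right]
      rfl
    rw [this]
    exact relIndex_dvd_card N Y
  have hco : Nat.Coprime (Nat.card (N ⊓ T : Subgroup G)) ((N ⊓ T).relIndex T) :=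
    (Nat.Coprime.coprime_dvd_left (card_dvd_of_le inf_le_left) hc.symm).coprime_dvd_right hidx
  obtain ⟨E, hE⟩ := BGSummary.exists_complIn_of_hall hTN hTn hco
  have hET : E ≤ T := hE.2.1
  have hEc : Nat.card E ∣ Nat.card Y := by
    rw [← BGSummary.card_eq_of_complIn hE hTn]
    exact hidx
  have hYE : Y ≤ N ⊔ E := by
    refine (le_sup_right.trans hNT).trans (sup_le le_sup_left fun t ht => ?_)
    obtain ⟨a, ha, b, hb, rfl⟩ := hE.2.2.2 t ht
    exact mul_mem_sup ha.1 hb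
  haveI : Group.IsSolvable Y := isSolvable_of_ne_top hG fun h0 => hL (top_le_iff.1 (h0 ▸ hYL))
  obtain ⟨n, -, hn'⟩ := Coprime.exists_conj_le N Y E hYn ((hET.trans inf_le_left).trans (hNY.trans hn))
    hYE hc (hc.coprime_dvd_left hEc) (Or.inl inferInstance)
  exact ⟨n, map_conj_le_iff.2 fun y hy => (hET (hn' y hy)).2⟩

/-- If `M*` normalizes a Sylow `r`-subgroup of `G` with `r ∈ σ(M)`, it is conjugate to `M`. -/
theorem conj_of_sylow_normalized {Ms : Subgroup G} (hM : IsCoatom M) (hMs : IsCoatom Ms) {r : ℕ}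
    [Fact r.Prime] (hr : r ∈ sigma M) (R : Sylow r G)
    (hu : ∀ L : Subgroup G, IsCoatom L → (R : Subgroup G) ≤ L → normalizer ((R : Subgroup G) : Set G) ≤ L →
      L = Ms) : ∃ g : G, Ms = M.map (MulAut.conj g).toMonoidHom := by
  obtain ⟨Q, hQ⟩ := exists_sylow_of_mem_sigma hr
  obtain ⟨g, hg⟩ := MulAction.exists_smul_eq G Q R
  have hR : (R : Subgroup G) = (Q : Subgroup G).map (MulAut.conj g).toMonoidHom := by
    rw [← hg]; rfl
  refine ⟨g, (hu _ (isCoatom_map_conj hM g) (hR ▸ map_mono (le_normalizer.trans hQ)) ?_).symm⟩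
  rw [hR, normalizer_map_conj]
  exact map_mono hQ

/-- BG 12.16, the case `q ∈ σ(M*)` and the case `q ∉ σ(M*)`: `M* = N (M ∩ M*)`. -/
theorem exists_factor (hM : IsCoatom M) {Ms X S : Subgroup G} (hMs : IsCoatom Ms) {q : ℕ}
    [hq' : Fact q.Prime] (hq : q ∈ sigma M) (hne : ∀ g : G, Ms ≠ M.map (MulAut.conj g).toMonoidHom)
    (hX : IsCyclic X → Nat.card X = q) (hXS : X ≤ S) (hNX : normalizer (X : Set G) ≤ Ms)
    (hS : IsPGroup q S) (hSle : S ≤ M ⊓ Ms) (hSd : ¬ q ∣ S.relIndex (M ⊓ Ms)) :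
    ∃ N : Subgroup G, N ≤ Ms ∧ Ms ≤ normalizer (N : Set G) ∧ Ms ≤ N ⊔ (M ⊓ Ms) ∧
      ∀ r : ℕ, r.Prime → r ∣ Nat.card N → r ∉ sigma M := by
  have hne1 : Ms ≠ M := fun h0 => hne 1 (by rw [map_conj_one, h0])
  obtain ⟨hNS, hSMs⟩ := sylow_inf_properties hG h hM hq hXS hNX hS hSle hSd
  have hNS' : Ms ⊓ normalizer (S : Set G) ≤ M ⊓ Ms := le_inf (inf_le_right.trans hNS) inf_le_left
  by_cases hqs : q ∈ sigma Ms
  · -- `q ∈ σ(M*)`
    have hSdG : ¬ q ∣ S.index := by
      rw [← relIndex_mul_index (hSle.trans inf_le_right)]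
      exact fun hd => ((Nat.Prime.dvd_mul hq'.out).1 hd).elim hSMs (not_dvd_index_of_mem_sigma hqs)
    let SG : Sylow q G := hS.toSylow hSdG
    have hqb : q ∉ beta Ms := fun hb => hne1 (uniq_of_pgroup h.uniq hq'.out
      (R := (SG : Subgroup G)) (fun hr => hb.2.2.1 ((prankLE_iff_sylow SG).2 hr)) hMs hM
      (hSle.trans inf_le_right) (hSle.trans inf_le_left))
    obtain ⟨hbH, -, ⟨H, hH, hHn⟩, -, -⟩ := beta_core_stmt hG h.uniq h.plength h.narrow h.narrowSylow Ms hMs
    set B := piCoreOf (beta Ms) Ms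
    have hBn : Ms ≤ normalizer (B : Set G) := le_normalizer.trans (piCoreOf_normalized Ms)
    obtain ⟨hσH, -, hder⟩ := sigmaCore_hall hG h.uniq smallRankFrattini fittingRankTwoDerived hMs
    set D' := ⁅Ms, Ms⁆
    have hD'M : D' ≤ Ms := commutator_le_self Ms
    have hD'n : Ms ≤ normalizer (D' : Set G) := OddLocal43.normalizes_commutator le_normalizer le_normalizer
    have hSD : S ≤ D' := (le_of_normal_hall hσH (le_normalizer_sigmaCore Ms) (hSle.trans inf_le_right)
      (isPiSub_of_isPGroup hq'.out hS hqs)).trans hder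
    have hSdD : ¬ q ∣ S.relIndex D' := fun hd => hSMs (hd.trans
      ⟨_, (relIndex_mul_relIndex _ _ _ hSD hD'M).symm⟩)
    -- a Sylow subgroup `T` of `H` is one of `M*'`
    let T : Sylow q H := default
    set T₀ := (T : Subgroup H).map H.subtype
    have hT₀H : T₀ ≤ H := map_subtype_le _
    have hT₀d : ¬ q ∣ T₀.relIndex D' := by
      rw [← relIndex_mul_relIndex _ _ _ hT₀H hH.1]
      refine fun hd => ((Nat.Prime.dvd_mul hq'.out).1 hd).elim (fun hd' => T.not_dvd_index ?_)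
        (fun hd' => hH.2.2 q hq'.out ⟨hq'.out, hqb⟩ hd')
      rwa [relIndex, show T₀.subgroupOf H = (T : Subgroup H) from comap_map_eq_self_of_injective H.subtype_injective _] at hd'
    obtain ⟨a, ha, haT⟩ := exists_conj_sylow hS (T.isPGroup'.map H.subtype) hSD
      (hT₀H.trans hH.1) hSdD hT₀d
    haveI := hHn
    have hHN : H ≤ normalizer (T₀ : Set G) := fun x hx => (T : Subgroup H).le_normalizer_map H.subtype
      ⟨⟨x, hx⟩, by rw [normalizer_eq_top_iff.2 (Sylow.normal_of_normalizerCondition Group.normalizerCondition_of_isNilpotent T)]; trivial, rfl⟩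
    set H' := H.map (MulAut.conj a).toMonoidHom
    have hH'N : H' ≤ normalizer (S : Set G) := by
      rw [← haT, normalizer_map_conj]; exact map_mono hHN
    have hH'D : H' ≤ D' := map_conj_le_iff.2 fun x hx =>
      D'.mul_mem (D'.mul_mem ha (hH.1 hx)) (D'.inv_mem ha)
    have hD'W : D' ≤ B ⊔ (M ⊓ Ms) := by
      rw [← relIndex_eq_one]
      refine Nat.eq_one_of_dvd_coprimes (b := (B ⊔ (M ⊓ Ms)).relIndex D') ?_ dvd_rfl dvd_rfl
      refine Nat.coprime_of_dvd fun r hr h1 _ => ?_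
      by_cases hrb : r ∈ beta Ms
      · have h2 : B.relIndex D' ∣ B.relIndex Ms := by
          haveI : (B.subgroupOf Ms).Normal := (normal_subgroupOf_iff_le_normalizer hbH.1).2 hBn
          rw [← relIndex_subgroupOf (H := B) (L := Ms) hD'M]
          exact relIndex_dvd_index_of_normal _ _
        exact hbH.2.2 r hr hrb ((h1.trans (relIndex_dvd_of_le_left _ le_sup_left)).trans h2)
      · have h2 := h1.trans (relIndex_dvd_of_le_left D' (H := H')
          (le_sup_of_le_right (le_trans (le_inf (hH'D.trans hD'M) hH'N) hNS')))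
        rw [show H'.relIndex D' = H.relIndex D' by
          conv_lhs => rw [← map_conj_eq_self (le_normalizer ha : a ∈ normalizer (D' : Set G))]
          exact relIndex_map_map_of_injective _ _ (MulAut.conj a).injective] at h2
        exact hH.2.2 r hr ⟨hr, hrb⟩ h2
    refine ⟨B, hbH.1, hBn, fun m hm => ?_, fun r hr hd hrσ => ?_⟩
    · have hmS : S.map (MulAut.conj m).toMonoidHom ≤ D' := map_conj_le_iff.2 fun x hx =>
        (mem_normalizer_iff.1 (hD'n hm) x).1 (hSD hx)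
      have hmd : ¬ q ∣ (S.map (MulAut.conj m).toMonoidHom).relIndex D' := by
        conv => enter [1, 2, 2]; rw [← map_conj_eq_self (hD'n hm)]
        rwa [relIndex_map_map_of_injective _ _ (show Function.Injective (MulAut.conj m).toMonoidHom from (MulAut.conj m).injective)]
      obtain ⟨b, hb, hbS⟩ := exists_conj_sylow hS (hS.map _) hSD hmS hSdD hmd
      rw [map_conj_comp] at hbS
      have h1 : b * m ∈ B ⊔ (M ⊓ Ms) := mem_sup_right (hNS' ⟨Ms.mul_mem (hD'M hb) hm,
        mem_normalizer_iff_map_conj_eq.2 hbS⟩)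
      exact ((B ⊔ (M ⊓ Ms)).mul_mem_cancel_left (hD'W hb)).1 h1
    · haveI : Fact r.Prime := ⟨hr⟩
      have hrb : r ∈ beta Ms := hbH.2.1 r hr hd
      obtain ⟨R, hR⟩ := exists_sylow_of_mem_sigma (mem_sigma_of_mem_alpha hG h.uniq hMs hrb.1)
      obtain ⟨g, hg⟩ := conj_of_sylow_normalized hG h hM hMs hrσ R fun L hL hRL _ =>
        uniq_of_pgroup h.uniq hr (R := (R : Subgroup G))
          (fun hrk => hrb.2.2.1 ((prankLE_iff_sylow R).2 hrk)) hL hMs hRL (le_normalizer.trans hR)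
      exact hne g hg
  · -- `q ∉ σ(M*)`
    have hq2 : q ≠ 2 := ne_two_of_dvd hG (H := M) hq.2.1
    have hPr : ¬ IsCyclic S := by
      intro hc
      haveI := hc
      haveI : IsCyclic X := (subgroupOfEquivOfLe hXS).isCyclic.1 inferInstance
      obtain ⟨⟨-, hr1⟩, -, -⟩ := rank_two_of_normalizer_le hG h.uniq Ms hMs q hqs X (hX inferInstance) hNX
      haveI : IsCyclic (S.subgroupOf Ms) :=
        (subgroupOfEquivOfLe (hSle.trans inf_le_right)).isCyclic.2 inferInstance
      exact hr1 ((prankLE_iff_sylow ((hS.comap_subtype (K := Ms)).toSylow hSMs)).2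
        (@BGSummary.Loc.prankLE_one_of_cyclic _ _ _ (show IsCyclic (S.subgroupOf Ms) from inferInstance) _ hq'.out))
    obtain ⟨A, hAS, hAp, hAc⟩ := OddLocal43.exists_elementary_of_not_isCyclic hq2 hS hPr
    haveI hAcomm : IsMulCommutative A := IsPGroup.isMulCommutative_of_card_eq_prime_sq hAc
    have hAe : IsElementaryAbelian q A := ⟨hAcomm, hAp⟩
    have hτ : q ∈ tau2 Ms := ⟨hq'.out, hqs, not_sigma_rank_two hG h.uniq hMs hq'.out hqs, fun hr1 =>
      not_prankLE_of_elemAbelian hAe (hAS.trans (hSle.trans inf_le_right))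
        (by rw [hAc]; exact Nat.pow_lt_pow_right hq'.out.one_lt (by norm_num)) hr1⟩
    have hAnc : ¬ IsCyclic A := fun hc => by
      haveI := hc
      have hd : Nat.card A ∣ q := by
        rw [← IsCyclic.exponent_eq_card]
        exact Monoid.exponent_dvd_of_forall_pow_eq_one fun a => Subtype.ext (hAp a a.2)
      have := Nat.le_of_dvd hq'.out.pos hd
      rw [hAc] at this
      nlinarith [hq'.out.one_lt]
    have hNA : normalizer (A : Set G) ≤ M := normalizer_le_of_not_isCyclic hG h hM hq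
      (hS.to_le hAS) (hAS.trans (hSle.trans inf_le_left)) hAnc
    have hAM : A ≤ Ms := hAS.trans (hSle.trans inf_le_right)
    obtain ⟨E, hE⟩ := BGSummary.Loc.exists_compl hG hMs
    obtain ⟨m, hm, hmA⟩ := exists_conj_le_compl hG hMs hE hAM fun r hr hd => by
      obtain ⟨j, hj⟩ := (hS.to_le hAS).exists_card_eq
      rw [(Nat.prime_dvd_prime_iff_eq hr hq'.out).1 (hr.dvd_of_dvd_pow (hj ▸ hd))]; exact hqs
    set A' := A.map (MulAut.conj m).toMonoidHom with hA'
    have hA'E : A' ≤ E := map_conj_le_iff.2 hmA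
    have hEN : E ≤ normalizer (A' : Set G) := compl_le_normalizer_sq hG h hMs hE hτ ⟨hA'E,
      ⟨Subgroup.map_isMulCommutative _ _, by rintro _ ⟨a, ha, rfl⟩; rw [← map_pow, hAp a ha, map_one]⟩,
      (card_map_conj A m).trans hAc⟩
    obtain ⟨hnil, -, -⟩ := tau_two_stmt hG h Ms hMs hτ A ⟨hAM, hAe, hAc⟩
    refine ⟨sigmaCore Ms, sigmaCore_le Ms, le_normalizer_sigmaCore Ms, fun x hx => ?_, fun r hr hd hrσ => ?_⟩
    · obtain ⟨e, he, s, hs, rfl⟩ := hE.2.2.2 x hx
      set W := sigmaCore Ms ⊔ (M ⊓ Ms)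
      have hmW : m ∈ W := mem_sup_left hm
      have h1 : m⁻¹ * e * m ∈ M ⊓ Ms := by
        refine ⟨hNA ?_, Ms.mul_mem (Ms.mul_mem (Ms.inv_mem (sigmaCore_le Ms hm)) (hE.1 he)) (sigmaCore_le Ms hm)⟩
        have := hEN he
        rw [hA', normalizer_map_conj] at this
        simpa using mem_map_conj.1 this
      have h2 : e = m * (m⁻¹ * e * m) * m⁻¹ := by group
      exact W.mul_mem (h2 ▸ W.mul_mem (W.mul_mem hmW (mem_sup_right h1)) (W.inv_mem hmW)) (mem_sup_left hs)
    · haveI : Fact r.Prime := ⟨hr⟩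
      obtain ⟨R, hRσ, hRn, -⟩ := exists_normal_sylow hG h hMs (isPiSub_sigmaCore Ms r hr hd) hnil
      obtain ⟨g, hg⟩ := conj_of_sylow_normalized hG h hM hMs hrσ R fun L hL _ hNL =>
        ((hMs.le_iff.1 (hRn.trans hNL)).resolve_left hL.1)
      exact hne g hg

/-- BG 12.16. -/
theorem sigma_conj_stmt (hM : IsCoatom M) {Y : Subgroup G} (hY1 : Y ≠ ⊥)
    (hY : ∀ r : ℕ, r.Prime → r ∣ Nat.card Y → r ∈ sigma M) :
    ∃ g : G, Y.map (MulAut.conj g).toMonoidHom ≤ sigmaCore M := by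
  obtain ⟨hHall, hHallG, -⟩ := sigmaCore_hall hG h.uniq smallRankFrattini fittingRankTwoDerived hM
  -- it suffices to conjugate into `M`
  suffices ∃ g : G, Y.map (MulAut.conj g).toMonoidHom ≤ M by
    obtain ⟨g, hg⟩ := this
    exact ⟨g, le_of_normal_hall hHall (le_normalizer_sigmaCore M) hg
      fun r hr hd => hY r hr (card_map_conj Y g ▸ hd)⟩
  have hYt : Y ≠ ⊤ := by
    intro h0
    have hidx : (sigmaCore M).index = 1 := by
      refine Nat.eq_one_of_dvd_coprimes (Nat.coprime_of_dvd fun r hr h1 _ => ?_) dvd_rfl dvd_rfl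
      refine hHallG.2 r hr (hY r hr ?_) h1
      rw [h0, card_top]
      exact h1.trans (index_dvd_card _)
    exact hM.1 (top_le_iff.1 (index_eq_one.1 hidx ▸ sigmaCore_le M))
  haveI : Group.IsSolvable Y := isSolvable_of_ne_top hG hYt
  haveI : Nontrivial Y := (nontrivial_iff_ne_bot Y).2 hY1
  obtain ⟨X₀, q, hX₀n, hX₀1, -, hq, hX₀p, hX₀c, hX₀e, d, hd0, hX₀card⟩ :=
    Solvable.exists_minimal_normal_elementary Y
  haveI : Fact q.Prime := ⟨hq⟩
  have hqσ : q ∈ sigma M := hY q hq ((dvd_pow_self q hd0.ne').trans (hX₀card ▸ card_subgroup_dvd_card X₀))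
  set X₁ := X₀.map Y.subtype with hX₁
  obtain ⟨g₀, hg₀⟩ := exists_conj_ge_of_isPGroup hqσ (hX₀p.map Y.subtype)
  set X := X₁.map (MulAut.conj g₀⁻¹).toMonoidHom with hXdef
  set Y₁ := Y.map (MulAut.conj g₀⁻¹).toMonoidHom with hY₁
  suffices ∃ g : G, Y₁.map (MulAut.conj g).toMonoidHom ≤ M by
    obtain ⟨g, hg⟩ := this
    exact ⟨g * g₀⁻¹, by rwa [hY₁, map_conj_comp] at hg⟩
  have hXM : X ≤ M := map_conj_le_iff.2 fun x hx => by simpa using mem_map_conj.1 (hg₀ hx)
  have hYN : Y₁ ≤ normalizer (X : Set G) := by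
    rw [hXdef, normalizer_map_conj]
    exact map_mono fun y hy => X₀.le_normalizer_map Y.subtype
      ⟨⟨y, hy⟩, by rw [normalizer_eq_top_iff.2 hX₀n]; trivial, rfl⟩
  by_cases hNM : normalizer (X : Set G) ≤ M
  · exact ⟨1, by rw [map_conj_one]; exact hYN.trans hNM⟩
  have hX1 : X ≠ ⊥ := fun h0 => hX₀1 ((map_eq_bot_iff_of_injective _ Y.subtype_injective).1
    ((map_eq_bot_iff_of_injective _ (show Function.Injective (MulAut.conj g₀⁻¹).toMonoidHom from (MulAut.conj g₀⁻¹).injective)).1 h0))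
  have hXt : X ≠ ⊤ := fun h0 => hM.1 (top_le_iff.1 (h0 ▸ hXM))
  have hXp : IsPGroup q X := (hX₀p.map _).map _
  have hNt : normalizer (X : Set G) ≠ ⊤ := by
    exact normalizer_ne_top hG hX1 hXt
  obtain ⟨Ms, hMs, hNMs⟩ := exists_coatom_ge hG hNt
  have hne1 : Ms ≠ M := fun h0 => hNM (h0 ▸ hNMs)
  have hne := not_conj_of_normalizer_le hG h hM hqσ hXp hX1 hXM hne1 hNMs
  have hXD : X ≤ M ⊓ Ms := le_inf hXM (le_normalizer.trans hNMs)
  obtain ⟨T, hT⟩ := (hXp.comap_subtype (K := M ⊓ Ms)).exists_le_sylow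
  set S := (T : Subgroup ↥(M ⊓ Ms)).map (M ⊓ Ms).subtype with hSdef
  have hXS : X ≤ S := fun x hx => ⟨⟨x, hXD hx⟩, hT hx, rfl⟩
  have hSd : ¬ q ∣ S.relIndex (M ⊓ Ms) := by
    rw [relIndex, hSdef, show ((T : Subgroup ↥(M ⊓ Ms)).map (M ⊓ Ms).subtype).subgroupOf (M ⊓ Ms) = (T : Subgroup ↥(M ⊓ Ms)) from
      comap_map_eq_self_of_injective (M ⊓ Ms).subtype_injective _]
    exact T.not_dvd_index
  have hXcyc : IsCyclic X → Nat.card X = q := fun hc => by
    haveI := hc
    have hd : Nat.card X ∣ q := by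
      rw [← IsCyclic.exponent_eq_card]
      refine Monoid.exponent_dvd_of_forall_pow_eq_one fun a => Subtype.ext ?_
      obtain ⟨_, ⟨b, hb, rfl⟩, hba⟩ := a.2
      show (a : G) ^ q = 1
      rw [← hba, ← map_pow, ← map_pow, hX₀e b hb, map_one, map_one]
    exact (hq.eq_one_or_self_of_dvd _ hd).resolve_left fun h1 => hX1 (eq_bot_of_card_eq _ h1)
  obtain ⟨N, hN, hNn, hsup, hNσ⟩ := exists_factor hG h hM hMs hqσ hne hXcyc hXS hNMs
    (T.isPGroup'.map _) (map_subtype_le _) hSd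
  obtain ⟨g, hg⟩ := exists_conj_le_factor hG h hMs.1 hN inf_le_right hNn hsup (hYN.trans hNMs)
    (Nat.coprime_of_dvd fun r hr h1 h2 => hNσ r hr h2 (hY r hr (card_map_conj Y g₀⁻¹ ▸ h1)))
  exact ⟨g, hg.trans inf_le_left⟩

end Cfsg.Agent.BGTwelve
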