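import Cfsg.Agent.BGTwelve.CentUniq
import Cfsg.Agent.BGTwelve.Inputs

/-!
# BG 12.17: `M_σ ∩ C(E)`, `[M_σ, E]`, and `M_σ ∩ M^g`
-/

set_option autoImplicit false

namespace Cfsg.Agent.BGTwelve

open Cfsg BGSigma Subgroup
open scoped commutatorElement

universe u

variable {G : Type u} [Group G] [Finite G]

theorem normalizes_sup {A H K : Subgroup G} (hH : A ≤ normalizer (H : Set G))
    (hK : A ≤ normalizer (K : Set G)) : A ≤ normalizer ((H ⊔ K : Subgroup G) : Set G) := fun a ha => by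
  rw [mem_normalizer_iff_map_conj_eq, Subgroup.map_sup, mem_normalizer_iff_map_conj_eq.mp (hH ha),
    mem_normalizer_iff_map_conj_eq.mp (hK ha)]

/-- Coprime action: if `[N, E] = N` then the fixed points of `E` in `N` lie in `N'`. -/
theorem inf_centralizer_le_derived {N E : Subgroup G} (hn : E ≤ normalizer (N : Set G))
    (hc : Nat.Coprime (Nat.card E) (Nat.card N)) (hNE : N ≤ ⁅N, E⁆) :
    N ⊓ centralizer (E : Set G) ≤ ⁅N, N⁆ := by
  classical
  haveI := Fintype.ofFinite E
  have hmem : ∀ e : E, ∀ y : N, (e : G) * (y : G) * (e : G)⁻¹ ∈ N := fun e y =>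
    (mem_normalizer_iff.1 (hn e.2) y).1 y.2
  let φ : N →* Abelianization N :=
    { toFun := fun y => ∏ e : E, Abelianization.of (⟨_, hmem e y⟩ : N)
      map_one' := Finset.prod_eq_one fun e _ => by
        rw [show (⟨_, hmem e 1⟩ : N) = 1 from Subtype.ext (by simp), map_one]
      map_mul' := fun a b => by
        rw [← Finset.prod_mul_distrib]
        refine Finset.prod_congr rfl fun e _ => ?_
        rw [← map_mul]
        congr 1
        exact Subtype.ext (by simp [mul_assoc]) }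
  have hinv : ∀ e₀ : E, ∀ y : N, φ ⟨_, hmem e₀ y⟩ = φ y := fun e₀ y => by
    refine Fintype.prod_equiv (Equiv.mulRight e₀) _ _ fun e => ?_
    congr 1
    exact Subtype.ext (by simp [mul_assoc])
  have hker : ⁅N, E⁆ ≤ φ.ker.map N.subtype := by
    rw [commutator_le]
    intro y hy e he
    have hyy := hmem ⟨e, he⟩ (⟨y, hy⟩⁻¹ : N)
    refine ⟨⟨y, hy⟩ * ⟨_, hyy⟩, ?_, by simp [commutatorElement_def, mul_assoc]⟩
    show φ _ = 1
    rw [map_mul, hinv ⟨e, he⟩, map_inv, mul_inv_cancel]
  rintro x ⟨hxN, hxC⟩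
  obtain ⟨x', hx', hxe⟩ := hker (hNE hxN)
  obtain rfl : x' = ⟨x, hxN⟩ := Subtype.ext hxe
  have h1 : (Abelianization.of (⟨x, hxN⟩ : N)) ^ Nat.card E = 1 := by
    rw [← hx', Nat.card_eq_fintype_card, ← Finset.card_univ, ← Finset.prod_const]
    refine (Finset.prod_congr rfl fun e _ => ?_).symm
    congr 1
    refine Subtype.ext ?_
    show (e : G) * x * (e : G)⁻¹ = x
    rw [mem_centralizer_iff.1 hxC e e.2, mul_inv_cancel_right]
  have h2 : (Abelianization.of (⟨x, hxN⟩ : N)) ^ Nat.card N = 1 := by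
    rw [← map_pow, pow_card_eq_one', map_one]
  have h3 : Abelianization.of (⟨x, hxN⟩ : N) = 1 := by
    rw [← orderOf_eq_one_iff]
    exact Nat.eq_one_of_dvd_coprimes hc (orderOf_dvd_of_pow_eq_one h1) (orderOf_dvd_of_pow_eq_one h2)
  rw [← map_subtype_commutator]
  exact ⟨⟨x, hxN⟩, (QuotientGroup.eq_one_iff _).1 h3, rfl⟩

/-- The derived group of `E ⊔ N` for `E` normalizing `N`. -/
theorem derived_sup_le {E N : Subgroup G} (hn : E ≤ normalizer (N : Set G)) :
    ⁅E ⊔ N, E ⊔ N⁆ ≤ ⁅E, E⁆ ⊔ (⁅N, N⁆ ⊔ ⁅N, E⁆) := by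
  set W := ⁅N, N⁆ ⊔ ⁅N, E⁆
  set H := E ⊔ N with hH
  have hWN : W ≤ N := sup_le (commutator_le_self N)
    (Coprime.commutator_le_of_le_normalizer hn)
  have hWH : W ≤ H := hWN.trans le_sup_right
  have hHW : H ≤ normalizer (W : Set G) := sup_le
    (normalizes_sup (OddLocal43.normalizes_commutator hn hn)
      (OddLocal43.normalizes_commutator hn le_normalizer))
    (normalizes_sup (OddLocal43.normalizes_commutator le_normalizer le_normalizer)
      (Coprime.le_normalizer_commutator_left E N))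
  haveI : (W.subgroupOf H).Normal := (normal_subgroupOf_iff_le_normalizer hWH).2 hHW
  set π := QuotientGroup.mk' (W.subgroupOf H) with hπ
  have hcomm : ∀ a b : H, ⁅(a : G), (b : G)⁆ ∈ W → Commute (π a) (π b) := fun a b hab => by
    rw [← commutatorElement_eq_one_iff_commute, ← map_commutatorElement]
    exact (QuotientGroup.eq_one_iff _).2 hab
  rw [commutator_le]
  intro x hx y hy
  rw [hH, sup_comm] at hx hy
  obtain ⟨s, hs, e, he, rfl⟩ := Coprime.exists_mul_of_mem_sup hn hx
  obtain ⟨t, ht, f, hf, rfl⟩ := Coprime.exists_mul_of_mem_sup hn hy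
  set s' : H := ⟨s, mem_sup_right hs⟩
  set t' : H := ⟨t, mem_sup_right ht⟩
  set e' : H := ⟨e, mem_sup_left he⟩
  set f' : H := ⟨f, mem_sup_left hf⟩
  have hst : Commute (π s') (π t') := hcomm _ _ (mem_sup_left (commutator_mem_commutator hs ht))
  have hsf : Commute (π s') (π f') := hcomm _ _ (mem_sup_right (commutator_mem_commutator hs hf))
  have het : Commute (π e') (π t') :=
    (hcomm _ _ (mem_sup_right (commutator_mem_commutator ht he))).symm
  have hse : Commute (π s') (π e') := hcomm _ _ (mem_sup_right (commutator_mem_commutator hs he))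
  have htf : Commute (π t') (π f') := hcomm _ _ (mem_sup_right (commutator_mem_commutator ht hf))
  have h1 : π ⁅s' * e', t' * f'⁆ = π ⁅e', f'⁆ := by
    rw [map_commutatorElement, map_commutatorElement, map_mul, map_mul]
    have a1 : π s' * ⁅π e', π f'⁆ * (π s')⁻¹ = ⁅π e', π f'⁆ := by
      have : Commute (π s') ⁅π e', π f'⁆ :=
        ((hse.mul_right hsf).mul_right hse.inv_right).mul_right hsf.inv_right
      rw [this.eq, mul_inv_cancel_right]
    have a2 : ⁅π s', π t' * π f'⁆ = 1 :=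
      commutatorElement_eq_one_iff_commute.2 (hst.mul_right hsf)
    have a3 : ⁅π e', π t' * π f'⁆ = ⁅π e', π f'⁆ := by
      have c1 : ⁅π e', π t'⁆ = 1 := commutatorElement_eq_one_iff_commute.2 het
      have : Commute (π t') ⁅π e', π f'⁆ :=
        ((het.symm.mul_right htf).mul_right het.symm.inv_right).mul_right htf.inv_right
      calc ⁅π e', π t' * π f'⁆ = ⁅π e', π t'⁆ * (π t' * ⁅π e', π f'⁆ * (π t')⁻¹) := by
            simp only [commutatorElement_def]; group
        _ = _ := by rw [c1, one_mul, this.eq, mul_inv_cancel_right]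
    calc ⁅π s' * π e', π t' * π f'⁆
        = π s' * ⁅π e', π t' * π f'⁆ * (π s')⁻¹ * ⁅π s', π t' * π f'⁆ := by
          simp only [commutatorElement_def]; group
      _ = _ := by rw [a2, a3, mul_one, a1]
  have h2 : ⁅e, f⁆⁻¹ * ⁅s * e, t * f⁆ ∈ W :=
    mem_subgroupOf.1 ((QuotientGroup.eq).1 h1.symm)
  have := Subgroup.mul_mem_sup (commutator_mem_commutator he hf : ⁅e, f⁆ ∈ ⁅E, E⁆) h2
  rwa [mul_inv_cancel_left] at this

/-- BG 12.17, first two parts. -/
theorem sigma_derived_compl (hG : IsMinSimpleOddOrder G) {M E : Subgroup G} (hM : IsCoatom M)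
    (hE : IsComplIn E (sigmaCore M) M) :
    sigmaCore M ⊓ centralizer (E : Set G) ≤ ⁅sigmaCore M, sigmaCore M⁆ ∧
      ⁅sigmaCore M, E⁆ = sigmaCore M := by
  have h := localInputs hG
  obtain ⟨hHall, -, hder⟩ := sigmaCore_hall hG h.uniq smallRankFrattini fittingRankTwoDerived hM
  set N := sigmaCore M with hN
  have hn : E ≤ normalizer (N : Set G) := compl_le_normalizer hE
  have hle : ⁅N, E⁆ ≤ N := Coprime.commutator_le_of_le_normalizer hn
  have hgen : N ≤ ⁅N, N⁆ ⊔ ⁅N, E⁆ := by
    intro x hx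
    have h1 := derived_sup_le hn (by rw [compl_sup_eq hE]; exact hder hx)
    have hEn : ⁅E, E⁆ ≤ normalizer ((⁅N, N⁆ ⊔ ⁅N, E⁆ : Subgroup G) : Set G) :=
      (commutator_le_self E).trans (normalizes_sup
        (OddLocal43.normalizes_commutator hn hn)
        (OddLocal43.normalizes_commutator hn le_normalizer))
    rw [sup_comm] at h1
    obtain ⟨w, hw, e, he, rfl⟩ := Coprime.exists_mul_of_mem_sup hEn h1
    have hwN : w ∈ N := sup_le (commutator_le_self N) hle hw
    have : e ∈ E ⊓ N := ⟨commutator_le_self E he, (Subgroup.mul_mem_cancel_left N hwN).1 hx⟩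
    rw [hE.2.2.1, mem_bot] at this
    rwa [this, mul_one]
  have hNE : N ≤ ⁅N, E⁆ := by
    haveI : (⁅N, E⁆.subgroupOf N).Normal := (normal_subgroupOf_iff_le_normalizer hle).2
      (Coprime.le_normalizer_commutator_left E N)
    haveI : Group.IsSolvable N := isSolvable_of_ne_top hG
      fun h0 => hM.1 (top_le_iff.1 (h0 ▸ hE.2.1))
    set π := QuotientGroup.mk' (⁅N, E⁆.subgroupOf N)
    by_contra hlt
    haveI : Nontrivial (N ⧸ ⁅N, E⁆.subgroupOf N) := QuotientGroup.nontrivial_iff.2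
      fun h0 => hlt (subgroupOf_eq_top.1 h0)
    haveI : Group.IsSolvable (N ⧸ ⁅N, E⁆.subgroupOf N) :=
      Group.isSolvable_of_surjective (QuotientGroup.mk'_surjective (⁅N, E⁆.subgroupOf N))
    refine (IsSolvable.commutator_lt_top_of_nontrivial (N ⧸ ⁅N, E⁆.subgroupOf N)).ne ?_
    rw [eq_top_iff]
    intro q _
    obtain ⟨⟨x, hx⟩, rfl⟩ := QuotientGroup.mk'_surjective (⁅N, E⁆.subgroupOf N) q
    obtain ⟨w, hw, z, hz, hxz⟩ := Coprime.exists_mul_of_mem_sup
      ((commutator_le_self N).trans (Coprime.le_normalizer_commutator_left E N)) (sup_comm ⁅N, N⁆ ⁅N, E⁆ ▸ hgen hx)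
    rw [← map_subtype_commutator] at hz
    obtain ⟨z', hz', rfl⟩ := hz
    have hd : (QuotientGroup.mk' (⁅N, E⁆.subgroupOf N)) ⟨x, hx⟩ =
        QuotientGroup.mk' (⁅N, E⁆.subgroupOf N) z' := by
      rw [show (⟨x, hx⟩ : N) = ⟨w, hle hw⟩ * z' from Subtype.ext hxz, map_mul]
      exact mul_eq_right.2 ((QuotientGroup.eq_one_iff _).2 (mem_subgroupOf.2 hw))
    rw [hd, _root_.commutator_def]
    have h3 := mem_map_of_mem (QuotientGroup.mk' (⁅N, E⁆.subgroupOf N)) hz'
    rw [_root_.commutator_def, map_commutator] at h3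
    exact commutator_mono le_top le_top h3
  refine ⟨inf_centralizer_le_derived hn ?_ hNE, le_antisymm hle hNE⟩
  refine Nat.coprime_of_dvd fun q hq h1 h2 => not_mem_sigma_of_dvd hG hM hE hq h1 ?_
  exact hHall.2.1 q hq h2

/-- BG 12.17, third part. -/
theorem sigma_inter_conj (hG : IsMinSimpleOddOrder G) {M : Subgroup G} (hM : IsCoatom M) {g : G}
    (hg : g ∉ M) :
    IsCyclic ↥(sigmaCore M ⊓ M.map (MulAut.conj g).toMonoidHom) ∧
      (∀ p : ℕ, p.Prime → p ∣ Nat.card ↥(sigmaCore M ⊓ M.map (MulAut.conj g).toMonoidHom) →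
        p ∉ beta M) ∧
      sigmaCore M ⊓ M.map (MulAut.conj g).toMonoidHom ⊓ ⁅sigmaCore M, sigmaCore M⁆ = ⊥ := by
  have h := localInputs hG
  obtain ⟨hHall, -, -⟩ := sigmaCore_hall hG h.uniq smallRankFrattini fittingRankTwoDerived hM
  set N := sigmaCore M
  set X := N ⊓ M.map (MulAut.conj g).toMonoidHom
  -- a `p`-subgroup of `X` with centralizer in `M` is trivial
  have key : ∀ (p : ℕ), p.Prime → p ∈ sigma M → ∀ P : Subgroup G, IsPGroup p P → P ≤ X →
      centralizer (P : Set G) ≤ M → P = ⊥ := by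
    intro p hpp hps P hP hPX hC
    haveI : Fact p.Prime := ⟨hpp⟩
    by_contra hP1
    have hle : P.map (MulAut.conj g⁻¹).toMonoidHom ≤ M := by
      refine map_conj_le_iff.2 fun x hx => ?_
      obtain ⟨m, hm, hmx⟩ := (hPX hx).2
      simpa [← hmx, mul_assoc] using hm
    obtain ⟨m, hm, c, hc, hmc⟩ := (fusion_stmt hG h.uniq M hM p hps P hP hP1
      (hPX.trans (inf_le_left.trans (sigmaCore_le M)))).1 g⁻¹ hle
    exact hg (inv_mem_iff.1 (hmc ▸ M.mul_mem hm (hC hc)))
  have hσ : ∀ p : ℕ, p.Prime → p ∣ Nat.card X → p ∈ sigma M := fun p hpp hd =>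
    hHall.2.1 p hpp (hd.trans (card_dvd_of_le inf_le_left))
  have hord : ∀ p : ℕ, p.Prime → ∀ y ∈ X, orderOf y = p →
      p ∉ beta M ∧ y ∉ ⁅N, N⁆ := by
    intro p hpp y hy hyp
    haveI : Fact p.Prime := ⟨hpp⟩
    have hps := hσ p hpp (hyp ▸ orderOf_dvd_natCard X hy)
    rw [← not_or]
    intro hc
    have hYc : Nat.card (zpowers y) = p := (Nat.card_zpowers y).trans hyp
    have hu := cent_uniq_stmt hG h hM hps (zpowers_le.2 (sigmaCore_le M hy.1)) hYc
      (Classical.arbitrary _) (hc.imp id fun hy' => zpowers_le.2 hy')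
    have := key p hpp hps (zpowers y) (IsPGroup.of_card (n := 1) (by rw [hYc, pow_one]))
      (zpowers_le.2 hy) hu.1.1
    rw [zpowers_eq_bot] at this
    exact hpp.ne_one (by rw [← hyp, this, orderOf_one])
  have hderiv : X ⊓ ⁅N, N⁆ = ⊥ := by
    by_contra hne
    obtain ⟨p, hpp, hd⟩ := Nat.exists_prime_and_dvd
      (fun h1 => hne (eq_bot_of_card_eq _ h1))
    haveI : Fact p.Prime := ⟨hpp⟩
    obtain ⟨y, hy⟩ := exists_prime_orderOf_dvd_card' p hd
    exact (hord p hpp y y.2.1 (by rw [Subgroup.orderOf_coe, hy])).2 y.2.2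
  refine ⟨?_, fun p hpp hd => ?_, hderiv⟩
  · haveI : IsMulCommutative X := isMulCommutative_of_le_centralizer fun a ha => by
      refine mem_centralizer_iff.2 fun b hb => ?_
      have : ⁅b, a⁆ ∈ X ⊓ ⁅N, N⁆ := ⟨commutator_le_self X (commutator_mem_commutator hb ha),
        commutator_mem_commutator hb.1 ha.1⟩
      rw [hderiv, mem_bot] at this
      exact commutatorElement_eq_one_iff_mul_comm.1 this
    haveI : IsZGroup X := ⟨fun p hpp P => by
      haveI : Fact p.Prime := ⟨hpp⟩
      by_contra hnc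
      set P₀ := (P : Subgroup X).map X.subtype
      have hnc' : ¬ IsCyclic P₀ := fun hc => hnc
        ((equivMapOfInjective (P : Subgroup X) X.subtype X.subtype_injective).isCyclic.2 hc)
      have hP0 : (P : Subgroup X) ≠ ⊥ := fun h0 => hnc (h0 ▸ inferInstance)
      have hps : p ∈ sigma M := hσ p hpp (by
        obtain ⟨j, hj⟩ := P.isPGroup'.exists_card_eq
        rcases j with _ | j
        · exact absurd (eq_bot_of_card_eq _ (by rw [hj, pow_zero])) hP0
        · exact (dvd_pow_self p j.succ_ne_zero).trans (hj ▸ card_subgroup_dvd_card _))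
      have := key p hpp hps P₀ (P.isPGroup'.map _) (map_subtype_le _)
        ((centralizer_le_normalizer _).trans (normalizer_le_of_not_isCyclic hG h hM hps
          (P.isPGroup'.map _) ((map_subtype_le _).trans (inf_le_left.trans (sigmaCore_le M))) hnc'))
      exact hP0 ((map_eq_bot_iff_of_injective _ X.subtype_injective).1 this)⟩
    haveI : Group.IsNilpotent X := by
      letI : CommGroup X := { (inferInstance : Group X) with mul_comm := mul_comm' }
      infer_instance
    infer_instance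
  · haveI : Fact p.Prime := ⟨hpp⟩
    obtain ⟨y, hy⟩ := exists_prime_orderOf_dvd_card' p hd
    exact (hord p hpp y y.2 (by rw [Subgroup.orderOf_coe, hy])).1

end Cfsg.Agent.BGTwelve
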