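import Cfsg.Agent.BGTwelve.SigmaSub
import Cfsg.Agent.BGTwelve.Inputs
import Cfsg.Agent.BGUniq.FittingOf

/-!
# `F(M)` is `F(M_σ)` times a cyclic `τ₂(M)`-group
-/

set_option autoImplicit false

namespace Cfsg.Agent.BGTwelve

open Cfsg BGSigma Subgroup

universe u

variable {G : Type u} [Group G] [Finite G] (hG : IsMinSimpleOddOrder G) (h : LocalInputs G)
include hG h

/-- The `r`-part of `F(M)` for `r ∉ σ(M)` is cyclic, and then `r ∈ τ₂(M)` unless it is trivial. -/
theorem core_cyclic_of_not_sigma {M : Subgroup G} (hM : IsCoatom M) {r : ℕ} [hr : Fact r.Prime]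
    (hrs : r ∉ sigma M) :
    IsCyclic ↥(BGUniq.core r M) ∧ (BGUniq.core r M ≠ ⊥ → r ∈ tau2 M) := by
  set R := BGUniq.core r M
  have hRp : IsPGroup r R := BGUniq.isPGroup_core r M
  have hRM : R ≤ M := BGUniq.core_le r M
  have hRn : M ≤ normalizer (R : Set G) := BGUniq.le_normalizer_core r M
  have hcop : Nat.Coprime (Nat.card R) (Nat.card (sigmaCore M)) := by
    obtain ⟨j, hj⟩ := hRp.exists_card_eq
    rw [hj]
    exact ((Nat.Prime.coprime_iff_not_dvd hr.out).2 fun hd =>
      hrs (isPiSub_sigmaCore M r hr.out hd)).pow_left j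
  have hRN : R ≤ centralizer (sigmaCore M : Set G) := fun x hx => mem_centralizer_iff.2 fun y hy =>
    (BGUniq.mul_comm_of_normalized_coprime hRM (sigmaCore_le M) hRn (le_normalizer_sigmaCore M)
      hcop hx hy).symm
  have hRc : IsCyclic R := isCyclic_of_normal_centralizing hG h hM hrs hRM hRp hRn hRN
  refine ⟨hRc, fun hR1 => ?_⟩
  haveI : Nontrivial R := (nontrivial_iff_ne_bot R).2 hR1
  obtain ⟨x, hx⟩ := exists_prime_orderOf_dvd_card' r (show r ∣ Nat.card R by
    obtain ⟨j, hj⟩ := hRp.exists_card_eq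
    rcases j with _ | j
    · exact absurd (eq_bot_of_card_eq _ hj) hR1
    · exact hj ▸ dvd_pow_self r j.succ_ne_zero)
  have hXc : Nat.card (zpowers (x : G)) = r := by rw [Nat.card_zpowers, Subgroup.orderOf_coe, hx]
  have hX1 : zpowers (x : G) ≠ ⊥ := fun h0 => by rw [h0, card_bot] at hXc; exact hr.out.ne_one hXc.symm
  have hXM : zpowers (x : G) ≤ M := zpowers_le.2 (hRM x.2)
  obtain ⟨⟨hr2, hr1⟩, -, -⟩ := rank_two_of_normalizer_le hG h.uniq M hM r hrs _ hXc
    ((hM.le_iff.1 (hRn.trans (normalizer_le_of_isCyclic hRc (zpowers_le.2 x.2)))).resolve_left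
      (normalizer_ne_top hG hX1 fun h0 => hM.1 (top_le_iff.1 (h0 ▸ hXM)))).le
  exact ⟨hr.out, hrs, hr2, hr1⟩

theorem fitting_sigma_stmt {M : Subgroup G} (hM : IsCoatom M) :
    IsCyclic ↥(piCoreOf {q | q.Prime ∧ q ∉ sigma M} (fittingOf M)) ∧
      (∀ p : ℕ, p.Prime → p ∣ Nat.card ↥(piCoreOf {q | q.Prime ∧ q ∉ sigma M} (fittingOf M)) →
        p ∈ tau2 M) ∧
      fittingOf M = fittingOf (sigmaCore M) ⊔ piCoreOf {q | q.Prime ∧ q ∉ sigma M} (fittingOf M) := by
  set Y := piCoreOf {q | q.Prime ∧ q ∉ sigma M} (fittingOf M) with hY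
  have hYF : Y ≤ fittingOf M := piCoreOf_le _
  have hYp : IsPiSub {q | q.Prime ∧ q ∉ sigma M} Y := isPiSub_piCoreOf _
  -- `r`-subgroups of `Y` lie in the `r`-part
  have hcore : ∀ r : ℕ, r.Prime → ∀ P : Subgroup G, P ≤ Y → IsPGroup r P → P ≤ BGUniq.core r M :=
    fun r hr P hP hPp x hx => by
      haveI := Fact.mk hr
      obtain ⟨j, hj⟩ := IsPGroup.iff_orderOf.1 hPp ⟨x, hx⟩
      rw [Subgroup.orderOf_mk] at hj
      exact BGUniq.mem_core_of_mem_fittingOf (hYF (hP hx)) hj
  have hτ : ∀ r : ℕ, r.Prime → r ∣ Nat.card Y → r ∈ tau2 M := fun r hr hd => by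
    haveI := Fact.mk hr
    refine (core_cyclic_of_not_sigma hG h hM (hYp r hr hd).2).2 fun h0 => ?_
    obtain ⟨y, hy⟩ := exists_prime_orderOf_dvd_card' r hd
    have hmem := hcore r hr (zpowers (y : G)) (zpowers_le.2 y.2)
      (IsPGroup.of_card (n := 1) (by rw [Nat.card_zpowers, Subgroup.orderOf_coe, hy, pow_one]))
      (mem_zpowers (y : G))
    rw [h0, mem_bot] at hmem
    rw [← Subgroup.orderOf_coe, hmem, orderOf_one] at hy
    exact hr.ne_one hy.symm
  have hFn : Group.IsNilpotent (fittingOf M) := BGUniq.isNilpotent_fittingOf M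
  refine ⟨?_, hτ, le_antisymm (BGUniq.fittingOf_le_of_core_le fun r hr => ?_) (sup_le ?_ hYF)⟩
  · haveI : Group.IsNilpotent Y := Fitting.isNilpotent_of_le hFn hYF
    haveI : IsZGroup Y := ⟨fun q hq S => by
      haveI := Fact.mk hq
      by_cases hd : q ∣ Nat.card Y
      · haveI := (core_cyclic_of_not_sigma hG h hM (hYp q hq hd).2).1
        have hle := hcore q hq _ (map_subtype_le (S : Subgroup Y)) (S.isPGroup'.map _)
        exact (equivMapOfInjective (S : Subgroup Y) Y.subtype Y.subtype_injective).isCyclic.2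
          ((subgroupOfEquivOfLe hle).isCyclic.1 inferInstance)
      · have h1 : (S : Subgroup Y) = ⊥ := eq_bot_of_card_eq _ (by
          rw [Sylow.card_eq_multiplicity S, Nat.factorization_eq_zero_of_not_dvd hd, pow_zero])
        rw [h1]; exact isCyclic_of_subsingleton⟩
    infer_instance
  · haveI := Fact.mk hr
    set R := BGUniq.core r M
    have hRp : IsPGroup r R := BGUniq.isPGroup_core r M
    have hRM : R ≤ M := BGUniq.core_le r M
    have hRn : M ≤ normalizer (R : Set G) := BGUniq.le_normalizer_core r M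
    by_cases hrs : r ∈ sigma M
    · obtain ⟨hHall, -, -⟩ := sigmaCore_hall hG h.uniq smallRankFrattini fittingRankTwoDerived hM
      have hle : R ≤ sigmaCore M :=
        le_of_normal_hall hHall (le_normalizer_sigmaCore M) hRM (isPiSub_of_isPGroup hr hRp hrs)
      refine le_sup_of_le_left fun x hx => ⟨⟨x, hle hx⟩, ?_, rfl⟩
      haveI := hRp.isNilpotent
      exact le_sSup (show R.subgroupOf (sigmaCore M) ∈
        {N : Subgroup (sigmaCore M) | N.Normal ∧ Group.IsNilpotent N} from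
        ⟨(normal_subgroupOf_iff_le_normalizer hle).2 ((sigmaCore_le M).trans hRn),
          Group.nilpotent_of_mulEquiv (subgroupOfEquivOfLe hle).symm⟩) hx
    · exact le_sup_of_le_right (le_piCoreOf (BGUniq.core_le_fittingOf r M)
        ((BGUniq.fittingOf_le M).trans hRn) (isPiSub_of_isPGroup hr hRp ⟨hr, hrs⟩))
  · have hle : fittingOf (sigmaCore M) ≤ M := (BGUniq.fittingOf_le _).trans (sigmaCore_le M)
    haveI := BGUniq.isNilpotent_fittingOf (sigmaCore M)
    haveI : (fittingSubgroup (sigmaCore M)).Characteristic := inferInstance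
    intro x hx
    refine ⟨⟨x, hle hx⟩, ?_, rfl⟩
    exact le_sSup (show (fittingOf (sigmaCore M)).subgroupOf M ∈
      {N : Subgroup M | N.Normal ∧ Group.IsNilpotent N} from
      ⟨(normal_subgroupOf_iff_le_normalizer hle).2 ((le_normalizer_sigmaCore M).trans
        (OddLocal43.normalizes_map_characteristic (fittingSubgroup (sigmaCore M)))),
        Group.nilpotent_of_mulEquiv (subgroupOfEquivOfLe hle).symm⟩) hx

end Cfsg.Agent.BGTwelve
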