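import Cfsg.Agent.BGTwelve.Uniqueness
import Cfsg.Agent.BGTwelve.Inputs
import Cfsg.Agent.BGTwelve.NonabelianTauTwo
import Cfsg.Agent.BGTwelve.InvariantCyclic
import Cfsg.Agent.BGTwelve.SigmaConj
import Cfsg.Agent.OddLocal43.NilpotentAction
import Cfsg.Agent.Lib.Transfer.Focal
import Mathlib.GroupTheory.SemidirectProduct

/-!
# BG 12.12, the prime `p ∈ τ₂(M)` with abelian Sylow subgroups
-/

set_option autoImplicit false

namespace Cfsg.Agent.BGTwelve

open Cfsg BGSigma Subgroup
open scoped commutatorElement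

universe u

/-- A noncyclic abelian coprime group of automorphisms has a nontrivial element with a nontrivial
fixed point. -/
theorem exists_fixed_point {V : Type u} [Group V] [Finite V] [Nontrivial V] (Φ : Subgroup (MulAut V))
    [IsMulCommutative Φ] (hΦ : ¬ IsCyclic Φ) (hcop : (Nat.card Φ).Coprime (Nat.card V)) :
    ∃ φ ∈ Φ, φ ≠ 1 ∧ ∃ v : V, v ≠ 1 ∧ φ v = v := by
  by_contra hno
  push Not at hno
  let Γ := V ⋊[Φ.subtype] Φ
  haveI : Finite Γ := Finite.of_equiv _ SemidirectProduct.equivProd.symm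
  set P : Subgroup Γ := (SemidirectProduct.inr : Φ →* Γ).range with hP
  set K : Subgroup Γ := (SemidirectProduct.inl : V →* Γ).range with hK
  let e : Φ ≃* P := MonoidHom.ofInjective SemidirectProduct.inr_injective
  haveI : IsMulCommutative P := ⟨⟨fun a b => e.symm.injective (by
    rw [map_mul, map_mul]; exact mul_comm' _ _)⟩⟩
  have hKn : K.Normal := by
    rw [hK, SemidirectProduct.range_inl_eq_ker_rightHom]
    infer_instance
  have hle := Coprime.le_of_centralizer_le P K ⊥ (fun h => hΦ (e.isCyclic.2 h))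
    (by rw [normalizer_eq_top_iff.2 hKn]; exact le_top)
    (by rwa [← Nat.card_congr e.toEquiv, ← Nat.card_congr (MonoidHom.ofInjective
      (f := (SemidirectProduct.inl : V →* Γ)) SemidirectProduct.inl_injective).toEquiv])
    (fun g hg hg1 => by
      obtain ⟨φ, rfl⟩ := hg
      rintro _ ⟨⟨v, rfl⟩, hv⟩
      rw [mem_bot]
      by_contra hv1
      have hv' : v ≠ 1 := fun h0 => hv1 (by rw [h0, map_one])
      refine hno φ.1 φ.2 (fun h0 => hg1 (by rw [show φ = 1 from Subtype.ext h0, map_one])) v hv'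
        (SemidirectProduct.inl_injective (φ := Φ.subtype) ?_)
      rw [show φ.1 v = Φ.subtype φ v from rfl, SemidirectProduct.inl_aut,
        mem_centralizer_iff.1 hv (SemidirectProduct.inr φ) rfl, mul_assoc, ← map_mul,
        mul_inv_cancel, map_one, mul_one])
  obtain ⟨v, hv⟩ := exists_ne (1 : V)
  exact hv (SemidirectProduct.inl_injective (φ := Φ.subtype)
    ((mem_bot.1 (hle ⟨v, rfl⟩)).trans (map_one _).symm))

variable {G : Type u} [Group G] [Finite G] (hG : IsMinSimpleOddOrder G) (h : LocalInputs G)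
  {M E : Subgroup G}
include hG h

omit h in
/-- A prime divisor of `|E|` lies in `τ₂(M)`, or in `τ₁(M) ∪ τ₃(M)` and then the rank is one. -/
theorem tau_cases (hM : IsCoatom M) (hE : IsComplIn E (sigmaCore M) M) {r : ℕ} (hr : r.Prime)
    (hd : r ∣ Nat.card E) : r ∈ tau2 M ∨ (r ∈ tau1 M ∪ tau3 M ∧ PRankLE r 1 M) := by
  have hrs := not_mem_sigma_of_dvd hG hM hE hr hd
  have hrM : r ∣ Nat.card M := hd.trans (card_dvd_of_le hE.1)
  by_cases h1 : PRankLE r 1 M
  · refine Or.inr ⟨?_, h1⟩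
    by_cases hd' : r ∣ Nat.card ↥⁅M, M⁆
    · exact Or.inr ⟨hr, hrs, hd', h1⟩
    · exact Or.inl ⟨hr, hrs, hrM, hd', h1⟩
  · exact Or.inl ⟨hr, hrs, not_sigma_rank_two hG (uniquenessTheorem hG) hM hr hrs, h1⟩

variable {A : Subgroup G} {p : ℕ} [hp : Fact p.Prime]
  (hM : IsCoatom M) (hE : IsComplIn E (sigmaCore M) M) (hp2 : p ∈ tau2 M)
  (hA : A ≤ E ∧ IsElementaryAbelian p A ∧ Nat.card A = p ^ 2)
  (hab : ∀ r : ℕ, r ∈ tau2 M → ∃ S : Sylow r G, IsMulCommutative (S : Subgroup G))
include hM hE hp2 hA hab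

/-- BG 12.11: the Sylow subgroup `S ≤ E` is normal in `N(A)`, and `N(A)'` centralizes `A` and `S`. -/
theorem abelian_sylow_data :
    ∃ S : Sylow p G, A ≤ S ∧ (S : Subgroup G) ≤ E ∧ IsMulCommutative (S : Subgroup G) ∧
      normalizer (A : Set G) ≤ normalizer ((S : Subgroup G) : Set G) ∧
      ⁅normalizer (A : Set G), normalizer (A : Set G)⁆ ≤ centralizer (A : Set G) ⊓
        centralizer ((S : Subgroup G) : Set G) := by
  obtain ⟨S₀, hS₀⟩ := hab p hp2
  have hAp : IsPGroup p A := isPGroup_of_pow_eq_one hp.out hA.2.1.2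
  obtain ⟨S, hAS⟩ := hAp.exists_le_sylow
  haveI hSc : IsMulCommutative (S : Subgroup G) :=
    ⟨⟨fun a b => (Sylow.equiv S S₀).injective (by rw [map_mul, map_mul]; exact mul_comm' _ _)⟩⟩
  obtain ⟨⟨hEA, -⟩, ⟨hCA, hMN, -⟩, -⟩ := tau_two_compl_stmt hG h hM hE hp2 hA
  rw [hMN] at hCA
  have hSCA : (S : Subgroup G) ≤ centralizer (A : Set G) :=
    (le_centralizer_self_of_comm hSc).trans (centralizer_le hAS)
  have hSE : (S : Subgroup G) ≤ E := hSCA.trans hCA
  set N := normalizer (A : Set G) with hN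
  have hA1 : A ≠ ⊥ := fun h0 => by
    have := hA.2.2
    rw [h0, card_bot] at this
    exact absurd this.symm (Nat.one_lt_pow two_ne_zero hp.out.one_lt).ne'
  have hAM : A ≤ M := hA.1.trans hE.1
  have hNt : N ≠ ⊤ := normalizer_ne_top hG hA1 fun h0 => hM.1 (top_le_iff.1 (h0 ▸ hAM))
  have hSN : (S : Subgroup G) ≤ N := hSCA.trans (centralizer_le_normalizer _)
  -- the derived group of `N` is nilpotent
  have hnil : Group.IsNilpotent ↥⁅N, N⁆ := by
    have h1 := fittingRankTwoDerived (H := N) (isSolvable_of_ne_top hG hNt) (odd_card_subgroup hG N)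
      fun q hq => by
        haveI := Fact.mk hq
        by_cases hqp : q = p
        · subst hqp
          exact prankLE_of_injective ((N.subtype).comp (fittingSubgroup N).subtype)
            (N.subtype_injective.comp (fittingSubgroup N).subtype_injective)
            ((prankLE_iff_sylow S).2 (prankLE_subgroup hSE (prankLE_compl hG hM hE hq)))
        · have hcore : BGUniq.core q N ≤ E := by
            refine le_trans (fun x hx => mem_centralizer_iff.2 fun a ha => ?_) hCA
            refine BGUniq.mul_comm_of_normalized_coprime le_normalizer (BGUniq.core_le q N)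
              le_rfl (BGUniq.le_normalizer_core q N) ?_ ha hx
            obtain ⟨i, hi⟩ := (BGUniq.isPGroup_core q N).exists_card_eq
            rw [hA.2.2, hi]
            exact ((Nat.coprime_primes hp.out hq).2 (Ne.symm hqp)).pow 2 i
          intro B hBc hBp
          haveI := hBc
          set f := (N.subtype).comp (fittingSubgroup N).subtype with hf
          have hfi : Function.Injective f := N.subtype_injective.comp (fittingSubgroup N).subtype_injective
          have hle : B.map f ≤ BGUniq.core q N := by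
            rintro _ ⟨b, hb, rfl⟩
            obtain ⟨i, hi⟩ : ∃ i, orderOf (f b) = q ^ i := by
              obtain ⟨i, -, hi⟩ := (Nat.dvd_prime_pow hq).1
                ((orderOf_dvd_of_pow_eq_one (x := f b) (n := q) (by rw [← map_pow, hBp b hb, map_one])).trans
                  (dvd_of_eq (pow_one q).symm))
              exact ⟨i, hi⟩
            exact BGUniq.mem_core_of_mem_fittingOf ⟨b, b.2, rfl⟩ hi
          haveI := Subgroup.map_isMulCommutative B f
          have h2 := prankLE_compl hG hM hE hq (E := E) ((B.map f).subgroupOf E) inferInstance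
            (by
              rintro ⟨x, hx⟩ ⟨b, hb, hbx⟩
              refine Subtype.ext ?_
              show x ^ q = 1
              rw [← show f b = x from hbx, ← map_pow, hBp b hb, map_one])
          rwa [Nat.card_congr (subgroupOfEquivOfLe (hle.trans hcore)).toEquiv,
            card_map_of_injective hfi] at h2
    rw [← Subgroup.map_subtype_commutator N]
    haveI := h1
    exact Group.nilpotent_of_mulEquiv
      ((commutator N).equivMapOfInjective N.subtype N.subtype_injective)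
  -- `N(S) ≤ N(A)`
  have hNS : normalizer ((S : Subgroup G) : Set G) ≤ N := by
    refine Coprime.le_normalizer_of_conj_mem fun n hn a ha => ?_
    refine mem_sq_of_pow_eq_one hG h hM hE hp2 hA (hSE ((mem_normalizer_iff.1 hn a).1 (hAS ha))) ?_
    rw [← MulAut.conj_apply, ← map_pow, hA.2.1.2 a ha, map_one]
  -- transfer
  have hSD : (S : Subgroup G) ≤ ⁅N, N⁆ := by
    have h1 : (S : Subgroup G) ≤ (S : Subgroup G).focalSubgroup := by
      rw [← Subgroup.commutator_inf_eq_focalSubgroup S, commutator_eq_top hG, top_inf_eq]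
    refine (h1.trans (Transfer.focalSubgroup_le_of_control
      (K := normalizer ((S : Subgroup G) : Set G)) fun x hx y hy => ?_)).trans
      (commutator_mono hSN hNS)
    rintro ⟨g, rfl⟩
    obtain ⟨n, hn, hne⟩ := S.conj_eq_normalizer_conj_of_mem x g⁻¹ hx (by rw [inv_inv]; exact hy)
    exact ⟨n⁻¹, inv_mem hn, by simpa using hne.symm⟩
  set D := ⁅N, N⁆ with hD
  have hDn : N ≤ normalizer (D : Set G) := OddLocal43.normalizes_commutator le_normalizer le_normalizer
  let SD : Sylow p D := S.subtype hSD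
  haveI := hnil
  haveI hSDn : (SD : Subgroup D).Normal :=
    Sylow.normal_of_normalizerCondition Group.normalizerCondition_of_isNilpotent SD
  haveI := Sylow.characteristic_of_normal SD hSDn
  have hSmap : (SD : Subgroup D).map D.subtype = (S : Subgroup G) := by
    rw [Sylow.coe_subtype, subgroupOf_map_subtype, inf_eq_left.2 hSD]
  have hNnS : N ≤ normalizer ((S : Subgroup G) : Set G) := by
    have := hDn.trans (OddLocal43.normalizes_map_characteristic (SD : Subgroup D))
    rwa [hSmap] at this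
  refine ⟨S, hAS, hSE, hSc, hNnS, ?_⟩
  suffices hDS : D ≤ centralizer ((S : Subgroup G) : Set G) from
    le_inf (hDS.trans (centralizer_le hAS)) hDS
  refine le_of_sylow_le fun q hq _ => ?_
  haveI := Fact.mk hq
  let Q : Sylow q D := default
  refine ⟨Q, fun x hx => mem_centralizer_iff.2 fun y hy => ?_⟩
  haveI hQn : (Q : Subgroup D).Normal :=
    Sylow.normal_of_normalizerCondition Group.normalizerCondition_of_isNilpotent Q
  by_cases hqp : q = p
  · subst hqp
    have hQS : (Q : Subgroup D).map D.subtype ≤ (S : Subgroup G) := by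
      haveI := Sylow.unique_of_normal SD hSDn
      rw [← hSmap, Subsingleton.elim Q SD]
    exact congrArg Subtype.val (mul_comm' (⟨y, hy⟩ : (S : Subgroup G)) ⟨x, hQS hx⟩)
  · haveI := Sylow.characteristic_of_normal Q hQn
    refine BGUniq.mul_comm_of_normalized_coprime hSD (map_subtype_le _) ((commutator_le_self N).trans hNnS)
      (le_normalizer.trans (OddLocal43.normalizes_map_characteristic (Q : Subgroup D))) ?_ hy hx
    obtain ⟨i, hi⟩ := (Q.isPGroup'.map D.subtype).exists_card_eq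
    obtain ⟨j, hj⟩ := S.isPGroup'.exists_card_eq
    rw [hi, hj]
    exact ((Nat.coprime_primes hp.out hq).2 (Ne.symm hqp)).pow j i

omit hab in
/-- A line normalized by `N(A)` is semiregular on `M_σ`. -/
theorem line_good_of_normalizer {L : Subgroup G} (hLA : L ≤ A) (hLc : Nat.card L = p)
    (hn : normalizer (A : Set G) ≤ normalizer (L : Set G)) :
    sigmaCore M ⊓ centralizer (L : Set G) = ⊥ := by
  by_contra hne
  obtain ⟨-, ⟨-, -, hnM⟩, hbad⟩ := tau_two_compl_stmt hG h hM hE hp2 hA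
  obtain ⟨-, hu⟩ := hbad L hLA hLc hne
  have hL1 : L ≠ ⊥ := fun h0 => by rw [h0, card_bot] at hLc; exact hp.out.ne_one hLc.symm
  obtain ⟨L', hL', hle⟩ := exists_coatom_ge hG (normalizer_ne_top hG hL1
    fun h0 => hM.1 (top_le_iff.1 (h0 ▸ hLA.trans (hA.1.trans hE.1))))
  exact hnM ((hn.trans hle).trans (hu L' hL' ((centralizer_le_normalizer _).trans hle)).le)

variable (hfpf : ∀ e ∈ E, e ≠ 1 → (∀ r : ℕ, r.Prime → r ∣ orderOf e → r ∈ tau1 M ∪ tau3 M) →
  sigmaCore M ⊓ centralizer ({e} : Set G) = ⊥)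
include hfpf

/-- Some element of `E` fixing no line of `A` is impossible. -/
theorem no_irreducible_element {e : G} (he : e ∈ E)
    (hno : ∀ L : Subgroup G, L ≤ A → Nat.card L = p → e ∉ normalizer (L : Set G)) : False := by
  haveI := hA.2.1.1
  obtain ⟨S, hAS, hSE, hSc, hNS, hD⟩ := abelian_sylow_data hG h hM hE hp2 hA hab
  obtain ⟨⟨hEA, -⟩, ⟨hCA, hMN, -⟩, -⟩ := tau_two_compl_stmt hG h hM hE hp2 hA
  rw [hMN] at hCA
  have hAp : IsPGroup p A := isPGroup_of_pow_eq_one hp.out hA.2.1.2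
  -- fixed points are trivial or everything
  have hfix : ∀ u ∈ normalizer (A : Set G), u ∉ centralizer (A : Set G) →
      A ⊓ centralizer ({u} : Set G) = ⊥ := by
    intro u hu huA
    by_contra hne
    have hne' : A ⊓ centralizer ({u} : Set G) ≠ A := fun h1 => huA (mem_centralizer_iff.2 fun a ha =>
      (mem_centralizer_singleton_iff.1 (inf_eq_left.1 h1 ha)))
    refine hno _ inf_le_left (card_eq_prime_of_sq hA.2.2 inf_le_left hne hne') ?_
    refine Coprime.le_normalizer_of_conj_mem (A := zpowers e) (fun n hn a ha => ?_) (mem_zpowers e)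
    have hnA : n ∈ normalizer (A : Set G) := zpowers_le.2 (hEA he) hn
    refine ⟨(mem_normalizer_iff.1 hnA a).1 ha.1, mem_centralizer_singleton_iff.2 ?_⟩
    set c := ⁅u⁻¹, n⁻¹⁆ with hc
    have hcC : c ∈ centralizer (A : Set G) :=
      (hD (commutator_mem_commutator (inv_mem hu) (inv_mem hnA))).1
    have h1 : c * a = a * c := (mem_centralizer_iff.1 hcC a ha.1).symm
    have h2 : u * a = a * u := (mem_centralizer_singleton_iff.1 ha.2).symm
    have e1 : u * n = n * u * c := by rw [hc, commutatorElement_def]; group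
    calc n * a * n⁻¹ * u = n * a * (n⁻¹ * u) := by group
      _ = n * a * (u * c * n⁻¹) := by rw [hc, commutatorElement_def]; group
      _ = n * (a * u) * c * n⁻¹ := by group
      _ = n * u * (a * c) * n⁻¹ := by rw [← h2]; group
      _ = n * u * c * a * n⁻¹ := by rw [← h1]; group
      _ = u * (n * a * n⁻¹) := by rw [hc, commutatorElement_def]; group
  -- a `r`-element outside `C(A)`
  obtain ⟨r, hr, hrd, w, hwe, hwp, hwA⟩ : ∃ r : ℕ, r.Prime ∧ r ∣ Nat.card E ∧ ∃ w ∈ E,
      IsPGroup r (zpowers w) ∧ w ∉ centralizer (A : Set G) := by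
    by_contra hall
    push Not at hall
    have heA : e ∈ centralizer (A : Set G) := by
      refine le_of_sylow_le (N := zpowers e) (D := centralizer (A : Set G)) (fun q hq hd => ?_)
        (mem_zpowers e)
      haveI := Fact.mk hq
      let Q : Sylow q (zpowers e) := default
      refine ⟨Q, fun x hx => ?_⟩
      exact hall q hq (hd.trans (card_dvd_of_le (zpowers_le.2 he))) x
        ((map_subtype_le _).trans (zpowers_le.2 he) hx)
        ((Q.isPGroup'.map _).to_le (zpowers_le.2 hx))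
    obtain ⟨a, ha1⟩ : ∃ a, a ∈ A ∧ a ≠ 1 := (A.bot_or_exists_ne_one).resolve_left fun h0 => by
      have := hA.2.2
      rw [h0, card_bot] at this
      exact absurd this.symm (Nat.one_lt_pow two_ne_zero hp.out.one_lt).ne'
    refine hno (zpowers a) (zpowers_le.2 ha1.1)
      (by rw [Nat.card_zpowers]; exact orderOf_eq_prime (hA.2.1.2 a ha1.1) ha1.2)
      (centralizer_le_normalizer _ (centralizer_le (zpowers_le.2 ha1.1) heA))
  haveI := Fact.mk hr
  have hrp : r ≠ p := fun h0 => hwA (pgroup_le_centralizer_sq hG h hM hE hp2 hA (h0 ▸ hwp)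
    (zpowers_le.2 hwe) (mem_zpowers w))
  rcases tau_cases hG hM hE hr hrd with hr2 | ⟨hr13, hr1⟩
  · -- `r ∈ τ₂(M)`
    obtain ⟨B, hB⟩ := exists_sq_le_compl hG hM hE hr2
    obtain ⟨R, -, hRE, -, hNR, -⟩ := abelian_sylow_data (p := r) hG h hM hE hr2 hB hab
    have hEB : E ≤ normalizer (B : Set G) := compl_le_normalizer_sq hG h hM hE hr2 hB
    have hER : E ≤ normalizer ((R : Subgroup G) : Set G) := hEB.trans hNR
    have hwR : zpowers w ≤ (R : Subgroup G) := by
      have h1 : IsPGroup r ↥((R : Subgroup G) ⊔ zpowers w) :=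
        IsPGroup.to_sup_of_normal_left' R.isPGroup' hwp ((zpowers_le.2 hwe).trans hER)
      exact le_sup_right.trans (R.is_maximal' h1 le_sup_left).le
    refine hwA (mem_centralizer_iff.2 fun a ha => ?_)
    refine BGUniq.mul_comm_of_normalized_coprime hA.1 hRE hEA hER ?_ ha (hwR (mem_zpowers w))
    obtain ⟨i, hi⟩ := R.isPGroup'.exists_card_eq
    rw [hA.2.2, hi]
    exact ((Nat.coprime_primes hp.out hr).2 (Ne.symm hrp)).pow 2 i
  have hrs := not_mem_sigma_of_dvd hG hM hE hr hrd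
  have hps := hp2.2.1
  -- the subgroup of order `r` of `⟨w⟩`
  haveI : Nontrivial (zpowers w) := (nontrivial_iff_ne_bot _).2 fun h0 =>
    hwA (by rw [zpowers_eq_bot] at h0; rw [h0]; exact one_mem _)
  obtain ⟨y₀, hy₀⟩ := exists_prime_orderOf_dvd_card' r (show r ∣ Nat.card (zpowers w) by
    obtain ⟨j, hj⟩ := hwp.exists_card_eq
    rcases j with _ | j
    · exact absurd hj (by rw [pow_zero]; exact (Finite.one_lt_card (α := zpowers w)).ne')
    · exact hj ▸ dvd_pow_self r j.succ_ne_zero)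
  set y : G := (y₀ : G)
  have hyo : orderOf y = r := (Subgroup.orderOf_coe y₀).trans hy₀
  have hyE : y ∈ E := zpowers_le.2 hwe y₀.2
  have hy1 : y ≠ 1 := fun h0 => hr.ne_one (by rw [← hyo, h0, orderOf_one])
  have hygood : sigmaCore M ⊓ centralizer ({y} : Set G) = ⊥ := hfpf y hyE hy1 fun q hq hd => by
    rw [hyo] at hd; rwa [(Nat.prime_dvd_prime_iff_eq hq hr).1 hd]
  obtain ⟨hnil, -, -, hCMA, -, -⟩ := tau_two_stmt hG h M hM hp2 A ⟨hA.1.trans hE.1, hA.2⟩
  by_cases hyA : y ∉ centralizer (A : Set G)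
  · -- a Frobenius group acting fixed point freely
    have hR : Nat.card (zpowers y) = r := (Nat.card_zpowers y).trans hyo
    have hyn : zpowers y ≤ normalizer (A : Set G) := (zpowers_le.2 hyE).trans hEA
    have hfr : ∀ u ∈ zpowers y, u ≠ 1 → A ⊓ centralizer ({u} : Set G) = ⊥ := fun u hu hu1 =>
      hfix u (hyn hu) fun huA => hyA ((zpowers_eq_of_card_prime hR hu hu1).ge.trans
        (zpowers_le.2 huA) (mem_zpowers y))
    have hinf : A ⊓ zpowers y = ⊥ := by
      refine Subgroup.inf_eq_bot_of_coprime ?_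
      rw [hA.2.2, hR]
      exact ((Nat.coprime_primes hp.out hr).2 (Ne.symm hrp)).pow_left 2
    have hsupE : A ⊔ zpowers y ≤ E := sup_le hA.1 (zpowers_le.2 hyE)
    have hcard := (OddLocal43.frobenius_nilpotent_action A (zpowers y) (sigmaCore M) hyn hinf hfr hnil
      (Nat.Coprime.coprime_dvd_left (card_dvd_of_le hsupE) (Nat.coprime_of_dvd fun q hq h1 h2 =>
        not_mem_sigma_of_dvd hG hM hE hq h1 (isPiSub_sigmaCore M q hq h2)))
      (hA.1.trans (compl_le_normalizer hE)) ((zpowers_le.2 hyE).trans (compl_le_normalizer hE))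
      hCMA).1
    rw [centralizer_zpowers_eq, hygood, card_bot, one_pow] at hcard
    exact sigmaCore_ne_bot hG h.uniq smallRankFrattini fittingRankTwoDerived rankTwoLargestPrime hM
      (eq_bot_of_card_eq _ hcard)
  rw [not_not] at hyA
  have hYc : Nat.card (zpowers y) = r := (Nat.card_zpowers y).trans hyo
  have hY1 : zpowers y ≠ ⊥ := fun h0 => by rw [zpowers_eq_bot] at h0; exact hy1 h0
  obtain ⟨L, hL, hNL⟩ := exists_coatom_ge hG (normalizer_ne_top hG hY1
    fun h0 => hM.1 (top_le_iff.1 (h0 ▸ zpowers_le.2 (hE.1 hyE))))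
  have hLM : L ≠ M := fun h0 =>
    (rank_two_of_normalizer_le hG h.uniq M hM r hrs _ hYc (h0 ▸ hNL)).1.2 hr1
  have hwL : zpowers w ≤ L := by
    refine le_trans ?_ ((centralizer_le_normalizer (zpowers y : Set G)).trans hNL)
    refine (le_centralizer_self_of_comm inferInstance).trans (centralizer_le ?_)
    exact zpowers_le.2 y₀.2
  have hAL : A ≤ L := (Subgroup.le_centralizer_iff.1 (zpowers_le.2 hyA)).trans
    ((centralizer_le_normalizer _).trans hNL)
  have hwn : zpowers w ≤ normalizer (A : Set G) := (zpowers_le.2 hwe).trans hEA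
  have hwp' : ¬ p ∣ Nat.card (zpowers w) := fun hd => by
    obtain ⟨j, hj⟩ := hwp.exists_card_eq
    exact hrp ((Nat.prime_dvd_prime_iff_eq hp.out hr).1 (hp.out.dvd_of_dvd_pow (hj ▸ hd))).symm
  obtain ⟨hHall, -, hder⟩ := sigmaCore_hall hG h.uniq smallRankFrattini fittingRankTwoDerived hL
  have hLn := le_normalizer_sigmaCore L
  have hrsL : r ∉ sigma L := by
    intro hrsL
    have hw' : zpowers w ≤ sigmaCore L :=
      le_of_normal_hall hHall hLn hwL (isPiSub_of_isPGroup hr hwp hrsL)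
    refine hwA ?_
    by_cases hpsL : p ∈ sigma L
    · have hpb : p ∉ beta L := fun hb =>
        (not_ideal_of_rank_two hG h.uniq hM hp2.2.2.1 hp2.2.2.2).1 hb.2
      exact Subgroup.le_centralizer_iff.1 (le_centralizer_of_not_beta hG h hL hpb (hw'.trans hder)
        ((le_of_normal_hall hHall hLn hAL (isPiSub_of_isPGroup hp.out hAp hpsL)).trans hder) hwp'
        hAp hwn) (mem_zpowers w)
    · refine Subgroup.le_centralizer_iff.1 (commutator_eq_bot_iff_le_centralizer.1
        (le_bot_iff.1 ((le_inf (Subgroup.le_normalizer_iff_commutator_le_left.1 hwn)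
          ((commutator_mono le_rfl hw').trans (Subgroup.le_normalizer_iff_commutator_le_right.1
            (hAL.trans hLn)))).trans (le_of_eq (Subgroup.inf_eq_bot_of_coprime ?_))))) (mem_zpowers w)
      rw [hA.2.2]
      exact ((Nat.Prime.coprime_iff_not_dvd hp.out).2 fun hd =>
        hpsL (isPiSub_sigmaCore L p hp.out hd)).pow_left 2
  obtain ⟨⟨hLr2, hLr1⟩, -, -⟩ := rank_two_of_normalizer_le hG h.uniq L hL r hrsL _ hYc hNL
  have hrL : r ∈ tau2 L := ⟨hr, hrsL, hLr2, hLr1⟩
  obtain ⟨E', hE'⟩ := BGSummary.Loc.exists_compl hG hL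
  obtain ⟨B', hB'⟩ := exists_sq_le_compl hG hL hE' hrL
  -- an elementary `B` of order `r²` centralizing `w` and normalizing `A`
  obtain ⟨B, hBe, hBc, hBA, hwB⟩ : ∃ B : Subgroup G, IsElementaryAbelian r B ∧ Nat.card B = r ^ 2 ∧
      B ≤ normalizer (A : Set G) ∧ zpowers w ≤ centralizer (B : Set G) := by
    have back : ∀ (m : G) (W : Subgroup G), (W.map (MulAut.conj m).toMonoidHom).map
        (MulAut.conj m⁻¹).toMonoidHom = W := fun m W => by
      rw [map_conj_comp, inv_mul_cancel, map_conj_one]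
    have hwB' : ∀ m : G, (zpowers w).map (MulAut.conj m).toMonoidHom ≤ E' →
        zpowers w ≤ centralizer ((B'.map (MulAut.conj m⁻¹).toMonoidHom : Subgroup G) : Set G) := by
      intro m hm
      rw [map_conj_centralizer, ← back m (zpowers w)]
      exact map_mono (pgroup_le_centralizer_sq hG h hL hE' hrL hB' (hwp.map _) hm)
    have hel : ∀ m : G, IsElementaryAbelian r (B'.map (MulAut.conj m⁻¹).toMonoidHom) ∧
        Nat.card (B'.map (MulAut.conj m⁻¹).toMonoidHom) = r ^ 2 := fun m => by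
      haveI := hB'.2.1.1
      exact ⟨⟨Subgroup.map_isMulCommutative _ _, by
        rintro _ ⟨b, hb, rfl⟩; rw [← map_pow, hB'.2.1.2 b hb, map_one]⟩,
        (BGSigma.card_map_conj B' _).trans hB'.2.2⟩
    have hrσ : ∀ q : ℕ, q.Prime → q ∣ Nat.card (zpowers w) → q ∉ sigma L := fun q hq hd => by
      obtain ⟨j, hj⟩ := hwp.exists_card_eq
      rw [(Nat.prime_dvd_prime_iff_eq hq hr).1 (hq.dvd_of_dvd_pow (hj ▸ hd))]
      exact hrsL
    by_cases hpsL : p ∈ sigma L
    · obtain ⟨m, hm, hmw⟩ := exists_conj_le_compl hG hL hE' hwL hrσ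
      refine ⟨_, (hel m).1, (hel m).2, ?_, hwB' m (map_conj_le_iff.2 hmw)⟩
      have hBL : B'.map (MulAut.conj m⁻¹).toMonoidHom ≤ L := map_conj_le_iff.2 fun b hb =>
        L.mul_mem (L.mul_mem (L.inv_mem (sigmaCore_le L hm)) (hE'.1 (hB'.1 hb)))
          (L.inv_mem (L.inv_mem (sigmaCore_le L hm)))
      refine hBL.trans ?_
      obtain ⟨hnilL, -⟩ := tau_two_stmt hG h L hL hrL B' ⟨hB'.1.trans hE'.1, hB'.2⟩
      obtain ⟨Q, -, hQn, hQu⟩ := exists_normal_sylow hG h hL hpsL hnilL
      have hAQ : A ≤ (Q : Subgroup G) := hQu A hAL hAp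
      haveI hQc : IsMulCommutative (Q : Subgroup G) :=
        ⟨⟨fun a b => (Sylow.equiv Q S).injective (by rw [map_mul, map_mul]; exact mul_comm' _ _)⟩⟩
      have hQE : (Q : Subgroup G) ≤ E :=
        ((le_centralizer_self_of_comm hQc).trans (centralizer_le hAQ)).trans hCA
      refine Coprime.le_normalizer_of_conj_mem fun l hl a ha => ?_
      refine mem_sq_of_pow_eq_one hG h hM hE hp2 hA (hQE ((mem_normalizer_iff.1 (hQn hl) a).1 (hAQ ha))) ?_
      rw [← MulAut.conj_apply, ← map_pow, hA.2.1.2 a ha, map_one]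
    · have hAnc := not_isCyclic_sq hA.2.1 hA.2.2
      have hpL : p ∈ tau2 L := ⟨hp.out, hpsL, not_sigma_rank_two hG h.uniq hL hp.out hpsL, fun hr1' =>
        not_prankLE_of_elemAbelian hA.2.1 hAL (by rw [hA.2.2]; exact Nat.pow_lt_pow_right hp.out.one_lt (by norm_num)) hr1'⟩
      obtain ⟨m, -, hmw⟩ := exists_conj_le_compl hG hL hE' (sup_le hAL hwL) fun q hq hd => by
        have hcard := Thompson.card_sup_mul_card_inf hwn
        rw [Subgroup.inf_eq_bot_of_coprime ?_, card_bot, mul_one] at hcard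
        rw [hcard] at hd
        · rcases hq.dvd_mul.1 hd with hd | hd
          · rw [hA.2.2] at hd
            rwa [(Nat.prime_dvd_prime_iff_eq hq hp.out).1 (hq.dvd_of_dvd_pow hd)]
          · exact hrσ q hq hd
        · rw [hA.2.2]
          exact ((hp.out.coprime_iff_not_dvd).2 hwp').pow_left 2
      refine ⟨_, (hel m).1, (hel m).2, ?_, hwB' m (map_conj_le_iff.2 fun x hx => hmw x (mem_sup_right hx))⟩
      have hA'E : A.map (MulAut.conj m).toMonoidHom ≤ E' := map_conj_le_iff.2 fun x hx => hmw x (mem_sup_left hx)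
      have hn' : B' ≤ normalizer ((A.map (MulAut.conj m).toMonoidHom : Subgroup G) : Set G) :=
        hB'.1.trans (compl_le_normalizer_sq hG h hL hE' hpL ⟨hA'E, ⟨Subgroup.map_isMulCommutative _ _, by
          rintro _ ⟨b, hb, rfl⟩; rw [← map_pow, hA.2.1.2 b hb, map_one]⟩,
          (BGSigma.card_map_conj A _).trans hA.2.2⟩)
      rw [normalizer_map_conj] at hn'
      rw [← back m (normalizer (A : Set G))]
      exact map_mono hn'
  haveI := hBe.1
  -- a power of `w` of order `r` modulo `C(A)`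
  obtain ⟨w', hw'w, hw'A, hw'r⟩ : ∃ w' ∈ zpowers w, w' ∉ centralizer (A : Set G) ∧
      w' ^ r ∈ centralizer (A : Set G) := by
    obtain ⟨k, hk⟩ := hwp.exists_card_eq
    rw [Nat.card_zpowers] at hk
    have hex : ∃ n, w ^ r ^ n ∈ centralizer (A : Set G) :=
      ⟨k, by rw [← hk, pow_orderOf_eq_one]; exact one_mem _⟩
    obtain ⟨n, hn1, hn2⟩ : ∃ n, w ^ r ^ n ∉ centralizer (A : Set G) ∧
        w ^ r ^ (n + 1) ∈ centralizer (A : Set G) := by
      classical
      have h0 : Nat.find hex ≠ 0 := fun h0 => hwA (by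
        have := Nat.find_spec hex
        rwa [h0, pow_zero, pow_one] at this)
      refine ⟨Nat.find hex - 1, Nat.find_min hex (Nat.sub_lt (Nat.pos_of_ne_zero h0) one_pos), ?_⟩
      rw [Nat.sub_add_cancel (Nat.one_le_iff_ne_zero.2 h0)]
      exact Nat.find_spec hex
    exact ⟨_, pow_mem (mem_zpowers w) _, hn1, by rw [← pow_mul, ← pow_succ]; exact hn2⟩
  set W := B ⊔ zpowers w' with hW
  have hw'B : zpowers w' ≤ centralizer (B : Set G) := (zpowers_le.2 hw'w).trans hwB
  haveI hWc : IsMulCommutative W := isMulCommutative_sup hBe.1 inferInstance hw'B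
  have hWn : W ≤ normalizer (A : Set G) := sup_le hBA ((zpowers_le.2 hw'w).trans hwn)
  have hWr : ∀ x ∈ W, x ^ r ∈ centralizer (A : Set G) := fun x hx => by
    rw [hW, sup_comm] at hx
    obtain ⟨u, hu, b, hb, rfl⟩ := Coprime.exists_mul_of_mem_sup
      ((Subgroup.le_centralizer_iff.1 hw'B).trans (centralizer_le_normalizer _)) hx
    obtain ⟨i, rfl⟩ := hu
    rw [(show Commute (w' ^ i) b from (mem_centralizer_iff.1 (hw'B (zpow_mem_zpowers w' i)) b hb).symm).mul_pow,
      hBe.2 b hb, mul_one, ← zpow_natCast (w' ^ i), ← zpow_mul, mul_comm i, zpow_mul, zpow_natCast]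
    exact zpow_mem hw'r i
  set ψ : W →* MulAut A := (normalizerMonoidHom A).comp (inclusion hWn) with hψ
  have hψ1 : ∀ x : W, ψ x = 1 ↔ (x : G) ∈ centralizer (A : Set G) := fun x => by
    rw [← MonoidHom.mem_ker, hψ, ← MonoidHom.comap_ker, mem_comap, normalizerMonoidHom_ker,
      mem_subgroupOf]
    rfl
  haveI : IsMulCommutative ψ.range := ⟨⟨by
    rintro ⟨_, a, rfl⟩ ⟨_, b, rfl⟩
    exact Subtype.ext (by simp only [Subgroup.coe_mul, ← map_mul, mul_comm' a b])⟩⟩
  have hexp : ∀ φ : ψ.range, φ ^ r = 1 := by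
    rintro ⟨_, a, rfl⟩
    refine Subtype.ext ?_
    show (ψ a) ^ r = 1
    rw [← map_pow, hψ1]
    exact hWr a a.2
  have hcyc : IsCyclic ψ.range := by
    by_contra hnc
    haveI : Nontrivial A := (nontrivial_iff_ne_bot A).2 fun h0 => by
      have := hA.2.2
      rw [h0, card_bot] at this
      exact absurd this.symm (Nat.one_lt_pow two_ne_zero hp.out.one_lt).ne'
    obtain ⟨φ, hφ, hφ1, v, hv1, hv⟩ := exists_fixed_point ψ.range hnc (by
      rw [hA.2.2]
      refine (((Nat.Prime.coprime_iff_not_dvd hp.out).2 fun hd => ?_).pow_left 2).symm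
      obtain ⟨φ, hφ⟩ := exists_prime_orderOf_dvd_card' p hd
      exact hrp ((Nat.prime_dvd_prime_iff_eq hp.out hr).1 (hφ ▸ orderOf_dvd_of_pow_eq_one (hexp φ))).symm)
    obtain ⟨a, rfl⟩ := hφ
    have := hfix a (hWn a.2) (fun h0 => hφ1 ((hψ1 a).2 h0))
    refine hv1 (Subtype.ext (mem_bot.1 (this ▸ ⟨v.2, mem_centralizer_singleton_iff.2 ?_⟩)))
    have h2 : (a : G) * v * (a : G)⁻¹ = v := congrArg Subtype.val hv
    exact (mul_inv_eq_iff_eq_mul.1 h2).symm
  have hcard : Nat.card ψ.range ∣ r := by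
    rw [← IsCyclic.exponent_eq_card]
    exact Monoid.exponent_dvd_of_forall_pow_eq_one hexp
  set ω : ψ.range := ⟨ψ ⟨w', mem_sup_right (mem_zpowers w')⟩, _, rfl⟩
  have hω : ω ≠ 1 := fun h0 => hw'A ((hψ1 _).1 (congrArg Subtype.val h0))
  have hc : Nat.card ψ.range = r := (hr.eq_one_or_self_of_dvd _ hcard).resolve_left fun h1 =>
    hω ((Nat.card_eq_one_iff_unique.1 h1).1.elim _ _)
  refine not_prankLE_of_elemAbelian hBe (H := M) (k := 1) ?_ ?_ hr1
  · intro b hb
    obtain ⟨i, hi⟩ := (show (⟨ψ ⟨b, mem_sup_left hb⟩, _, rfl⟩ : ψ.range) ∈ zpowers ω from by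
      haveI : Fact r.Prime := ⟨hr⟩
      rw [zpowers_eq_top_of_prime_card hc hω]; trivial)
    have h1 : ψ (⟨b, mem_sup_left hb⟩ * (⟨w', mem_sup_right (mem_zpowers w')⟩ : W) ^ (-i)) = 1 := by
      rw [map_mul, map_zpow, zpow_neg, ← show (ω : MulAut A) ^ i = ψ ⟨b, mem_sup_left hb⟩ from
        congrArg Subtype.val hi]
      exact mul_inv_cancel _
    have h2 : b * w' ^ (-i) ∈ E := hCA ((hψ1 _).1 h1)
    exact hE.1 (by simpa using E.mul_mem h2 (E.zpow_mem (zpowers_le.2 hwe hw'w) i))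
  · rw [hBc]; exact Nat.pow_lt_pow_right hr.one_lt (by norm_num)

/-- An `E`-invariant semiregular line. -/
theorem exists_good_invariant_line :
    ∃ L : Subgroup G, L ≤ A ∧ Nat.card L = p ∧ E ≤ normalizer (L : Set G) ∧
      sigmaCore M ⊓ centralizer (L : Set G) = ⊥ := by
  by_cases hall : ∀ e ∈ E, ∀ L : Subgroup G, L ≤ A → Nat.card L = p → e ∈ normalizer (L : Set G)
  · obtain ⟨L, hLA, hLc, hLg⟩ :=
      (tau_two_stmt hG h M hM hp2 A ⟨hA.1.trans hE.1, hA.2⟩).2.2.2.2.2
    exact ⟨L, hLA, hLc, fun e he => hall e he L hLA hLc, hLg⟩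
  push Not at hall
  obtain ⟨e, he, L₀, hL₀A, hL₀c, hL₀n⟩ := hall
  by_cases hno : ∀ L : Subgroup G, L ≤ A → Nat.card L = p → e ∉ normalizer (L : Set G)
  · exact (no_irreducible_element hG h hM hE hp2 hA hab hfpf he hno).elim
  push Not at hno
  obtain ⟨L₁, hL₁A, hL₁c, hL₁n⟩ := hno
  obtain ⟨S, -, -, -, -, hD⟩ := abelian_sylow_data hG h hM hE hp2 hA hab
  obtain ⟨⟨hEA, -⟩, -, -⟩ := tau_two_compl_stmt hG h hM hE hp2 hA
  -- `N(A)` permutes the lines fixed by `e`, of which there are at most two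
  have hperm : ∀ n ∈ normalizer (A : Set G), ∀ L : Subgroup G, L ≤ A →
      e ∈ normalizer (L : Set G) → L.map (MulAut.conj n).toMonoidHom ≤ A ∧
        e ∈ normalizer ((L.map (MulAut.conj n).toMonoidHom : Subgroup G) : Set G) := by
    intro n hn L hLA heL
    refine ⟨map_conj_le_iff.2 fun x hx => (mem_normalizer_iff.1 hn x).1 (hLA hx), ?_⟩
    have hc : ⁅e⁻¹, n⁆ ∈ centralizer (L : Set G) := centralizer_le hLA
      ((hD (commutator_mem_commutator (inv_mem (hEA he)) hn)).1)
    rw [normalizer_map_conj, mem_map_conj]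
    have e1 : n⁻¹ * e * n = e * ⁅e⁻¹, n⁻¹⁆⁻¹⁻¹ := by rw [commutatorElement_def]; group
    have hc' : ⁅e⁻¹, n⁻¹⁆ ∈ centralizer (L : Set G) := centralizer_le hLA
      ((hD (commutator_mem_commutator (inv_mem (hEA he)) (inv_mem hn))).1)
    rw [e1, inv_inv]
    exact mul_mem heL (centralizer_le_normalizer _ hc')
  have hinv : normalizer (A : Set G) ≤ normalizer (L₁ : Set G) := by
    intro n hn
    rw [mem_normalizer_iff_map_conj_eq]
    by_contra hne
    set L₂ := L₁.map (MulAut.conj n).toMonoidHom with hL₂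
    set L₃ := L₂.map (MulAut.conj n).toMonoidHom with hL₃
    obtain ⟨h2A, h2e⟩ := hperm n hn L₁ hL₁A hL₁n
    obtain ⟨h3A, h3e⟩ := hperm n hn L₂ h2A h2e
    have h2c : Nat.card L₂ = p := (BGSigma.card_map_conj L₁ n).trans hL₁c
    have h3c : Nat.card L₃ = p := (BGSigma.card_map_conj L₂ n).trans h2c
    have h13 : L₁ ≠ L₃ := by
      intro h0
      have hsq : n ^ 2 ∈ normalizer (L₁ : Set G) := by
        rw [mem_normalizer_iff_map_conj_eq, pow_two]
        show L₁.map (MulAut.conj (n * n)).toMonoidHom = L₁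
        rw [← map_conj_comp]
        exact h0.symm
      obtain ⟨k, hk⟩ : Odd (orderOf n) := hG.1.of_dvd_nat (orderOf_dvd_natCard n)
      refine hne (mem_normalizer_iff_map_conj_eq.1 (?_ : n ∈ normalizer (L₁ : Set G)))
      have h1 : (n ^ 2) ^ (k + 1) = n := by
        rw [← pow_mul, show 2 * (k + 1) = orderOf n + 1 by omega, pow_succ, pow_orderOf_eq_one, one_mul]
      exact h1 ▸ pow_mem hsq (k + 1)
    have h23 : L₂ ≠ L₃ := fun h0 => hne
      (map_injective (f := (MulAut.conj n).toMonoidHom) (MulAut.conj n).injective h0.symm)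
    exact hL₀n (le_normalizer_of_three_lines hA.2.1 hA.2.2 hL₁A h2A h3A hL₀A hL₁c h2c h3c
      (Ne.symm hne) h13 h23 hL₁n h2e h3e)
  exact ⟨L₁, hL₁A, hL₁c, hEA.trans hinv, line_good_of_normalizer hG h hM hE hp2 hA hL₁A hL₁c hinv⟩

open scoped IsMulCommutative in
/-- An `E`-invariant semiregular cyclic subgroup of maximal order in `S`. -/
theorem exists_semiregular_cyclic :
    ∃ (S : Sylow p G) (T : Subgroup G), (S : Subgroup G) ≤ E ∧
      E ≤ normalizer ((S : Subgroup G) : Set G) ∧ IsMulCommutative (S : Subgroup G) ∧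
      T ≤ (S : Subgroup G) ∧ IsCyclic T ∧ E ≤ normalizer (T : Set G) ∧
      (∀ y ∈ (S : Subgroup G), orderOf y ∣ Nat.card T) ∧
      ∀ t ∈ T, t ≠ 1 → sigmaCore M ⊓ centralizer ({t} : Set G) = ⊥ := by
  obtain ⟨S, hAS, hSE, hSc, hNS, -⟩ := abelian_sylow_data hG h hM hE hp2 hA hab
  haveI := hSc
  obtain ⟨⟨hEA, -⟩, -, -⟩ := tau_two_compl_stmt hG h hM hE hp2 hA
  have hES := hEA.trans hNS
  have hSd : ¬ p ∣ (S : Subgroup G).relIndex E := fun hd => S.not_dvd_index
    (hd.trans ⟨E.index, (relIndex_mul_index hSE).symm⟩)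
  -- the exponent
  obtain ⟨k, -, hk⟩ : ∃ k, k ≤ (Nat.card (S : Subgroup G)) ∧
      Monoid.exponent (S : Subgroup G) = p ^ k := by
    obtain ⟨j, hj⟩ := S.isPGroup'.exists_card_eq
    obtain ⟨k, hkj, hk⟩ := (Nat.dvd_prime_pow hp.out).1 (hj ▸ Group.exponent_dvd_nat_card (G := (S : Subgroup G)))
    exact ⟨k, hkj.trans (hj ▸ (Nat.lt_pow_self hp.out.one_lt).le), hk⟩
  have hk0 : k ≠ 0 := by
    intro h0
    rw [h0, pow_zero, Monoid.exp_eq_one_iff] at hk
    have : A = ⊥ := (eq_bot_iff_forall _).2 fun a ha =>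
      congrArg Subtype.val (hk.elim (⟨a, hAS ha⟩ : (S : Subgroup G)) 1)
    have h2 := hA.2.2
    rw [this, card_bot] at h2
    exact absurd h2.symm (Nat.one_lt_pow two_ne_zero hp.out.one_lt).ne'
  obtain ⟨j, rfl⟩ := Nat.exists_eq_succ_of_ne_zero hk0
  set m := p ^ j with hm
  have hmp : ∀ a ∈ (S : Subgroup G), (a ^ p) ^ m = 1 := fun a ha => by
    have := Monoid.pow_exponent_eq_one (⟨a, ha⟩ : (S : Subgroup G))
    rw [hk, pow_succ', pow_mul] at this
    exact congrArg Subtype.val this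
  -- the image of `a ↦ a ^ m`
  set D : Subgroup G := ((powMonoidHom m : (S : Subgroup G) →* (S : Subgroup G)).range).map
    (S : Subgroup G).subtype with hD
  have hDA : D ≤ A := by
    rintro _ ⟨_, ⟨a, rfl⟩, rfl⟩
    refine mem_sq_of_pow_eq_one hG h hM hE hp2 hA (hSE ((S : Subgroup G).pow_mem a.2 m)) ?_
    show ((a : G) ^ m) ^ p = 1
    rw [← pow_mul, mul_comm, pow_mul]
    exact hmp a a.2
  have hDn : normalizer (A : Set G) ≤ normalizer (D : Set G) := by
    refine Coprime.le_normalizer_of_conj_mem fun n hn x hx => ?_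
    obtain ⟨_, ⟨a, rfl⟩, rfl⟩ := hx
    refine ⟨_, ⟨⟨n * a * n⁻¹, (mem_normalizer_iff.1 (hNS hn) _).1 a.2⟩, rfl⟩, ?_⟩
    show (n * (a : G) * n⁻¹) ^ m = n * (a : G) ^ m * n⁻¹
    exact conj_pow
  have hD1 : D ≠ ⊥ := fun h0 => by
    have h1 : Monoid.exponent (S : Subgroup G) ∣ m := Monoid.exponent_dvd_of_forall_pow_eq_one fun a =>
      Subtype.ext (mem_bot.1 (h0 ▸ (⟨_, ⟨a, rfl⟩, rfl⟩ : ((a : G) ^ m) ∈ D)))
    rw [hk] at h1
    exact absurd (Nat.le_of_dvd (pow_pos hp.out.pos j) h1)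
      (not_le.2 (Nat.pow_lt_pow_right hp.out.one_lt j.lt_succ_self))
  obtain ⟨L, hLD, hLA, hLc, hLn, hLg⟩ : ∃ L : Subgroup G, L ≤ D ∧ L ≤ A ∧ Nat.card L = p ∧
      E ≤ normalizer (L : Set G) ∧ sigmaCore M ⊓ centralizer (L : Set G) = ⊥ := by
    by_cases hDeq : D = A
    · obtain ⟨L, hLA, hLc, hLn, hLg⟩ := exists_good_invariant_line hG h hM hE hp2 hA hab hfpf
      exact ⟨L, hDeq ▸ hLA, hLA, hLc, hLn, hLg⟩
    · have hDc := card_eq_prime_of_sq hA.2.2 hDA hD1 hDeq
      exact ⟨D, le_rfl, hDA, hDc, hEA.trans hDn, line_good_of_normalizer hG h hM hE hp2 hA hDA hDc hDn⟩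
  obtain ⟨l, hl, hl1⟩ := (L.bot_or_exists_ne_one).resolve_left fun h0 => by
    rw [h0, card_bot] at hLc; exact hp.out.ne_one hLc.symm
  obtain ⟨_, ⟨a, rfl⟩, hal⟩ := hLD hl
  obtain ⟨T, hTS, hTc, hTn, hLT, hTcard⟩ := exists_invariant_cyclic hSE hES hSd
    (hLA.trans hAS) hLc hLn m j hm hmp ⟨a, a.2, (show (a : G) ^ m = l from hal) ▸ hl,
      fun h0 => hl1 ((show (a : G) ^ m = l from hal).symm.trans h0)⟩
  refine ⟨S, T, hSE, hES, hSc, hTS, hTc, hTn, fun y hy => ?_, fun t ht ht1 => ?_⟩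
  · rw [hTcard, mul_comm, ← pow_succ, ← hk, ← Subgroup.orderOf_mk y hy]
    exact Monoid.order_dvd_exponent _
  · haveI := hTc
    obtain ⟨i, hi, hio⟩ := (Nat.dvd_prime_pow hp.out).1 (show orderOf t ∣ p ^ (j + 1) by
      rw [pow_succ', ← hTcard]; exact Subgroup.orderOf_dvd_natCard T ht)
    have hi0 : i ≠ 0 := fun h0 => ht1 (orderOf_eq_one_iff.1 (by rw [hio, h0, pow_zero]))
    obtain ⟨i, rfl⟩ := Nat.exists_eq_succ_of_ne_zero hi0
    set t' := t ^ p ^ i
    have ht'o : orderOf t' = p := by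
      rw [orderOf_pow_of_dvd (pow_ne_zero _ hp.out.ne_zero) (hio ▸ pow_dvd_pow p i.le_succ), hio,
        Nat.pow_div i.le_succ hp.out.pos, show i + 1 - i = 1 by omega, pow_one]
    have hlo : orderOf l = p := (orderOf_eq_prime (hA.2.1.2 l (hLA hl)) hl1)
    have ht'L : t' ∈ L := zpowers_le.2 hl
      (mem_zpowers_of_cyclic (hLT hl) (T.pow_mem ht _) (by rw [ht'o, hlo]))
    refine le_bot_iff.1 (le_trans (inf_le_inf_left _ ?_) hLg.le)
    rw [← centralizer_zpowers_eq, ← zpowers_eq_of_card_prime hLc ht'L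
      (fun h0 => hp.out.ne_one (by rw [← ht'o, h0, orderOf_one]))]
    exact centralizer_le (zpowers_le.2 (pow_mem (mem_zpowers t) _))

end Cfsg.Agent.BGTwelve
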